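import Groth.Agent.Lib.FundLocal.ExtPowExists
import Groth.Agent.Lib.GrassGen.ExtPowFree
import Groth.Agent.Lib.ExtFilt.Lambda
import Groth.Agent.Lib.Pinch.FrameSpread
import Groth.Agent.Lib.KoszulSh.Divisor.Chart
import Groth.Agent.Lib.TensorMod.LocFree

/-!
# Exterior powers commute with pullback
-/

set_option autoImplicit false
set_option linter.style.haveILetI false
set_option linter.unusedSectionVars false
universe u

open CategoryTheory CategoryTheory.Limits AlgebraicGeometry Opposite TopologicalSpace exteriorPower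

namespace Groth.Agent.Lib.KVec.ExtPowPull

open Groth.Agent.Lib
open Groth.Agent.Lib.TensorMod.Dual (rs rf rs_rs rs_smul rs_self)
open Groth.Agent.Lib.Pinch.StalkFrame (IsFrame rs_pbRes pbRes_rs comb)
open ZarCoh.FlatBC.PullbackSections (pbRes pbRes_smul)

noncomputable section

variable {X : Scheme.{u}}

theorem isFrame_res {M : X.Modules} {n : ℕ} {U V : X.Opens} {e : Fin n → Γ(M, U)}
    (he : IsFrame M U e) (h : V ≤ U) : IsFrame M V fun k => rs M h (e k) := fun x hx => by
  have : (fun c : Fin n → X.presheaf.stalk x => ∑ k, c k • M.presheaf.germ V x hx (rs M h (e k))) =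
      fun c => ∑ k, c k • M.presheaf.germ U x (h hx) (e k) := funext fun c =>
    Finset.sum_congr rfl fun k _ => congrArg (c k • ·) (TopCat.Presheaf.germ_res_apply M.presheaf (homOfLE h) x hx (e k))
  rw [this]
  exact he x (h hx)

/-- The index of a wedge of members of a frame. -/
abbrev idx (n q : ℕ) : Fin (Fintype.card (Set.powersetCard (Fin n) q)) → Set.powersetCard (Fin n) q :=
  (Fintype.equivFin (Set.powersetCard (Fin n) q)).symm

/-- The wedges of a frame form a frame of an exterior power. -/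
theorem isFrame_wedge {E L : X.Modules} {n q : ℕ}
    (φ : ∀ U : X.affineOpens, Γ(L, U.1) ≃ₗ[Γ(X, U.1)] ↥(⋀[Γ(X, U.1)]^q Γ(E, U.1)))
    (hφ : ∀ (U V : X.affineOpens) (h : V.1 ≤ U.1) (e : Fin q → Γ(E, U.1)),
      rs L h ((φ U).symm (ιMulti _ q e)) = (φ V).symm (ιMulti _ q fun j => rs E h (e j)))
    (A : X.affineOpens) {e : Fin n → Γ(E, A.1)} (he : IsFrame E A.1 e) :
    IsFrame L A.1 fun k => (φ A).symm (ιMulti_family Γ(X, A.1) q e (idx n q k)) := by
  classical
  refine GrassGen.ExtPowFree.isFrame_of_affine fun V hV => ?_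
  obtain ⟨b, hb⟩ := KoszulSh.Divisor.exists_basis (isFrame_res he hV)
  let B : Module.Basis (Fin (Fintype.card (Set.powersetCard (Fin n) q))) Γ(X, V.1) Γ(L, V.1) :=
    ((b.exteriorPower q).map (φ V).symm).reindex (Fintype.equivFin _)
  have hB : ∀ k, B k = rs L hV ((φ A).symm (ιMulti_family Γ(X, A.1) q e (idx n q k))) := fun k => by
    show (((b.exteriorPower q).map (φ V).symm).reindex (Fintype.equivFin _)) k = _
    rw [Module.Basis.reindex_apply, Module.Basis.map_apply]
    refine Eq.trans ?_ (hφ A V hV _).symm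
    rw [exteriorPower.basis_apply, hb]
    rfl
  rw [show comb (fun k => (φ A).symm (ιMulti_family Γ(X, A.1) q e (idx n q k))) hV = B.equivFun.symm from
    funext fun c => by simp only [comb, Module.Basis.equivFun_symm_apply, hB]]
  exact B.equivFun.symm.bijective

variable {T : Scheme.{u}} (g : T ⟶ X)

/-- Exterior powers commute with pullback. -/
theorem nonempty_iso_pullback {E L : X.Modules} {i : ℕ} (hE : FlatMod.IsFinLocFree E)
    (hL : ExtPow.IsExtPow i E L) {L' : T.Modules}
    (hL' : ExtPow.IsExtPow i ((Scheme.Modules.pullback g).obj E) L') :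
    Nonempty ((Scheme.Modules.pullback g).obj L ≅ L') := by
  classical
  obtain ⟨φ, hφ⟩ := hL
  let E' := (Scheme.Modules.pullback g).obj E
  have hE' := TensorMod.LocFree.isFinLocFree_pullback g hE
  haveI : E'.IsQuasicoherent := Modules.AffineSections.isQCoh_of_isFinLocFree hE'
  let hu := FundLocal.ExtPowExists.isUnit E' i
  let M := FundLocal.ExtPowExists.ext E' i
  let u := FundLocal.ExtPowExists.unit E' i
  let φ' : ∀ V : T.affineOpens, Γ(M, V.1) ≃ₗ[Γ(T, V.1)] ↥(⋀[Γ(T, V.1)]^i Γ(E', V.1)) := fun V =>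
    (LinearEquiv.ofBijective (u V.1) (FundLocal.ShAffine.bijective hu V.2)).symm
  have hnat : ∀ {W W' : T.Opens} (h : W' ≤ W) (v : Fin i → Γ(E', W)),
      rs M h (u W (ιMulti _ i v)) = u W' (ιMulti _ i fun j => rs E' h (v j)) := fun h v =>
    (hu.nat h _).trans (congrArg _ (FundLocal.ExtPowExists.pr_ιMulti E' i h v))
  have hM : ExtPow.IsExtPow i E' M := ⟨φ', fun U V h v => hnat h v⟩
  obtain ⟨iso⟩ := ExtFilt.Lambda.nonempty_iso_of_isExtPow hM hL'
  let N := (Scheme.Modules.pushforward g).obj M
  let η : ∀ U : X.Opens, Γ(E, U) → Γ(E', g ⁻¹ᵁ U) := fun U => pbRes g E (le_refl (g ⁻¹ᵁ U))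
  let D : ∀ U : X.affineOpens, Γ(E, U.1) [⋀^Fin i]→ₗ[Γ(X, U.1)] Γ(N, U.1) := fun U =>
    { toFun := fun e => u (g ⁻¹ᵁ U.1) (ιMulti _ i fun k => η U.1 (e k))
      map_update_add' := fun {dec} e j v w => by
        obtain rfl : dec = instDecidableEqFin i := Subsingleton.elim _ _
        have h : ∀ v, (fun k => η U.1 (Function.update e j v k)) =
            Function.update (fun k => η U.1 (e k)) j (η U.1 v) := fun v => funext fun k => by
          rcases eq_or_ne k j with rfl | hk
          · simp
          · simp [Function.update_of_ne hk]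
        show u _ _ = u _ _ + u _ _
        rw [h, h, h, show η U.1 (v + w) = η U.1 v + η U.1 w from map_add _ _ _, AlternatingMap.map_update_add, map_add]
        rfl
      map_update_smul' := fun {dec} e j r v => by
        obtain rfl : dec = instDecidableEqFin i := Subsingleton.elim _ _
        have h : ∀ v, (fun k => η U.1 (Function.update e j v k)) =
            Function.update (fun k => η U.1 (e k)) j (η U.1 v) := fun v => funext fun k => by
          rcases eq_or_ne k j with rfl | hk
          · simp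
          · simp [Function.update_of_ne hk]
        show u (g ⁻¹ᵁ U.1) _ = g.app U.1 r • u (g ⁻¹ᵁ U.1) _
        rw [h, h, show η U.1 (r • v) = g.app U.1 r • η U.1 v from
          (pbRes_smul g E (le_refl (g ⁻¹ᵁ U.1)) r v).trans (congrArg (fun c => c r • η U.1 v) (Scheme.Hom.app_eq_appLE g).symm),
          AlternatingMap.map_update_smul, map_smul]
      map_eq_zero_of_eq' := fun e k l h hkl => by
        show u (g ⁻¹ᵁ U.1) _ = 0
        rw [(ιMulti Γ(T, g ⁻¹ᵁ U.1) i).map_eq_zero_of_eq _ (congrArg (η U.1) h) hkl, map_zero] }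
  let F : ∀ U : X.affineOpens, Γ(L, U.1) →ₗ[Γ(X, U.1)] Γ(N, U.1) := fun U =>
    exteriorPower.alternatingMapLinearEquiv (D U) ∘ₗ (φ U).toLinearMap
  have hF : ∀ (U : X.affineOpens) (e : Fin i → Γ(E, U.1)), F U ((φ U).symm (ιMulti _ i e)) = D U e := fun U e => by
    refine (congrArg (exteriorPower.alternatingMapLinearEquiv (D U)) ((φ U).apply_symm_apply _)).trans ?_
    exact exteriorPower.alternatingMapLinearEquiv_apply_ιMulti _ _
  have hc : ∀ (U V : X.affineOpens) (h : V.1 ≤ U.1) (l : Γ(L, U.1)), rs N h (F U l) = F V (rs L h l) := by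
    intro U V h l
    obtain ⟨t, rfl⟩ := (φ U).symm.surjective l
    have ht : t ∈ Submodule.span Γ(X, U.1) (Set.range (ιMulti Γ(X, U.1) i (M := Γ(E, U.1)))) := by
      rw [ιMulti_span]; trivial
    induction ht using Submodule.span_induction with
    | mem t ht =>
      obtain ⟨e, rfl⟩ := ht
      refine (congrArg (rs N h) (hF U e)).trans (Eq.trans ?_ ((congrArg (F V) (hφ U V h e)).trans (hF V _)).symm)
      refine (hnat (g.preimage_mono h) _).trans (congrArg (u (g ⁻¹ᵁ V.1)) (congrArg _ (funext fun k => ?_)))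
      exact (rs_pbRes g E _ _ (e k)).trans (pbRes_rs g E h (le_refl (g ⁻¹ᵁ V.1)) (e k)).symm
    | zero =>
      have h0 : rs N h (F U ((φ U).symm 0)) = 0 :=
        ((congrArg (fun x => rs N h (F U x)) (map_zero (φ U).symm)).trans (congrArg (rs N h) (map_zero (F U)))).trans
          (Modules.TensorSec.rs_zero _ _)
      have h1 : F V (rs L h ((φ U).symm 0)) = 0 :=
        (congrArg (fun x => F V (rs L h x)) (map_zero (φ U).symm)).trans
          ((congrArg (F V) (Modules.TensorSec.rs_zero _ _)).trans (map_zero (F V)))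
      exact h0.trans h1.symm
    | add a b _ _ ha hb =>
      have h0 : rs N h (F U ((φ U).symm (a + b))) = rs N h (F U ((φ U).symm a)) + rs N h (F U ((φ U).symm b)) :=
        ((congrArg (fun x => rs N h (F U x)) (map_add (φ U).symm a b)).trans (congrArg (rs N h) (map_add (F U) _ _))).trans
          (Modules.TensorSec.rs_add _ _ _ _)
      have h1 : F V (rs L h ((φ U).symm (a + b))) = F V (rs L h ((φ U).symm a)) + F V (rs L h ((φ U).symm b)) :=
        (congrArg (fun x => F V (rs L h x)) (map_add (φ U).symm a b)).trans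
          ((congrArg (F V) (Modules.TensorSec.rs_add _ _ _ _)).trans (map_add (F V) _ _))
      exact h0.trans ((congrArg₂ (· + ·) ha hb).trans h1.symm)
    | smul r b _ hb =>
      have h0 : rs N h (F U ((φ U).symm (r • b))) = X.presheaf.map (homOfLE h).op r • rs N h (F U ((φ U).symm b)) :=
        ((congrArg (fun x => rs N h (F U x)) (map_smul (φ U).symm r b)).trans (congrArg (rs N h) (map_smul (F U) _ _))).trans
          (rs_smul _ _ _ _)
      have h1 : F V (rs L h ((φ U).symm (r • b))) = X.presheaf.map (homOfLE h).op r • F V (rs L h ((φ U).symm b)) :=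
        (congrArg (fun x => F V (rs L h x)) (map_smul (φ U).symm r b)).trans
          ((congrArg (F V) (rs_smul _ _ _ _)).trans (map_smul (F V) _ _))
      exact h0.trans ((congrArg (X.presheaf.map (homOfLE h).op r • ·) hb).trans h1.symm)
  obtain ⟨ψ₀, hψ₀⟩ := Modules.AffineHom.exists_hom_of_affine F hc
  let ψ := ((Scheme.Modules.pullbackPushforwardAdjunction g).homEquiv _ _).symm ψ₀
  have hψ : ∀ (U : X.affineOpens) (e : Fin i → Γ(E, U.1)) (W : T.Opens) (hW : W ≤ g ⁻¹ᵁ U.1),
      ψ.app W (pbRes g L hW ((φ U).symm (ιMulti _ i e))) = u W (ιMulti _ i fun k => pbRes g E hW (e k)) := by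
    intro U e W hW
    have h1 : ((Scheme.Modules.pullbackPushforwardAdjunction g).homEquiv _ _ ψ).app U.1
        ((φ U).symm (ιMulti _ i e)) = D U e := by
      rw [Equiv.apply_symm_apply, hψ₀, hF]
    rw [Adjunction.homEquiv_unit] at h1
    have h2 : ψ.app W (pbRes g L hW ((φ U).symm (ιMulti _ i e))) = rs M hW (D U e) :=
      (Modules.TensorSec.app_rs ψ hW _).trans (congrArg (rs M hW) h1)
    refine h2.trans ((hnat hW _).trans (congrArg (u W) (congrArg _ (funext fun k => ?_))))
    exact rs_pbRes g E (le_refl (g ⁻¹ᵁ U.1)) hW (e k)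
  haveI : IsIso ψ := Pinch.StalkFrame.isIso_of_frames ψ fun t => by
    obtain ⟨U₀, n, e, htU, he⟩ := Pinch.StalkFrame.exists_isFrame hE (g.base t)
    obtain ⟨A, hA, htA⟩ := Modules.AffineHom.exists_affine htU
    obtain ⟨W, hW, htW⟩ := Modules.AffineHom.exists_affine (show t ∈ g ⁻¹ᵁ A.1 from htA)
    have heA := isFrame_res he hA
    have hw := isFrame_wedge φ (fun U V h e => hφ U V h e) A heA
    have hw' := isFrame_wedge φ' (fun U V h v => hnat h v) W (heA.pbRes g hW)
    refine ⟨W.1, _, _, htW, hw.pbRes g hW, ?_⟩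
    refine (congrArg (IsFrame M W.1) (funext fun k => ?_)).mp hw'
    exact (hψ A _ W.1 hW).symm
  exact ⟨asIso ψ ≪≫ iso⟩

end

end Groth.Agent.Lib.KVec.ExtPowPull
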