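import Groth.Agent.Lib.Devissage.Localization
import Groth.Agent.Lib.TensorMod.LocFree
import Groth.Agent.Lib.Modules.ProjFormula
import Groth.Agent.Lib.Modules.DualBasis
import Groth.Agent.Lib.ProjCoh.Coherent
import Groth.Agent.Lib.Perfect.Coherent
import Groth.Agent.Lib.DerivedOX.PushExact
import Groth.Agent.Lib.CohDelta.IdealMul.FinPush
import Groth.Agent.Lib.TensorMod.Pullback

/-!
# `[V] - r` is nilpotent on `K₀` of coherent modules
-/

set_option autoImplicit false
set_option linter.style.haveILetI false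
set_option linter.unusedSectionVars false
universe u

open CategoryTheory CategoryTheory.Limits AlgebraicGeometry ZeroObject

namespace Groth.Agent.Lib.KVec.KcohNil

open Groth.Agent.Lib

noncomputable section

attribute [local instance] HasFiniteBiproducts.of_hasFiniteProducts

variable {X : Scheme.{u}}

local notation "cohP" => (fun M : Scheme.Modules _ => Coh.IsCoh M)

/-- The class of a coherent module. -/
abbrev c (M : X.Modules) : SGA6.Kcoh X := KZero.clSub (fun M : X.Modules => Coh.IsCoh M) M

theorem c_iso {A B : X.Modules} (e : A ≅ B) (hA : Coh.IsCoh A) : c A = c B :=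
  Devissage.Localization.clSub_congr e hA (CohBasics.Closure.isCoh_of_iso e hA)
    (CohBasics.Closure.isCoh_cokernel _ hA.1 hA)

theorem c_zero {A : X.Modules} (h : IsZero A) (hA : Coh.IsCoh A) : c A = 0 :=
  KRes.KSub.clSub_zero h hA

theorem isCoh_tensor [IsLocallyNoetherian X] {V G : X.Modules} (hV : FlatMod.IsFinLocFree V)
    (hG : Coh.IsCoh G) : Coh.IsCoh (CohB1.tensorMod V G) :=
  ProjCoh.Coherent.isCoh_tensorMod (Perfect.Coherent.isCoh_of_isFinLocFree hV) hG

/-- The class of `O^r ⊗ G`. -/
theorem c_free_tensor [IsLocallyNoetherian X] {G : X.Modules} (hG : Coh.IsCoh G) :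
    ∀ r : ℕ, c (CohB1.tensorMod (FlatMod.freeMod X r) G) = r • c G := by
  intro r
  induction r with
  | zero =>
    rw [zero_smul]
    refine c_zero ?_ (isCoh_tensor (TensorMod.LocFree.of_rank (TensorMod.LocFree.isFinLocFree_freeMod X 0)) hG)
    haveI := TensorMod.LocFree.preservesFinCoproducts (TensorMod.Basic.tensorBy G) (Fin 0)
    refine IsZero.of_iso ?_ (PreservesCoproduct.iso (TensorMod.Basic.tensorBy G)
      (fun _ : Fin 0 => Coh.structureModule X))
    exact (IsZero.iff_id_eq_zero _).2 (Sigma.hom_ext _ _ fun a => a.elim0)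
  | succ m ih =>
    haveI := TensorMod.LocFree.preservesFinCoproducts (TensorMod.Basic.tensorBy G) WalkingPair
    have hf : ∀ k, Coh.IsCoh (CohB1.tensorMod (FlatMod.freeMod X k) G) := fun k =>
      isCoh_tensor (TensorMod.LocFree.of_rank (TensorMod.LocFree.isFinLocFree_freeMod X k)) hG
    let e : CohB1.tensorMod (FlatMod.freeMod X m) G ⊞ CohB1.tensorMod (FlatMod.freeMod X 1) G ≅
        CohB1.tensorMod (FlatMod.freeMod X (m + 1)) G :=
      biprod.isoCoprod _ _ ≪≫ PreservesColimitPair.iso (TensorMod.Basic.tensorBy G) _ _ ≪≫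
        (TensorMod.Basic.tensorBy G).mapIso (TensorMod.LocFree.freeModAddIso X m 1)
    have hS := (ShortComplex.Splitting.ofHasBinaryBiproduct (CohB1.tensorMod (FlatMod.freeMod X m) G)
      (CohB1.tensorMod (FlatMod.freeMod X 1) G)).shortExact
    have hb : Coh.IsCoh (CohB1.tensorMod (FlatMod.freeMod X m) G ⊞ CohB1.tensorMod (FlatMod.freeMod X 1) G) :=
      CohBasics.Closure.isCoh_biprod (hf m) (hf 1)
    have h := KRes.KSub.rel (P := fun M : X.Modules => Coh.IsCoh M) hS (hf m) hb (hf 1)
    dsimp at h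
    rw [← c_iso e hb]
    refine h.trans ?_
    rw [succ_nsmul, ← ih]
    refine congrArg₂ (· + ·) rfl ?_
    exact c_iso (TensorMod.Basic.tensorIso (TensorMod.LocFree.freeModOneIso X) (Iso.refl G) ≪≫
      TensorMod.Basic.leftUnit G) (hf 1)

/-- `G ↦ [V ⊗ G] - r [G]`. -/
def IsShift (V : X.Modules) (r : ℕ) (T : SGA6.Kcoh X →+ SGA6.Kcoh X) : Prop :=
  ∀ G, Coh.IsCoh G → T (c G) = c (CohB1.tensorMod V G) - r • c G

theorem exists_isShift [IsLocallyNoetherian X] {V : X.Modules} (hV : FlatMod.IsFinLocFree V) (r : ℕ) :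
    ∃ T, IsShift V r T := by
  haveI := Modules.DualAdj.tensorL_preservesHomology (Modules.DualBasis.hasDBases_of_isFinLocFree hV)
  haveI := Functor.preservesFiniteLimits_of_preservesHomology (Modules.DualAdj.tensorL V)
  haveI := Functor.preservesFiniteColimits_of_preservesHomology (Modules.DualAdj.tensorL V)
  let t : SGA6.Kcoh X →+ SGA6.Kcoh X := SGA6.mapSub (Modules.DualAdj.tensorL V)
    (fun M : X.Modules => Coh.IsCoh M) (fun M : X.Modules => Coh.IsCoh M) fun M hM => isCoh_tensor hV hM
  refine ⟨t - r • AddMonoidHom.id _, fun G hG => ?_⟩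
  show t (c G) - r • c G = _
  rw [KRes.KSub.mapSub_cl _ _ hG]
  rfl

theorem nilpotent : ∀ (k : ℕ) {X : Scheme.{u}} [IsNoetherian X] {V : X.Modules}
    (_ : FlatMod.IsFinLocFree V) (r : ℕ) (U : Fin k → X.Opens) (_ : ∀ x, ∃ a, x ∈ U a)
    (_ : ∀ a, Nonempty ((Scheme.Modules.pullback (U a).ι).obj V ≅ FlatMod.freeMod (U a : Scheme.{u}) r))
    {T : SGA6.Kcoh X →+ SGA6.Kcoh X} (_ : IsShift V r T) (y : SGA6.Kcoh X), (⇑T)^[k] y = 0 := by
  intro k
  induction k with
  | zero =>
    intro X _ V hV r U hcov htriv T hT y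
    haveI : IsEmpty X := ⟨fun x => (hcov x).choose.elim0⟩
    have : AddMonoidHom.id (SGA6.Kcoh X) = 0 := KRes.KSub.hom_ext fun G hG =>
      c_zero (Modules.Support.support_eq_empty_iff.mp (Subsingleton.elim _ _)) hG
    exact DFunLike.congr_fun this y
  | succ k ih =>
    intro X _ V hV r U hcov htriv T hT y
    let U₀ := U 0
    let I := Scheme.IdealSheafData.vanishingIdeal ⟨(U₀ : Set X)ᶜ, U₀.isOpen.isClosed_compl⟩
    let X' := I.subscheme
    let i : X' ⟶ X := I.subschemeι
    have hrange : Set.range i = (U₀ : Set X)ᶜ := by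
      rw [Scheme.IdealSheafData.range_subschemeι, Scheme.IdealSheafData.coe_support_vanishingIdeal]
      rfl
    have hU : Set.range U₀.ι = (Set.range i)ᶜ := by rw [hrange, compl_compl, Scheme.Opens.range_ι]
    haveI : IsLocallyNoetherian X' := LocallyOfFiniteType.isLocallyNoetherian i
    haveI : CompactSpace X' := QuasiCompact.compactSpace_of_compactSpace i
    haveI : IsNoetherian X' := { }
    haveI := DerivedOX.PushExact.preservesFiniteColimits_pushforward i
    haveI : PreservesLimitsOfSize.{u, u} (Scheme.Modules.pushforward i) :=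
      (Scheme.Modules.pullbackPushforwardAdjunction i).rightAdjoint_preservesLimits
    haveI : PreservesFiniteLimits (Scheme.Modules.pushforward i) :=
      PreservesLimitsOfSize.preservesFiniteLimits _
    have hi : ∀ M : X'.Modules, Coh.IsCoh M → Coh.IsCoh ((Scheme.Modules.pushforward i).obj M) :=
      fun M hM => CohDelta.IdealMul.FinPush.isCoh_push i hM
    let R := Scheme.Modules.restrictFunctor U₀.ι
    haveI := Devissage.Localization.preservesFiniteColimits_restrict U₀.ι
    have hj : ∀ M : X.Modules, Coh.IsCoh M → Coh.IsCoh (R.obj M) := fun M hM =>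
      Devissage.Localization.isCoh_restrict U₀.ι hM
    obtain ⟨-, hker⟩ := Devissage.Localization.exact_sequence i U₀.ι hU hi hj
    let res := SGA6.mapSub R (fun M : X.Modules => Coh.IsCoh M) (fun M : (U₀ : Scheme.{u}).Modules => Coh.IsCoh M) hj
    haveI := Devissage.Localization.isNoetherian_open U₀.ι
    obtain ⟨φ⟩ := htriv 0
    have h0 : res.comp T = 0 := KRes.KSub.hom_ext fun G hG => by
      show res (T (c G)) = 0
      rw [hT G hG, map_sub, map_nsmul, KRes.KSub.mapSub_cl _ hj (isCoh_tensor hV hG),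
        KRes.KSub.mapSub_cl _ hj hG, sub_eq_zero, ← c_free_tensor (hj G hG) r]
      exact c_iso (TensorMod.Pullback.restrictTensorIso U₀.ι V G ≪≫ TensorMod.Basic.tensorIso
        ((Scheme.Modules.restrictFunctorIsoPullback U₀.ι).app V ≪≫ φ) (Iso.refl _)) (hj _ (isCoh_tensor hV hG))
    obtain ⟨y', hy'⟩ := hker.le (show T y ∈ res.ker from DFunLike.congr_fun h0 y)
    obtain ⟨T', hT'⟩ := exists_isShift (TensorMod.LocFree.isFinLocFree_pullback i hV) r
    let push : SGA6.Kcoh X' →+ SGA6.Kcoh X := SGA6.mapSub (Scheme.Modules.pushforward i)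
      (fun M : X'.Modules => Coh.IsCoh M) (fun M : X.Modules => Coh.IsCoh M) hi
    have hcomm : T.comp push = push.comp T' := KRes.KSub.hom_ext fun G hG => by
      show T (push (c G)) = push (T' (c G))
      have hVG := isCoh_tensor (TensorMod.LocFree.isFinLocFree_pullback i hV) hG
      rw [hT' G hG, map_sub, map_nsmul, KRes.KSub.mapSub_cl _ hi hG, KRes.KSub.mapSub_cl _ hi hVG,
        hT _ (hi G hG)]
      congr 1
      exact c_iso ((Modules.ProjFormula.projIso i (Modules.DualBasis.hasDBases_of_isFinLocFree hV)).app G)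
        (isCoh_tensor hV (hi G hG))
    have hiter : ∀ m, (⇑T)^[m] (push y') = push ((⇑T')^[m] y') := by
      intro m
      induction m with
      | zero => rfl
      | succ m hm =>
        rw [Function.iterate_succ_apply', Function.iterate_succ_apply', hm]
        exact DFunLike.congr_fun hcomm _
    rw [Function.iterate_succ_apply, ← hy']
    refine (hiter k).trans ?_
    rw [ih (TensorMod.LocFree.isFinLocFree_pullback i hV) r (fun a => i ⁻¹ᵁ U a.succ) (fun x => ?_) (fun a => ?_) hT' y',
      map_zero]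
    · obtain ⟨a, ha⟩ := hcov (i x)
      obtain rfl | ⟨b, rfl⟩ := a.eq_zero_or_eq_succ
      · exact absurd ha (hrange.le ⟨x, rfl⟩)
      · exact ⟨b, ha⟩
    · obtain ⟨ψ⟩ := htriv a.succ
      exact ⟨(Scheme.Modules.pullbackComp _ i).app V ≪≫
        (Scheme.Modules.pullbackCongr (morphismRestrict_ι i (U a.succ)).symm).app V ≪≫
        ((Scheme.Modules.pullbackComp _ _).app V).symm ≪≫ (Scheme.Modules.pullback (i ∣_ U a.succ)).mapIso ψ ≪≫
        TensorMod.LocFree.pullbackFreeModIso _ r⟩

end

end Groth.Agent.Lib.KVec.KcohNil
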