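import Groth.Agent.Lib.GrassGen.ExtPowFree
import Mathlib.LinearAlgebra.ExteriorPower.Basis

/-!
# The rank of an exterior power of a vector bundle
-/

set_option autoImplicit false
set_option linter.style.haveILetI false
universe u

open CategoryTheory CategoryTheory.Limits AlgebraicGeometry Opposite TopologicalSpace

namespace Groth.Agent.Lib.KVec.ExtRank

open Groth.Agent.Lib Groth.Agent.Lib.GrassGen.ExtPowFree
open Groth.Agent.Lib.TensorMod.Dual (rs rf rs_rs rs_self rf_rf)
open Groth.Agent.Lib.Modules.AffineHom (exists_affine)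

variable {X : Scheme.{u}}

/-- The `q`-th exterior power of a bundle of rank `n` has rank `n choose q`. -/
theorem rank_extPow {E L : X.Modules} {n q : ℕ} (hE : FlatMod.IsFinLocFreeOfRank n E)
    (hL : ExtPow.IsExtPow q E L) : FlatMod.IsFinLocFreeOfRank (n.choose q) L := by
  classical
  obtain ⟨φ, hφ⟩ := hL
  intro x
  obtain ⟨U, hxU, ⟨i⟩⟩ := hE x
  obtain ⟨e₀, he₀⟩ := TensorMod.Basis.exists_basis_of_iso i
  obtain ⟨A, hAU, hxA⟩ := exists_affine hxU
  let e := fun k => rs E hAU (e₀ k)
  have he : TensorMod.Basis.IsBasis e := he₀.res hAU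
  let I := Set.powersetCard (Fin n) q
  have hcard : Fintype.card I = n.choose q := by
    rw [← Nat.card_eq_fintype_card, Set.powersetCard.card, Nat.card_eq_fintype_card, Fintype.card_fin]
  let ε : I ≃ Fin (n.choose q) := (Fintype.equivFin I).trans (finCongr hcard)
  let w : Fin (n.choose q) → Γ(L, A.1) := fun k =>
    (φ A).symm (exteriorPower.ιMulti_family Γ(X, A.1) q e (ε.symm k))
  have hw : Pinch.StalkFrame.IsFrame L A.1 w := isFrame_of_affine fun V hV => by
    let b : Module.Basis (Fin n) Γ(X, V.1) Γ(E, V.1) :=
      Module.Basis.ofEquivFun (LinearEquiv.ofBijective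
        (Fintype.linearCombination Γ(X, V.1) fun k => rs E hV (e k)) (by
          rw [show ⇑(Fintype.linearCombination Γ(X, V.1) fun k => rs E hV (e k)) = TensorMod.Basis.comb e hV from
            funext fun a => by simp only [Fintype.linearCombination_apply, TensorMod.Basis.comb]]
          exact he V.1 hV)).symm
    have hb : ⇑b = fun k => rs E hV (e k) := funext fun k => by
      simp only [b, Module.Basis.coe_ofEquivFun, LinearEquiv.symm_symm, LinearEquiv.ofBijective_apply]
      exact (Fintype.linearCombination_apply_single _ _ k 1).trans (one_smul _ _)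
    let B : Module.Basis (Fin (n.choose q)) Γ(X, V.1) Γ(L, V.1) :=
      ((b.exteriorPower q).map (φ V).symm).reindex ε
    have hB : ∀ k, B k = rs L hV (w k) := fun k => by
      show (((b.exteriorPower q).map (φ V).symm).reindex ε) k = _
      rw [Module.Basis.reindex_apply, Module.Basis.map_apply]
      refine Eq.trans ?_ (hφ A V hV _).symm
      rw [exteriorPower.basis_apply, hb]
      rfl
    rw [show Pinch.StalkFrame.comb w hV = B.equivFun.symm from funext fun c => by
      simp only [Pinch.StalkFrame.comb, Module.Basis.equivFun_symm_apply, hB]]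
    exact B.equivFun.symm.bijective
  exact ⟨A.1, hxA, TensorMod.Basis.exists_iso_of_basis (e := w) fun V hV =>
    ⟨Pinch.StalkFrame.comb_injective hw hV, Pinch.StalkFrame.comb_surjective hw hV⟩⟩

end Groth.Agent.Lib.KVec.ExtRank
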