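import Groth.Agent.Lib.DerivedOX.PullbackStalk
import Groth.Agent.Lib.Devissage.LocFreeK0
import Groth.Agent.Lib.TensorMod.LocFree
import Groth.Agent.Lib.KRes.KSub
import Mathlib.Algebra.Homology.ShortComplex.Abelian
import Mathlib.CategoryTheory.Preadditive.Projective.Basic

/-!
# Pullback of short exact sequences of vector bundles
-/

set_option autoImplicit false
set_option linter.style.haveILetI false
universe u

open CategoryTheory CategoryTheory.Limits AlgebraicGeometry

namespace Groth.Agent.Lib.KVec.Pull

open Groth.Agent.Lib Groth.Agent.Lib.Modules.StalkModule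

variable {X Y : Scheme.{u}} (f : X ⟶ Y)

theorem shortExact_pullback' {S : ShortComplex Y.Modules} (hS : S.ShortExact)
    (h₃ : ∀ x : X, Projective ((stalkModFunctor Y (f.base x)).obj S.X₃)) :
    (S.map (Scheme.Modules.pullback f)).ShortExact := by
  haveI : PreservesColimitsOfSize.{u, u} (Scheme.Modules.pullback f) :=
    (Scheme.Modules.pullbackPushforwardAdjunction f).leftAdjoint_preservesColimits
  haveI : PreservesFiniteColimits (Scheme.Modules.pullback f) :=
    PreservesColimitsOfSize.preservesFiniteColimits _
  haveI : Mono ((Scheme.Modules.pullback f).map S.f) := (mono_iff_stalkMapₗ_injective _).2 fun x => by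
    haveI : PreservesFiniteColimits (stalkModFunctor Y (f.base x)) :=
      PreservesColimitsOfSize.preservesFiniteColimits _
    have hx := hS.map_of_exact (stalkModFunctor Y (f.base x))
    haveI := h₃ x
    haveI : Projective (S.map (stalkModFunctor Y (f.base x))).X₃ := this
    let s := hx.splittingOfProjective
    haveI hsplit : IsSplitMono ((stalkModFunctor Y (f.base x)).map S.f) := IsSplitMono.mk' ⟨s.r, s.f_r⟩
    let c := DerivedOX.PullbackStalk.comparison f x
    haveI hm : Mono ((stalkModFunctor Y (f.base x) ⋙
        ModuleCat.extendScalars.{u, u, u} (f.stalkMap x).hom).map S.f) :=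
      inferInstanceAs (Mono ((ModuleCat.extendScalars.{u, u, u} (f.stalkMap x).hom).map
        ((stalkModFunctor Y (f.base x)).map S.f)))
    have h : (Scheme.Modules.pullback f ⋙ stalkModFunctor X x).map S.f =
        inv (c.app S.X₁) ≫ (stalkModFunctor Y (f.base x) ⋙
          ModuleCat.extendScalars.{u, u, u} (f.stalkMap x).hom).map S.f ≫ c.app S.X₂ := by
      rw [IsIso.eq_inv_comp]
      exact (c.naturality S.f).symm
    have : Mono ((Scheme.Modules.pullback f ⋙ stalkModFunctor X x).map S.f) := by
      rw [h]; infer_instance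
    exact (ModuleCat.mono_iff_injective _).1 this
  haveI := hS.mono_f
  haveI := hS.epi_g
  haveI : Mono (S.map (Scheme.Modules.pullback f)).f :=
    inferInstanceAs (Mono ((Scheme.Modules.pullback f).map S.f))
  exact ShortComplex.ShortExact.mk'
    ((S.map (Scheme.Modules.pullback f)).exact_of_g_is_cokernel
      (CokernelCofork.mapIsColimit _ hS.gIsCokernel (Scheme.Modules.pullback f)))
    inferInstance (inferInstanceAs (Epi ((Scheme.Modules.pullback f).map S.g)))

theorem shortExact_pullback {S : ShortComplex Y.Modules} (hS : S.ShortExact)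
    (h₃ : FlatMod.IsFinLocFree S.X₃) : (S.map (Scheme.Modules.pullback f)).ShortExact :=
  shortExact_pullback' f hS fun x => Devissage.LocFreeK0.projective_of_locFree h₃ (f.base x)

/-- Pullback on `K₀` of vector bundles. -/
theorem exists_pull : ∃ g : SGA6.Kvb Y →+ SGA6.Kvb X, ∀ E : Y.Modules, FlatMod.IsFinLocFree E →
    g (KZero.clSub (fun M : Y.Modules => FlatMod.IsFinLocFree M) E) =
      KZero.clSub (fun M : X.Modules => FlatMod.IsFinLocFree M) ((Scheme.Modules.pullback f).obj E) :=
  ⟨KRes.KSub.lift (fun E => KZero.clSub (fun M : X.Modules => FlatMod.IsFinLocFree M)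
      ((Scheme.Modules.pullback f).obj E)) fun S hS h₁ h₂ h₃ =>
    KRes.KSub.rel (P := fun M : X.Modules => FlatMod.IsFinLocFree M) (shortExact_pullback f hS h₃)
      (TensorMod.LocFree.isFinLocFree_pullback f h₁) (TensorMod.LocFree.isFinLocFree_pullback f h₂)
      (TensorMod.LocFree.isFinLocFree_pullback f h₃),
    fun _ hE => KRes.KSub.lift_cl _ _ hE⟩

end Groth.Agent.Lib.KVec.Pull
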