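import Groth.Agent.Lib.KVec.PushBPD
import Groth.Agent.Lib.Devissage.LFResIff
import Groth.Agent.Lib.Modules.ProjFormula
import Groth.Agent.Lib.Modules.DualBasis
import Groth.Agent.Lib.TensorMod.LocFree
import Groth.Agent.Lib.KRes.KSub
import Groth.Prelude.Def_KRR

/-!
# The push-forward of `K₀` of bundles along regular closed immersions
-/

set_option autoImplicit false
set_option linter.style.haveILetI false
set_option linter.unusedSectionVars false
universe v u

open CategoryTheory CategoryTheory.Limits AlgebraicGeometry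

namespace Groth.Agent.Lib.KVec.PushCl

open Groth.Agent.Lib Groth.Agent.Lib.Regular.PD Groth.Agent.Lib.Devissage.ResolvableK0
open Groth.Agent.Lib.Modules.StalkModule Groth.Agent.Lib.Devissage.LocFreeK0 Groth.Agent.Lib.KRes.Dim

noncomputable section

variable {Y : Scheme.{u}} [IsNoetherian Y]

local notation "Pb" => (fun M : Y.Modules => BPD M)

theorem bpd_X3 {S : ShortComplex Y.Modules} (hS : S.ShortExact) (h₁ : BPD S.X₁) (h₂ : BPD S.X₂) :
    BPD S.X₃ := by
  obtain ⟨a, ha⟩ := h₁.2
  obtain ⟨b, hb⟩ := h₂.2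
  haveI := hS.epi_g
  exact ⟨CohBasics.Closure.isCoh_of_iso
      ((cokernelIsCokernel S.f).coconePointUniqueUpToIso hS.gIsCokernel)
      (CohBasics.Closure.isCoh_cokernel S.f h₁.1.1 h₂.1), max a b + 1, fun x =>
    (hS.map_of_exact (stalkModFunctor Y x)).hasProjectiveDimensionLT_X₃ (max a b + 1)
      (pd_mono (ha x) (le_max_left _ _))
      (pd_mono (hb x) (Nat.le_succ_of_le (le_max_right _ _)))⟩

theorem bpd_of_iso {A B : Y.Modules} (e : A ≅ B) (h : BPD A) : BPD B :=
  ⟨CohBasics.Closure.isCoh_of_iso e h.1, h.2.choose, fun x => pd_of_iso e (h.2.choose_spec x)⟩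

variable (hres : KRR.HasEnoughLocFree Y)
include hres

theorem bpd_induction {Q : Y.Modules → Prop} (h0 : ∀ E, FlatMod.IsFinLocFree E → Q E)
    (h1 : ∀ S : ShortComplex Y.Modules, S.ShortExact → BPD S.X₁ → FlatMod.IsFinLocFree S.X₂ →
      BPD S.X₃ → Q S.X₁ → Q S.X₃) {A : Y.Modules} (hA : BPD A) : Q A := by
  obtain ⟨n, hn⟩ := hdim hres hA
  induction n generalizing A with
  | zero => exact h0 A hn
  | succ n ih =>
    obtain ⟨E, p, hE, hp⟩ := hres A hn.1.1
    let c := Cover.ofEpi (fun M : Y.Modules => FlatMod.IsFinLocFree M) p hE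
    exact h1 _ c.se (dim_P₁ _ (hyp hres).hle (hn.2 c)) hE hn.1
      (ih (dim_P₁ _ (hyp hres).hle (hn.2 c)) (hn.2 c))

/-- The class in `K₀` of bundles of a coherent module of bounded projective dimension. -/
def χ : KZero.K0sub Pb →+ SGA6.Kvb Y :=
  (AddEquiv.ofBijective _ (bijective_bpd hres)).symm.toAddMonoidHom

def χcl (G : Y.Modules) : SGA6.Kvb Y := χ hres (KZero.clSub Pb G)

theorem χcl_add {S : ShortComplex Y.Modules} (hS : S.ShortExact) (h₁ : BPD S.X₁) (h₂ : BPD S.X₂)
    (h₃ : BPD S.X₃) : χcl hres S.X₂ = χcl hres S.X₁ + χcl hres S.X₃ := by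
  simp only [χcl]
  rw [KRes.KSub.rel (P := Pb) hS h₁ h₂ h₃, map_add]

theorem χcl_locFree {E : Y.Modules} (hE : FlatMod.IsFinLocFree E) : χcl hres E = KRR.cl Y E := by
  refine (AddEquiv.symm_apply_eq _).2 ?_
  exact (KRes.KSub.mapSub_cl (𝟭 Y.Modules) (hyp hres).hle hE).symm

theorem χcl_iso {A B : Y.Modules} (e : A ≅ B) (hA : BPD A) : χcl hres A = χcl hres B := by
  let S := ShortComplex.mk e.hom (0 : B ⟶ kernel (𝟙 A)) comp_zero
  have hS : S.ShortExact := KRes.KSub.shortExact_iso e (isZero_kernel_of_mono (𝟙 A))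
  have hB : BPD B := bpd_of_iso e hA
  have hZ : BPD (kernel (𝟙 A)) := bpd_X3 hS hA hB
  have h := χcl_add hres hS hA hB hZ
  have h' : χcl hres (kernel (𝟙 A)) = 0 := by
    simp only [χcl]
    rw [KRes.KSub.clSub_zero (P := Pb) (isZero_kernel_of_mono (𝟙 A)) hZ, map_zero]
  rw [show S.X₃ = kernel (𝟙 A) from rfl, h', add_zero] at h
  exact h.symm

theorem χcl_eq_of_locFree {M : Type v} [AddCommGroup M] (a b : Y.Modules → M)
    (ha : ∀ S : ShortComplex Y.Modules, S.ShortExact → BPD S.X₁ → BPD S.X₂ → BPD S.X₃ → a S.X₂ = a S.X₁ + a S.X₃)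
    (hb : ∀ S : ShortComplex Y.Modules, S.ShortExact → BPD S.X₁ → BPD S.X₂ → BPD S.X₃ → b S.X₂ = b S.X₁ + b S.X₃)
    (h : ∀ E, FlatMod.IsFinLocFree E → a E = b E) {G : Y.Modules} (hG : BPD G) : a G = b G := by
  refine bpd_induction hres (Q := fun G => a G = b G) h (fun S hS h₁ h₂ h₃ ih => ?_) hG
  have e := ha S hS h₁ (bpd_of_locFree h₂) h₃
  rw [h _ h₂, hb S hS h₁ (bpd_of_locFree h₂) h₃, ih] at e
  exact (add_left_cancel e).symm

theorem bpd_map {Z : Scheme.{u}} [IsNoetherian Z] (T : Y.Modules ⥤ Z.Modules) [T.PreservesZeroMorphisms]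
    (hT : ∀ S : ShortComplex Y.Modules, S.ShortExact → (S.map T).ShortExact)
    (h0 : ∀ E, FlatMod.IsFinLocFree E → BPD (T.obj E)) {G : Y.Modules} (hG : BPD G) : BPD (T.obj G) :=
  bpd_induction hres (Q := fun G => BPD (T.obj G)) h0
    (fun _ hS _ h₂ _ ih => bpd_X3 (hT _ hS) ih (h0 _ h₂)) hG

/-- The class of a module is the alternating sum over any finite locally free resolution. -/
theorem χcl_res {G : Y.Modules} {n : ℕ} {L : ChainComplex Y.Modules ℕ}
    {π : L ⟶ (ChainComplex.single₀ Y.Modules).obj G} (h : KRR.IsLFRes G n L π) :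
    χcl hres G = ∑ k ∈ Finset.range (n + 1), (-1 : ℤ) ^ k • KRR.cl Y (L.X k) := by
  haveI := h.quasiIso
  have hex : ∀ i, L.ExactAt (i + 1) := fun i =>
    (quasiIsoAt_iff_exactAt' π (i + 1) (HomologicalComplex.exactAt_single_obj _ _ _ _ (by simp))).1 inferInstance
  have key : ∀ j k, j + k = n → BPD (L.opcycles k) ∧
      χcl hres (L.opcycles k) = ∑ i ∈ Finset.range (j + 1), (-1 : ℤ) ^ i • KRR.cl Y (L.X (k + i)) := by
    intro j
    induction j with
    | zero =>
      intro k hk
      obtain rfl : k = n := by omega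
      haveI := L.isIso_pOpcycles (k + 1) k (by simp) ((h.isZero (k + 1) (by omega)).eq_of_src _ _)
      refine ⟨bpd_of_iso (asIso (L.pOpcycles k)) (bpd_of_locFree (h.finLocFree k)), ?_⟩
      rw [← χcl_iso hres (asIso (L.pOpcycles k)) (bpd_of_locFree (h.finLocFree k)),
        χcl_locFree hres (h.finLocFree k)]
      simp
    | succ j ih =>
      intro k hk
      have w : L.fromOpcycles (k + 1) k ≫ L.pOpcycles k = 0 := by
        rw [← cancel_epi (L.pOpcycles (k + 1)), HomologicalComplex.p_fromOpcycles_assoc]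
        simp
      have hmono : Mono (L.fromOpcycles (k + 1) k) := by
        refine Preadditive.mono_of_isZero_kernel' _ (L.homologyIsKernel (k + 1) k (by simp)) ?_
        exact (L.exactAt_iff_isZero_homology (k + 1)).1 (hex k)
      have hS : (ShortComplex.mk _ _ w).ShortExact := by
        refine ShortComplex.ShortExact.mk' ?_ hmono inferInstance
        exact ShortComplex.exact_of_g_is_cokernel _ (isCokernelOfComp (L.pOpcycles (k + 1)) (L.d (k + 1) k)
          (L.opcyclesIsCokernel (k + 1) k (by simp)) w (by simp))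
      obtain ⟨h₁, e₁⟩ := ih (k + 1) (by omega)
      have h₂ : BPD (L.X k) := bpd_of_locFree (h.finLocFree k)
      have h₃ : BPD (L.opcycles k) := bpd_X3 hS h₁ h₂
      refine ⟨h₃, ?_⟩
      have e := χcl_add hres hS h₁ h₂ h₃
      change χcl hres (L.X k) = χcl hres (L.opcycles (k + 1)) + χcl hres (L.opcycles k) at e
      rw [χcl_locFree hres (h.finLocFree k), e₁] at e
      simp only [Finset.sum_range_succ' _ (j + 1), pow_zero, one_zsmul, add_zero]
      rw [e]
      simp only [pow_succ, mul_neg, mul_one, neg_smul, Finset.sum_neg_distrib, add_assoc,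
        Nat.add_comm 1]
      abel
  obtain ⟨hb, e⟩ := key n 0 (by omega)
  rw [← χcl_iso hres ((L.isoHomologyι 0 _ rfl (L.shape _ _ (by simp))).symm ≪≫
    asIso (HomologicalComplex.homologyMap π 0) ≪≫
    HomologicalComplex.singleObjHomologySelfIso (ComplexShape.down ℕ) 0 G) hb, e]
  simp

omit hres

section Push

variable {X : Scheme.{u}} (i : X ⟶ Y)

theorem shortExact_push [IsClosedImmersion i] {S : ShortComplex X.Modules} (hS : S.ShortExact) :
    (S.map (Scheme.Modules.pushforward i)).ShortExact := by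
  haveI := DerivedOX.PushExact.preservesFiniteColimits_pushforward i
  haveI : PreservesLimitsOfSize.{u, u} (Scheme.Modules.pushforward i) :=
    (Scheme.Modules.pullbackPushforwardAdjunction i).rightAdjoint_preservesLimits
  haveI : PreservesFiniteLimits (Scheme.Modules.pushforward i) :=
    PreservesLimitsOfSize.preservesFiniteLimits _
  exact hS.map_of_exact _

include hres

variable {KX KY : Type v} [CommRing KX] [CommRing KY] {φX : SGA6.Kvb X →+ KX} {φY : SGA6.Kvb Y →+ KY}
  {g : KX →+ KY}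

theorem pushCl_apply (hg : KRR.IsPushCl i φX φY g) {F : X.Modules} (hF : FlatMod.IsFinLocFree F)
    (hb : BPD ((Scheme.Modules.pushforward i).obj F)) :
    g (φX (KRR.cl X F)) = φY (χcl hres ((Scheme.Modules.pushforward i).obj F)) := by
  obtain ⟨n, L, π, hL⟩ := Devissage.LFResIff.hasLFRes_of_bpd hres hb
  rw [hg F hF n L π hL, χcl_res hres hL, map_sum]
  exact Finset.sum_congr rfl fun k _ => (map_zsmul φY _ _).symm

theorem existsUnique_pushCl (hi : Mor2.IsRegularClosedImmersion i) (hφX : Function.Bijective φX) :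
    ∃! h : KX →+ KY, KRR.IsPushCl i φX φY h := by
  haveI := hi.1
  let a : SGA6.Kvb X →+ SGA6.Kvb Y :=
    KRes.KSub.lift (fun F => χcl hres ((Scheme.Modules.pushforward i).obj F)) fun S hS h₁ h₂ h₃ =>
      χcl_add hres (shortExact_push i hS) (PushBPD.bpd_push i hi h₁) (PushBPD.bpd_push i hi h₂)
        (PushBPD.bpd_push i hi h₃)
  let e := AddEquiv.ofBijective φX hφX
  have hal : ∀ F, FlatMod.IsFinLocFree F →
      a (KRR.cl X F) = χcl hres ((Scheme.Modules.pushforward i).obj F) := fun F hF =>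
    KRes.KSub.lift_cl _ _ hF
  refine ⟨φY.comp (a.comp e.symm.toAddMonoidHom), fun F hF n L π hL => ?_, fun h hh => ?_⟩
  · have he : e.symm (φX (KRR.cl X F)) = KRR.cl X F := e.symm_apply_apply _
    change φY (a (e.symm (φX (KRR.cl X F)))) = _
    rw [he]
    rw [hal F hF, χcl_res hres hL, map_sum]
    exact Finset.sum_congr rfl fun k _ => map_zsmul φY _ _
  · refine AddMonoidHom.ext fun x => ?_
    obtain ⟨y, rfl⟩ := hφX.2 x
    refine DFunLike.congr_fun (KRes.KSub.hom_ext (P := KRR.vbP X) (φ := h.comp φX)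
      (ψ := φY.comp a) fun F hF => ?_) y |>.trans ?_
    · change h (φX (KRR.cl X F)) = φY (a (KRR.cl X F))
      rw [pushCl_apply hres i hh hF (PushBPD.bpd_push i hi hF)]
      exact congrArg φY (hal F hF).symm
    · exact congrArg φY (congrArg a (e.symm_apply_apply y).symm)

theorem bpd_pushforward {Z : Scheme.{u}} [IsNoetherian Z] (g' : Y ⟶ Z) (hg : Mor2.IsRegularClosedImmersion g')
    {G : Y.Modules} (hG : BPD G) : BPD ((Scheme.Modules.pushforward g').obj G) :=
  haveI := hg.1
  bpd_map hres _ (fun _ hS => shortExact_push g' hS) (fun _ hE => PushBPD.bpd_push g' hg hE) hG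

theorem pushCl_comp {Z : Scheme.{u}} [IsNoetherian Z] (hZ : KRR.HasEnoughLocFree Z) (g' : Y ⟶ Z)
    (hi : Mor2.IsRegularClosedImmersion i) (hg : Mor2.IsRegularClosedImmersion g')
    {KZ : Type v} [CommRing KZ] {φZ : SGA6.Kvb Z →+ KZ} (hφX : Function.Surjective φX)
    (ha : KRR.IsPushCl i φX φY g) {b : KY →+ KZ} (hb : KRR.IsPushCl g' φY φZ b)
    {c : KX →+ KZ} (hc : KRR.IsPushCl (i ≫ g') φX φZ c) : c = b.comp g := by
  haveI := hi.1
  haveI := hg.1
  refine AddMonoidHom.ext fun x => ?_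
  obtain ⟨y, rfl⟩ := hφX x
  refine DFunLike.congr_fun (KRes.KSub.hom_ext (P := KRR.vbP X) (φ := c.comp φX)
      (ψ := (b.comp g).comp φX) fun F hF => ?_) y
  change c (φX (KRR.cl X F)) = b (g (φX (KRR.cl X F)))
  let e := ((Scheme.Modules.pushforwardComp i g').app F)
  have hiF := PushBPD.bpd_push i hi hF
  have hgiF := bpd_pushforward hres g' hg hiF
  have hcF : BPD ((Scheme.Modules.pushforward (i ≫ g')).obj F) := bpd_of_iso e hgiF
  rw [pushCl_apply hZ (i ≫ g') hc hF hcF, pushCl_apply hres i ha hF hiF,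
    ← χcl_iso hZ e hgiF]
  refine (χcl_eq_of_locFree hres (fun G => b (φY (χcl hres G)))
    (fun G => φZ (χcl hZ ((Scheme.Modules.pushforward g').obj G))) ?_ ?_ ?_ hiF).symm
  · intro S hS h₁ h₂ h₃
    rw [χcl_add hres hS h₁ h₂ h₃, map_add, map_add]
  · intro S hS h₁ h₂ h₃
    have h := χcl_add hZ (shortExact_push g' hS) (bpd_pushforward hres g' hg h₁)
      (bpd_pushforward hres g' hg h₂) (bpd_pushforward hres g' hg h₃)
    exact (congrArg φZ h).trans (map_add φZ _ _)
  · intro E hE
    rw [χcl_locFree hres hE]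
    exact pushCl_apply hZ g' hb hE (PushBPD.bpd_push g' hg hE)

theorem projection_formula (hi : Mor2.IsRegularClosedImmersion i)
    (hmX : ∀ E F : X.Modules, FlatMod.IsFinLocFree E → FlatMod.IsFinLocFree F →
      φX (KRR.cl X E) * φX (KRR.cl X F) = φX (KRR.cl X (CohB1.tensorMod E F)))
    (hmY : ∀ E F : Y.Modules, FlatMod.IsFinLocFree E → FlatMod.IsFinLocFree F →
      φY (KRR.cl Y E) * φY (KRR.cl Y F) = φY (KRR.cl Y (CohB1.tensorMod E F)))
    (hφX : Function.Surjective φX) (hφY : Function.Surjective φY)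
    {p : KY →+ KX} (hp : KRR.IsPull i φY φX p) (hh : KRR.IsPushCl i φX φY g) (x : KX) (y : KY) :
    g (x * p y) = g x * y := by
  haveI := hi.1
  have key : ∀ F : X.Modules, FlatMod.IsFinLocFree F → ∀ E : Y.Modules, FlatMod.IsFinLocFree E →
      g (φX (KRR.cl X F) * p (φY (KRR.cl Y E))) = g (φX (KRR.cl X F)) * φY (KRR.cl Y E) := by
    intro F hF E hE
    have hiE := TensorMod.LocFree.isFinLocFree_pullback i hE
    have hT := TensorMod.LocFree.isFinLocFree_tensorMod hiE hF
    have hdb := Modules.DualBasis.hasDBases_of_isFinLocFree hE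
    haveI := Modules.DualAdj.tensorL_preservesHomology hdb
    have hex : ∀ S : ShortComplex Y.Modules, S.ShortExact → (S.map (Modules.DualAdj.tensorL E)).ShortExact :=
      fun S hS => by
        haveI := Functor.preservesFiniteLimits_of_preservesHomology (Modules.DualAdj.tensorL E)
        haveI := Functor.preservesFiniteColimits_of_preservesHomology (Modules.DualAdj.tensorL E)
        exact hS.map_of_exact _
    have hT0 : ∀ G : Y.Modules, FlatMod.IsFinLocFree G → BPD ((Modules.DualAdj.tensorL E).obj G) :=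
      fun G hG => bpd_of_locFree (TensorMod.LocFree.isFinLocFree_tensorMod hE hG)
    have hiF := PushBPD.bpd_push i hi hF
    have hEF := bpd_map hres _ hex hT0 hiF
    let e := (Modules.ProjFormula.projIso i hdb).app F
    rw [hp E hE, mul_comm, hmX _ _ hiE hF, pushCl_apply hres i hh hT (PushBPD.bpd_push i hi hT),
      pushCl_apply hres i hh hF hiF, mul_comm]
    refine (congrArg φY (χcl_iso hres e hEF)).symm.trans ?_
    refine (χcl_eq_of_locFree hres (fun G => φY (KRR.cl Y E) * φY (χcl hres G))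
      (fun G => φY (χcl hres ((Modules.DualAdj.tensorL E).obj G))) ?_ ?_ ?_ hiF).symm
    · intro S hS h₁ h₂ h₃
      rw [χcl_add hres hS h₁ h₂ h₃, map_add, mul_add]
    · intro S hS h₁ h₂ h₃
      exact (congrArg φY (χcl_add hres (hex S hS) (bpd_map hres _ hex hT0 h₁) (bpd_map hres _ hex hT0 h₂)
        (bpd_map hres _ hex hT0 h₃))).trans (map_add φY _ _)
    · intro G hG
      rw [χcl_locFree hres hG, hmY E G hE hG]
      exact congrArg φY (χcl_locFree hres (TensorMod.LocFree.isFinLocFree_tensorMod hE hG)).symm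
  obtain ⟨a, rfl⟩ := hφX x
  obtain ⟨b, rfl⟩ := hφY y
  have h : ∀ F : X.Modules, FlatMod.IsFinLocFree F →
      g (φX (KRR.cl X F) * p (φY b)) = g (φX (KRR.cl X F)) * φY b := fun F hF =>
    DFunLike.congr_fun (KRes.KSub.hom_ext (P := KRR.vbP Y)
      (φ := g.comp ((AddMonoidHom.mulLeft (φX (KRR.cl X F))).comp (p.comp φY)))
      (ψ := (AddMonoidHom.mulLeft (g (φX (KRR.cl X F)))).comp φY) (key F hF)) b
  exact DFunLike.congr_fun (KRes.KSub.hom_ext (P := KRR.vbP X)
    (φ := g.comp ((AddMonoidHom.mulRight (p (φY b))).comp φX))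
    (ψ := (AddMonoidHom.mulRight (φY b)).comp (g.comp φX)) h) a

end Push

end

end Groth.Agent.Lib.KVec.PushCl
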