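import Groth.Agent.Lib.ExtFilt.Lambda
import Groth.Agent.Lib.KVec.ExtRank
import Groth.Agent.Lib.FundLocal.ExtPowExists
import Groth.Agent.Lib.Conormal92.SmoothRank
import Groth.Agent.Lib.Cyc.CH.SubLine
import Groth.Agent.Lib.TensorMod.Invertible
import Groth.Prelude.Def_KRR

/-!
# The λ-ring of vector bundles on a connected scheme
-/

set_option autoImplicit false
set_option linter.style.haveILetI false
universe u

open CategoryTheory CategoryTheory.Limits AlgebraicGeometry Opposite TopologicalSpace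

noncomputable section

namespace Groth.Agent.Lib.KVec.Model

open Groth.Agent.Lib

variable {X : Scheme.{u}}

/-- The rank at a point. -/
def rk (M : X.Modules) (x : X) : ℕ := Module.finrank (X.presheaf.stalk x) (M.presheaf.stalk x)

theorem rk_chart {M : X.Modules} {U : X.Opens} {n : ℕ} (i : M.restrict U.ι ≅ FlatMod.freeMod (↑U) n)
    {x : X} (hx : x ∈ U) : rk M x = n := by
  obtain ⟨s, hs⟩ := CurveBundle.Coherent.exists_basis_sections i
  exact (Module.finrank_eq_card_basis (Module.Basis.mk (hs x hx).1 (hs x hx).2.ge)).trans (Fintype.card_fin n)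

theorem rk_of_rank {M : X.Modules} {n : ℕ} (h : FlatMod.IsFinLocFreeOfRank n M) (x : X) : rk M x = n := by
  obtain ⟨U, hx, ⟨i⟩⟩ := h x
  exact rk_chart i hx

variable [ConnectedSpace ↥X]

theorem rank_of_isFinLocFree {M : X.Modules} (h : FlatMod.IsFinLocFree M) (x₀ : X) :
    FlatMod.IsFinLocFreeOfRank (rk M x₀) M := fun x => by
  have hc : IsLocallyConstant (rk M) := (IsLocallyConstant.iff_exists_open _).2 fun y => by
    obtain ⟨U, n, hy, ⟨i⟩⟩ := h y
    exact ⟨U, U.2, hy, fun z hz => (rk_chart i hz).trans (rk_chart i hy).symm⟩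
  obtain ⟨U, n, hx, ⟨i⟩⟩ := h x
  obtain rfl : n = rk M x₀ := (rk_chart i hx).symm.trans (hc.apply_eq_of_preconnectedSpace x x₀)
  exact ⟨U, hx, ⟨i⟩⟩

omit [ConnectedSpace ↥X] in
theorem rk_add {S : ShortComplex X.Modules} (hS : S.ShortExact) (h₁ : FlatMod.IsFinLocFree S.X₁)
    (h₂ : FlatMod.IsFinLocFree S.X₂) (h₃ : FlatMod.IsFinLocFree S.X₃) (x : X) :
    rk S.X₂ x = rk S.X₁ x + rk S.X₃ x := by
  obtain ⟨U₁, a, x₁, ⟨i₁⟩⟩ := h₁ x
  obtain ⟨U₂, b, x₂, ⟨i₂⟩⟩ := h₂ x
  obtain ⟨U₃, c, x₃, ⟨i₃⟩⟩ := h₃ x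
  rw [rk_chart i₁ x₁, rk_chart i₂ x₂, rk_chart i₃ x₃]
  exact Conormal92.SmoothRank.rank_eq_add S hS i₁ i₂ i₃ x₁ x₂ x₃

omit [ConnectedSpace ↥X] in
theorem cl_biprod {E F : X.Modules} (hE : FlatMod.IsFinLocFree E) (hF : FlatMod.IsFinLocFree F) :
    FlatMod.IsFinLocFree (E ⊞ F) ∧ KRR.cl X (E ⊞ F) = KRR.cl X E + KRR.cl X F ∧
      ∀ x, rk (E ⊞ F) x = rk E x + rk F x :=
  have h := TensorMod.LocFree.of_iso (biprod.isoCoprod E F).symm (TensorMod.LocFree.isFinLocFree_biprod hE hF)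
  have hs := (ShortComplex.Splitting.ofHasBinaryBiproduct E F).shortExact
  ⟨h, KRes.KSub.rel (P := KRR.vbP X) hs hE h hF, fun x => rk_add hs hE h hF x⟩

theorem exists_model [Nonempty ↥X] :
    ∃ (K : Type (u + 1)) (_ : CommRing K) (_ : LambdaRing.LambdaOps K) (P : LambdaRing.PosStructure K)
      (φ : SGA6.Kvb X →+ K), KRR.IsModel X K P φ := by
  classical
  obtain ⟨x₀⟩ := ‹Nonempty ↥X›
  have hext : ∀ (i : ℕ) (E : X.Modules), FlatMod.IsFinLocFree E →
      ∃ L : X.Modules, FlatMod.IsFinLocFree L ∧ ExtPow.IsExtPow i E L := fun i E hE => by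
    haveI := Modules.AffineSections.isQCoh_of_isFinLocFree hE
    obtain ⟨L, hL⟩ := FundLocal.ExtPowExists.exists_isExtPow (E := E) i
    exact ⟨L, GrassGen.ExtPowFree.isFinLocFree hE hL, hL⟩
  obtain ⟨lam, -, -, -, -, hlam, hlam0, hlam1, hlamadd⟩ := ExtFilt.Lambda.exists_lam hext
  letI cr : CommRing (SGA6.Kvb X) := ExtFilt.Lambda.ring X
  let ops : LambdaRing.LambdaOps (SGA6.Kvb X) :=
    { lam := lam, lam_zero := hlam0, lam_one := hlam1, lam_add := hlamadd }
  have hO : FlatMod.IsFinLocFree (Coh.structureModule X) := ExtFilt.Lambda.isFinLocFree_structure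
  have hO1 : FlatMod.IsFinLocFreeOfRank 1 (Coh.structureModule X) :=
    TensorMod.LocFree.of_isInvertible SurfInt.H2Vanish.isInvertible_structure
  let ε₀ : SGA6.Kvb X →+ ℤ := KRes.KSub.lift (P := KRR.vbP X) (fun E => (rk E x₀ : ℤ))
    fun S hS h₁ h₂ h₃ => by rw [rk_add hS h₁ h₂ h₃ x₀]; push_cast; rfl
  have hε : ∀ {E : X.Modules}, FlatMod.IsFinLocFree E → ε₀ (KRR.cl X E) = rk E x₀ := fun {E} hE =>
    KRes.KSub.lift_cl _ _ hE
  have hmul : ∀ x y, ε₀ (x * y) = ε₀ x * ε₀ y := by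
    have h : ∀ E : X.Modules, FlatMod.IsFinLocFree E → ∀ y,
        ε₀ (ExtFilt.Lambda.mul X (KRR.cl X E) y) = ε₀ (KRR.cl X E) * ε₀ y := fun E hE y => by
      have : ε₀.comp (ExtFilt.Lambda.mul X (KRR.cl X E)) = (AddMonoidHom.mulLeft (ε₀ (KRR.cl X E))).comp ε₀ :=
        KRes.KSub.hom_ext fun F hF => by
          show ε₀ (ExtFilt.Lambda.mul X (KRR.cl X E) (KRR.cl X F)) = ε₀ (KRR.cl X E) * ε₀ (KRR.cl X F)
          rw [ExtFilt.Lambda.mul_cl hE hF, hε hE, hε hF, hε (TensorMod.LocFree.isFinLocFree_tensorMod hE hF),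
            rk_of_rank (TensorMod.LocFree.rank_tensorMod (rank_of_isFinLocFree hE x₀) (rank_of_isFinLocFree hF x₀)) x₀]
          push_cast
          rfl
      exact DFunLike.congr_fun this y
    intro x y
    have : ε₀.comp ((ExtFilt.Lambda.mul X).flip y) = (AddMonoidHom.mulRight (ε₀ y)).comp ε₀ :=
      KRes.KSub.hom_ext fun E hE => h E hE y
    exact DFunLike.congr_fun this x
  let aug : SGA6.Kvb X →+* ℤ :=
    { ε₀ with
      map_one' := (hε hO).trans (by rw [rk_of_rank hO1 x₀]; rfl)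
      map_mul' := hmul }
  let pos : Set (SGA6.Kvb X) :=
    {x | ∃ (n : ℕ) (E : X.Modules), 1 ≤ n ∧ FlatMod.IsFinLocFreeOfRank n E ∧ KRR.cl X E = x}
  have hadd : ∀ e f, e ∈ pos → f ∈ pos → e + f ∈ pos := by
    rintro _ _ ⟨n, E, hn, hE, rfl⟩ ⟨m, F, hm, hF, rfl⟩
    obtain ⟨h, hc, hr⟩ := cl_biprod (TensorMod.LocFree.of_rank hE) (TensorMod.LocFree.of_rank hF)
    refine ⟨n + m, E ⊞ F, by omega, ?_, hc⟩
    have := rank_of_isFinLocFree h x₀
    rwa [hr x₀, rk_of_rank hE, rk_of_rank hF] at this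
  have hone : (1 : SGA6.Kvb X) ∈ pos := ⟨1, _, le_rfl, hO1, rfl⟩
  have hsub : ∀ x : SGA6.Kvb X, ∃ e f, e ∈ pos ∧ f ∈ pos ∧ x = e - f := by
    let G : AddSubgroup (SGA6.Kvb X) :=
      { carrier := {x | ∃ e f, e ∈ pos ∧ f ∈ pos ∧ x = e - f}
        zero_mem' := ⟨1, 1, hone, hone, (sub_self _).symm⟩
        add_mem' := fun {a b} ⟨e, f, he, hf, ha⟩ ⟨e', f', he', hf', hb⟩ =>
          ⟨e + e', f + f', hadd _ _ he he', hadd _ _ hf hf', by rw [ha, hb]; abel⟩
        neg_mem' := fun {a} ⟨e, f, he, hf, ha⟩ => ⟨f, e, hf, he, by rw [ha, neg_sub]⟩ }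
    have hG : G = ⊤ := KRes.KSub.closure_eq_top fun E hE => by
      obtain ⟨h, hc, hr⟩ := cl_biprod hE hO
      refine ⟨KRR.cl X (E ⊞ Coh.structureModule X), 1,
        ⟨rk (E ⊞ Coh.structureModule X) x₀, _, ?_, rank_of_isFinLocFree h x₀, rfl⟩, hone, ?_⟩
      · rw [hr x₀, rk_of_rank hO1 x₀]; omega
      · rw [hc]; exact (add_sub_cancel_right _ _).symm
    exact fun x => (SetLike.ext_iff.1 hG x).2 trivial
  have haug : ∀ {n : ℕ} {E : X.Modules}, FlatMod.IsFinLocFreeOfRank n E → aug (KRR.cl X E) = n :=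
    fun {n E} h => (hε (TensorMod.LocFree.of_rank h)).trans (by rw [rk_of_rank h x₀])
  let P : @LambdaRing.PosStructure (SGA6.Kvb X) cr ops :=
    { aug := aug
      aug_surjective := fun n => ⟨n, map_intCast aug n⟩
      pos := pos
      add_mem := hadd
      mul_mem := by
        rintro _ _ ⟨n, E, hn, hE, rfl⟩ ⟨m, F, hm, hF, rfl⟩
        exact ⟨n * m, CohB1.tensorMod E F, Nat.one_le_iff_ne_zero.2 (Nat.mul_ne_zero (by omega) (by omega)),
          TensorMod.LocFree.rank_tensorMod hE hF,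
          (ExtFilt.Lambda.mul_cl (TensorMod.LocFree.of_rank hE) (TensorMod.LocFree.of_rank hF)).symm⟩
      natCast_mem := fun n hn => by
        induction n, hn using Nat.le_induction with
        | base => rw [Nat.cast_one]; exact hone
        | succ n _ ih => rw [Nat.cast_succ]; exact hadd _ _ ih hone
      exists_sub := hsub
      aug_pos := by rintro _ ⟨n, E, hn, hE, rfl⟩; rw [haug hE]; omega
      lam_eq_zero := by
        rintro _ ⟨n, E, hn, hE, rfl⟩ i hi
        rw [haug hE] at hi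
        obtain ⟨L, hL, hLE⟩ := hext i E (TensorMod.LocFree.of_rank hE)
        refine (hlam i E L (TensorMod.LocFree.of_rank hE) hLE).trans (KRes.KSub.clSub_zero ?_ hL)
        have := KVec.ExtRank.rank_extPow hE hLE
        rw [Nat.choose_eq_zero_of_lt (by omega)] at this
        exact Cyc.CH.isZero_of_rank_zero this
      isUnit_lam := by
        rintro _ ⟨n, E, hn, hE, rfl⟩
        rw [haug hE, Int.toNat_natCast]
        obtain ⟨L, hL, hLE⟩ := hext n E (TensorMod.LocFree.of_rank hE)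
        have h1 := KVec.ExtRank.rank_extPow hE hLE
        rw [Nat.choose_self] at h1
        obtain ⟨M, hM, ⟨e⟩⟩ := TensorMod.Invertible.exists_inverse (TensorMod.LocFree.isInvertible_of_rank_one h1)
        have hMf := TensorMod.LocFree.of_rank (TensorMod.LocFree.of_isInvertible hM)
        rw [show LambdaRing.LambdaOps.lam (self := ops) n (KRR.cl X E) = KRR.cl X L from
          hlam n E L (TensorMod.LocFree.of_rank hE) hLE]
        refine isUnit_iff_exists_inv.2 ⟨KRR.cl X M, ?_⟩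
        exact (ExtFilt.Lambda.mul_cl hL hMf).trans
          (ExtFilt.Lambda.cl_congr e (TensorMod.LocFree.isFinLocFree_tensorMod hL hMf)) }
  refine ⟨SGA6.Kvb X, cr, ops, P, AddMonoidHom.id _, ⟨Function.bijective_id, rfl,
    fun E F hE hF => ExtFilt.Lambda.mul_cl hE hF, fun i E L hE _ h => hlam i E L hE h,
    fun n E h => haug h, fun x => Iff.rfl⟩⟩

end Groth.Agent.Lib.KVec.Model
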