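import Groth.Agent.Lib.KVec.KoszulCx
import Groth.Agent.Lib.KVec.ExtRank
import Groth.Agent.Lib.KoszulSh.Spread
import Groth.Agent.Lib.KoszulSh.Divisor.Chart
import Groth.Agent.Lib.Depth.Span
import Groth.Agent.Lib.FundLocal.Rank
import Groth.Agent.Lib.ExtFilt.Lambda
import Groth.Agent.Lib.Cyc.CH.BdlExists
import Groth.Prelude.Def_KRR
import Groth.Prelude.Def_Mor2

/-!
# The Koszul resolution of a regular zero scheme
-/

set_option autoImplicit false
set_option linter.unusedSectionVars false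
set_option linter.style.haveILetI false
universe v u

open CategoryTheory CategoryTheory.Limits AlgebraicGeometry Opposite TopologicalSpace RingTheory.Sequence

namespace Groth.Agent.Lib.KVec.ZeroScheme

open Groth.Agent.Lib
open Groth.Agent.Lib.TensorMod.Dual (rs rf rs_rs rs_smul rs_self)

noncomputable section

theorem isWeaklyRegular_of_subsingleton {R M : Type u} [CommRing R] [AddCommGroup M] [Module R M]
    [Subsingleton M] (rs : List R) : IsWeaklyRegular M rs :=
  ⟨fun _ _ => fun x y _ => Quotient.inductionOn₂' x y fun a b =>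
    congrArg Submodule.Quotient.mk (Subsingleton.elim a b)⟩

/-- `d` elements generating an ideal with a weakly regular sequence of length `d` form one. -/
theorem isWeaklyRegular_of_length {R : Type u} [CommRing R] [IsNoetherianRing R] [IsLocalRing R] {d : ℕ}
    (a : Fin d → R) (hm : ∀ k, a k ∈ IsLocalRing.maximalIdeal R) (bs : List R) (hl : bs.length = d)
    (hreg : IsWeaklyRegular R bs) (hmem : ∀ b ∈ bs, b ∈ Ideal.span (Set.range a)) :
    IsWeaklyRegular R (List.ofFn a) := by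
  have hsp : Ideal.ofList (List.ofFn a) = Ideal.span (Set.range a) := by
    rw [Ideal.ofList]; congr 1; ext x; simp [List.mem_ofFn]
  refine Depth.Span.isWeaklyRegular_of_idealDepth_eq _ R (fun x hx => ?_) ?_
  · obtain ⟨k, rfl⟩ := List.mem_ofFn.1 hx
    exact hm k
  · rw [List.length_ofFn, hsp, LocCoh.idealDepth]
    split
    · exact le_top
    · exact le_iSup₂_of_le bs ⟨hreg, hmem⟩ (by rw [hl])

variable {X Y : Scheme.{u}} [IsNoetherian Y] {d : ℕ} {E : Y.Modules}

theorem isFrame_res {M : Y.Modules} {n : ℕ} {U V : Y.Opens} {e : Fin n → Γ(M, U)}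
    (he : Pinch.StalkFrame.IsFrame M U e) (h : V ≤ U) :
    Pinch.StalkFrame.IsFrame M V fun k => rs M h (e k) := fun x hx => by
  have : (fun c : Fin n → Y.presheaf.stalk x => ∑ k, c k • M.presheaf.germ V x hx (rs M h (e k))) =
      fun c => ∑ k, c k • M.presheaf.germ U x (h hx) (e k) := funext fun c =>
    Finset.sum_congr rfl fun k _ => congrArg (c k • ·) (TopCat.Presheaf.germ_res_apply M.presheaf (homOfLE h) x hx (e k))
  rw [this]
  exact he x (h hx)

theorem exists_basis_nhd (hE : FlatMod.IsFinLocFreeOfRank d E) {x : Y} {O : Y.Opens} (hx : x ∈ O) :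
    ∃ U : Y.affineOpens, U.1 ≤ O ∧ x ∈ U.1 ∧ ∀ V : Y.affineOpens, V.1 ≤ U.1 →
      Nonempty (Module.Basis (Fin d) Γ(Y, V.1) Γ(E, V.1)) := by
  obtain ⟨A, hxA, ⟨e⟩⟩ := hE x
  obtain ⟨f, hf⟩ := Pinch.StalkFrame.exists_isFrame_of_iso e
  obtain ⟨U, hU, hxU⟩ := Modules.AffineHom.exists_affine (show x ∈ O ⊓ A from ⟨hx, hxA⟩)
  refine ⟨U, hU.trans inf_le_left, hxU, fun V hV => ?_⟩
  obtain ⟨B, -⟩ := KoszulSh.Divisor.exists_basis (isFrame_res hf ((hV.trans hU).trans inf_le_right))
  exact ⟨B⟩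

variable {t : E ⟶ Coh.structureModule Y} (i : X ⟶ Y) [IsClosedImmersion i]
  (ht : ∀ U : Y.affineOpens, i.ker.ideal U = Ideal.span {a : Γ(Y, U.1) | ∃ s : Γ(E, U.1), (t.app U.1) s = a})

include ht in
theorem span_values {V : Y.affineOpens} (b : Module.Basis (Fin d) Γ(Y, V.1) Γ(E, V.1)) :
    RingHom.ker (i.app V.1).hom = Ideal.span (Set.range fun k => KoszSh.secForm t V.1 (b k)) := by
  rw [← Scheme.Hom.ker_apply, ht V]
  refine le_antisymm (Ideal.span_le.2 ?_) (Ideal.span_le.2 ?_)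
  · rintro a ⟨s, rfl⟩
    show KoszSh.secForm t V.1 s ∈ _
    rw [← b.sum_repr s, map_sum]
    refine Ideal.sum_mem _ fun k _ => ?_
    rw [map_smul, smul_eq_mul]
    exact Ideal.mul_mem_left _ _ (Ideal.subset_span ⟨k, rfl⟩)
  · rintro a ⟨k, rfl⟩
    exact Ideal.subset_span ⟨b k, rfl⟩

include ht in
theorem exists_regular_basis (hE : FlatMod.IsFinLocFreeOfRank d E) (hi : Mor2.IsRegularClosedImmersion i)
    (hci : FlatMod.IsFinLocFreeOfRank d (Omega.conormal i)) (x : Y) :
    ∃ U : Y.affineOpens, x ∈ U.1 ∧ ∃ b : Module.Basis (Fin d) Γ(Y, U.1) Γ(E, U.1),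
      IsWeaklyRegular Γ(Y, U.1) (List.ofFn fun k => KoszSh.secForm t U.1 (b k)) := by
  haveI := Modules.AffineSections.isQCoh_of_isFinLocFree (TensorMod.LocFree.of_rank hE)
  suffices key : ∃ (V : Y.affineOpens) (hxV : x ∈ V.1) (b : Module.Basis (Fin d) Γ(Y, V.1) Γ(E, V.1)),
      IsWeaklyRegular (Localization.AtPrime (V.2.primeIdealOf ⟨x, hxV⟩).asIdeal)
        ((List.ofFn fun k => KoszSh.secForm t V.1 (b k)).map (algebraMap _ _)) by
    obtain ⟨V, hxV, b, hb⟩ := key
    haveI : IsNoetherianRing Γ(Y, V.1) := IsLocallyNoetherian.component_noetherian V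
    obtain ⟨g, hg, hS⟩ := KoszulSh.Spread.exists_away _ _ hb
    obtain ⟨b', hb'⟩ := KoszulSh.Sections.exists_basis_basicOpen (E := E) V.2 g b
    refine ⟨⟨Y.basicOpen g, V.2.basicOpen g⟩, ?_, b', ?_⟩
    · show x ∈ Y.basicOpen g
      have := V.2.fromSpec_preimage_basicOpen g
      have hp : V.2.primeIdealOf ⟨x, hxV⟩ ∈ PrimeSpectrum.basicOpen g := hg
      have h2 := (SetLike.ext_iff.1 this (V.2.primeIdealOf ⟨x, hxV⟩)).2 hp
      exact (congrArg (fun y => y ∈ Y.basicOpen g) (V.2.fromSpec_primeIdealOf ⟨x, hxV⟩)).mp h2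
    · let _ := (QCoh.Localizing.resR (Y.basicOpen_le g)).toAlgebra
      haveI : IsLocalization.Away g Γ(Y, Y.basicOpen g) := V.2.isLocalization_basicOpen g
      have h := hS Γ(Y, Y.basicOpen g)
      rw [List.map_ofFn] at h
      simp only [hb', KoszulSh.Sections.secForm_res]
      exact h
  by_cases hx : x ∈ Set.range i.base
  · obtain ⟨z, rfl⟩ := hx
    obtain ⟨U₀, hU₀, hz, rs₀, hrs, hI⟩ := hi.2 z
    obtain ⟨U₁, hU₁, hzU₁, hbas⟩ := exists_basis_nhd hE (show i.base z ∈ U₀ from hz)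
    obtain ⟨f, hfle, hzf⟩ := hU₀.exists_basicOpen_le (⟨i.base z, hzU₁⟩ : U₁.1) hz
    let V : Y.affineOpens := ⟨Y.basicOpen f, hU₀.basicOpen f⟩
    obtain ⟨b⟩ := hbas V hfle
    refine ⟨V, hzf, b, ?_⟩
    let _ := (QCoh.Localizing.resR (Y.basicOpen_le f)).toAlgebra
    haveI : IsLocalization.Away f Γ(Y, V.1) := hU₀.isLocalization_basicOpen f
    let rs₁ := rs₀.map (algebraMap Γ(Y, U₀) Γ(Y, V.1))
    have hreg₁ : IsWeaklyRegular Γ(Y, V.1) rs₁ := hrs.toIsWeaklyRegular.of_isLocalization _ (Submonoid.powers f)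
    have hker : RingHom.ker (i.app V.1).hom = Ideal.ofList rs₁ := by
      rw [← Scheme.Hom.ker_apply, ← Scheme.IdealSheafData.map_ideal i.ker (U := V) (V := ⟨U₀, hU₀⟩) (Y.basicOpen_le f), hI,
        Ideal.map_ofList]
      rfl
    have hspan := span_values i ht b
    have hlen : rs₁.length = d := by
      obtain ⟨B⟩ := FundLocal.Rank.nonempty_basis i V.2 (fun k : Fin rs₁.length => rs₁.get k)
        (by rw [List.ofFn_get]; exact hreg₁)
        (by rw [hker, Ideal.ofList]; congr 1; ext a; exact List.mem_iff_get) z hzf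
      obtain ⟨A, hzA, ⟨e⟩⟩ := hci z
      obtain ⟨w, hw⟩ := Pinch.StalkFrame.exists_isFrame_of_iso e
      let B' : Module.Basis (Fin d) (X.presheaf.stalk z) ((Omega.conormal i).presheaf.stalk z) :=
        Module.Basis.ofEquivFun (LinearEquiv.ofBijective
          (Fintype.linearCombination (X.presheaf.stalk z) fun k => (Omega.conormal i).presheaf.germ A z hzA (w k))
          (by
            convert hw z hzA using 1
            exact funext fun c => Fintype.linearCombination_apply _ _ c)).symm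
      simpa using Fintype.card_congr (B.indexEquiv B')
    let R := Localization.AtPrime (V.2.primeIdealOf ⟨i.base z, hzf⟩).asIdeal
    haveI : IsNoetherianRing Γ(Y, V.1) := IsLocallyNoetherian.component_noetherian V
    by_cases hm : ∀ k, algebraMap Γ(Y, V.1) R (KoszSh.secForm t V.1 (b k)) ∈ IsLocalRing.maximalIdeal R
    · rw [List.map_ofFn]
      refine isWeaklyRegular_of_length _ hm (rs₁.map (algebraMap _ R)) (by simpa using hlen)
        (hreg₁.of_isLocalization R (V.2.primeIdealOf ⟨i.base z, hzf⟩).asIdeal.primeCompl) ?_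
      intro c hc
      obtain ⟨a, ha, rfl⟩ := List.mem_map.1 hc
      have : a ∈ Ideal.span (Set.range fun k => KoszSh.secForm t V.1 (b k)) := by
        rw [← hspan, hker]; exact Ideal.subset_span ha
      have h2 := Ideal.mem_map_of_mem (algebraMap Γ(Y, V.1) R) this
      rwa [Ideal.map_span, ← Set.range_comp] at h2
    · exfalso
      push Not at hm
      obtain ⟨k, hk⟩ := hm
      apply hk
      rw [IsLocalization.AtPrime.to_map_mem_maximal_iff R (V.2.primeIdealOf ⟨i.base z, hzf⟩).asIdeal]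
      by_contra hmem
      have hz0 : (i.app V.1).hom (KoszSh.secForm t V.1 (b k)) = 0 := by
        have : KoszSh.secForm t V.1 (b k) ∈ RingHom.ker (i.app V.1).hom := hspan ▸ Ideal.subset_span ⟨k, rfl⟩
        exact this
      let _ := TopCat.Presheaf.algebra_section_stalk Y.presheaf (⟨i.base z, hzf⟩ : V.1)
      haveI := V.2.isLocalization_stalk ⟨i.base z, hzf⟩
      have hu := IsLocalization.map_units (Y.presheaf.stalk (i.base z))
        (⟨_, hmem⟩ : (V.2.primeIdealOf ⟨i.base z, hzf⟩).asIdeal.primeCompl)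
      have hu2 := hu.map (i.stalkMap z).hom
      change IsUnit ((i.stalkMap z).hom (Y.presheaf.germ V.1 (i.base z) hzf (KoszSh.secForm t V.1 (b k)))) at hu2
      rw [Scheme.Hom.germ_stalkMap_apply, hz0, map_zero] at hu2
      exact not_isUnit_zero hu2
  · let W : Y.Opens := ⟨(Set.range i.base)ᶜ, i.isClosedEmbedding.isClosed_range.isOpen_compl⟩
    obtain ⟨V, hVW, hxV, hbas⟩ := exists_basis_nhd hE (show x ∈ W from hx)
    obtain ⟨b⟩ := hbas V le_rfl
    have hbot : i ⁻¹ᵁ V.1 = ⊥ := eq_bot_iff.2 fun z hz => (hVW hz) ⟨z, rfl⟩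
    have htop : RingHom.ker (i.app V.1).hom = ⊤ := by
      haveI : Subsingleton Γ(X, i ⁻¹ᵁ V.1) := by rw [hbot]; infer_instance
      exact eq_top_iff.2 fun a _ => Subsingleton.elim (α := Γ(X, i ⁻¹ᵁ V.1)) _ _
    let p := (V.2.primeIdealOf ⟨x, hxV⟩).asIdeal
    obtain ⟨k, hk⟩ : ∃ k, KoszSh.secForm t V.1 (b k) ∉ p := by
      by_contra h
      push Not at h
      refine (V.2.primeIdealOf ⟨x, hxV⟩).isPrime.ne_top (top_le_iff.1 ?_)
      rw [← htop, span_values i ht b]
      exact Ideal.span_le.2 (by rintro a ⟨k, rfl⟩; exact h k)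
    match d, b, k, hk with
    | n + 1, b, k, hk =>
      refine ⟨V, hxV, b.reindex (Equiv.swap 0 k), ?_⟩
      rw [List.ofFn_succ, List.map_cons, Module.Basis.reindex_apply, Equiv.symm_swap, Equiv.swap_apply_left]
      have hu := IsLocalization.map_units (Localization.AtPrime p) (⟨_, hk⟩ : p.primeCompl)
      refine (isWeaklyRegular_cons_iff _ _ _).2 ⟨hu.isSMulRegular _, ?_⟩
      haveI : Subsingleton (QuotSMulTop (algebraMap Γ(Y, V.1) (Localization.AtPrime p)
          (KoszSh.secForm t V.1 (b k))) (Localization.AtPrime p)) :=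
        Submodule.Quotient.subsingleton_iff.2 (eq_top_iff.2 fun z _ =>
          Submodule.mem_smul_pointwise_iff_exists _ _ _ |>.2 ⟨hu.unit⁻¹ * z, trivial, by
            rw [smul_eq_mul, ← mul_assoc]
            exact (congrArg (· * z) hu.mul_val_inv).trans (one_mul z)⟩)
      exact isWeaklyRegular_of_subsingleton _
    | 0, _, k, _ => exact k.elim0

section Resolution

variable (C : KoszSh.Cx E t)

include ht in
/-- The Koszul complex of a regular cosection resolves the structure sheaf of its zero scheme. -/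
theorem exists_lfRes (hE : FlatMod.IsFinLocFreeOfRank d E) (hi : Mor2.IsRegularClosedImmersion i)
    (hci : FlatMod.IsFinLocFreeOfRank d (Omega.conormal i)) :
    ∃ π : C.K ⟶ (ChainComplex.single₀ Y.Modules).obj
        ((Scheme.Modules.pushforward i).obj (Coh.structureModule X)),
      KRR.IsLFRes ((Scheme.Modules.pushforward i).obj (Coh.structureModule X)) d C.K π := by
  haveI := Modules.AffineSections.isQCoh_of_isFinLocFree (TensorMod.LocFree.of_rank hE)
  let N := (Scheme.Modules.pushforward i).obj (Coh.structureModule X)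
  let F : ∀ U : Y.affineOpens, Γ(C.K.X 0, U.1) →ₗ[Γ(Y, U.1)] Γ(N, U.1) := fun U =>
    { toFun := fun m => OmegaSh.strSect X (i ⁻¹ᵁ U.1) (i.app U.1 (exteriorPower.zeroEquiv _ _ (C.loc 0 U m)))
      map_add' := fun m m' => by simp only [map_add]; rfl
      map_smul' := fun r m => by
        rw [map_smul, map_smul, smul_eq_mul, map_mul]
        rfl }
  have hF : ∀ (U : Y.affineOpens) (e : Fin 0 → Γ(E, U.1)) (r : Γ(Y, U.1)),
      F U (r • (C.loc 0 U).symm (exteriorPower.ιMulti _ 0 e)) = OmegaSh.strSect X (i ⁻¹ᵁ U.1) (i.app U.1 r) :=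
    fun U e r => by
      show OmegaSh.strSect X (i ⁻¹ᵁ U.1) (i.app U.1 (exteriorPower.zeroEquiv _ _
        (C.loc 0 U (r • (C.loc 0 U).symm (exteriorPower.ιMulti _ 0 e))))) = _
      rw [map_smul, LinearEquiv.apply_symm_apply, map_smul, exteriorPower.zeroEquiv_ιMulti, smul_eq_mul, mul_one]
  have hdec : ∀ (U : Y.affineOpens) (m : Γ(C.K.X 0, U.1)),
      m = exteriorPower.zeroEquiv _ _ (C.loc 0 U m) • (C.loc 0 U).symm (exteriorPower.ιMulti _ 0 Fin.elim0) :=
    fun U m => (C.loc 0 U).injective (by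
      rw [map_smul, LinearEquiv.apply_symm_apply]
      apply (exteriorPower.zeroEquiv Γ(Y, U.1) Γ(E, U.1)).injective
      rw [map_smul, exteriorPower.zeroEquiv_ιMulti, smul_eq_mul, mul_one])
  have hnat : ∀ (U V : Y.affineOpens) (h : V.1 ≤ U.1) (m : Γ(C.K.X 0, U.1)),
      rs N h (F U m) = F V (rs (C.K.X 0) h m) := fun U V h m => by
    rw [hdec U m, hF, rs_smul, show rs (C.K.X 0) h ((C.loc 0 U).symm (exteriorPower.ιMulti _ 0 Fin.elim0)) = _
      from C.loc_res 0 U V h Fin.elim0]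
    refine Eq.trans ?_ (hF V _ _).symm
    exact (congrArg (OmegaSh.strSect X (i ⁻¹ᵁ V.1))
      (ConcreteCategory.congr_hom (i.naturality (homOfLE h).op) _)).symm
  obtain ⟨π₀, hπ₀⟩ := Modules.AffineHom.exists_hom_of_affine F hnat
  have hd0 : ∀ (U : Y.affineOpens) (e : Γ(E, U.1)),
      (C.K.d 1 0).app U.1 ((C.loc 1 U).symm (exteriorPower.ιMulti _ 1 fun _ => e)) =
        KoszSh.secForm t U.1 e • (C.loc 0 U).symm (exteriorPower.ιMulti _ 0 Fin.elim0) := fun U e => by
    refine (C.rule 0 U _).trans ?_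
    refine Eq.trans (congrArg (C.loc 0 U).symm ?_) ((C.loc 0 U).symm.map_smul _ _)
    rw [KoszSh.dGen, Fin.sum_univ_one]
    simp only [Fin.val_zero, pow_zero, one_mul]
    exact congrArg _ (congrArg _ (funext fun j => j.elim0))
  have hker : ∀ (U : Y.affineOpens) (c : Γ(Y, U.1)), i.app U.1 c = 0 ↔ ∃ e, KoszSh.secForm t U.1 e = c := by
    intro U c
    have h1 : RingHom.ker (i.app U.1).hom = LinearMap.range (KoszSh.secForm t U.1) := by
      rw [← Scheme.Hom.ker_apply, ht U]
      refine le_antisymm (Ideal.span_le.2 ?_) fun a ha => Ideal.subset_span ?_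
      · rintro a ⟨e, rfl⟩; exact ⟨e, rfl⟩
      · obtain ⟨e, rfl⟩ := ha; exact ⟨e, rfl⟩
    exact (SetLike.ext_iff.1 h1 c).trans LinearMap.mem_range
  have hz : C.K.d 1 0 ≫ π₀ = 0 := Modules.AffineHom.hom_ext_affine fun U x => by
    show π₀.app U.1 ((C.K.d 1 0).app U.1 x) = (0 : C.K.X 1 ⟶ N).app U.1 x
    obtain ⟨w, rfl⟩ := (C.loc 1 U).symm.surjective x
    have hw : w ∈ Submodule.span Γ(Y, U.1) (Set.range (exteriorPower.ιMulti Γ(Y, U.1) 1 (M := Γ(E, U.1)))) := by
      rw [exteriorPower.ιMulti_span]; trivial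
    induction hw using Submodule.span_induction with
    | mem w hw =>
      obtain ⟨e, rfl⟩ := hw
      rw [show e = (fun _ => e 0) from funext fun j => congrArg e (Subsingleton.elim j 0), hd0, hπ₀, hF,
        (hker U _).2 ⟨_, rfl⟩, map_zero]
      rfl
    | zero => simp only [map_zero]
    | add a b _ _ ha hb => simp only [map_add, ha, hb]
    | smul r a _ ha => simp only [map_smul, Scheme.Modules.Hom.app_smul, ha]
  haveI hepi : Epi π₀ := (Modules.Stalk.epi_iff_stalk_surjective π₀).2 fun y v => by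
    obtain ⟨W, hW, a, rfl⟩ := TopCat.Presheaf.exists_germ_eq N.presheaf v
    obtain ⟨U, hUW, hyU⟩ := Modules.AffineHom.exists_affine hW
    obtain ⟨c, hc⟩ := i.app_surjective U.1 U.2 (OmegaSh.fnSect X (i ⁻¹ᵁ U.1) (rs N hUW a))
    refine ⟨(C.K.X 0).presheaf.germ U.1 y hyU (c • (C.loc 0 U).symm (exteriorPower.ιMulti _ 0 Fin.elim0)), ?_⟩
    refine (Modules.Stalk.stalkFunctor_map_germ y π₀ hyU _).trans ?_
    rw [hπ₀, hF, hc]
    exact TopCat.Presheaf.germ_res_apply N.presheaf (homOfLE hUW) y hyU a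
  have hex : (ShortComplex.mk (C.K.d 1 0) π₀ hz).Exact := by
    rw [Modules.Stalk.exact_iff_stalk]
    intro y
    rw [ShortComplex.ab_exact_iff]
    intro v hv
    obtain ⟨W, hW, x, rfl⟩ := TopCat.Presheaf.exists_germ_eq (C.K.X 0).presheaf v
    rw [show ((ShortComplex.mk (C.K.d 1 0) π₀ hz).map (Modules.Stalk.stalkFunctor Y y)).g =
      (Modules.Stalk.stalkFunctor Y y).map π₀ from rfl] at hv
    replace hv := (Modules.Stalk.stalkFunctor_map_germ y π₀ hW x).symm.trans hv
    replace hv : N.presheaf.germ W y hW _ = N.presheaf.germ W y hW 0 := hv.trans (map_zero _).symm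
    obtain ⟨W', hW', i₁, i₂, hW'eq⟩ := TopCat.Presheaf.germ_eq N.presheaf y hW hW _ _ hv
    obtain ⟨U, hUW, hyU⟩ := Modules.AffineHom.exists_affine hW'
    have h0 : F U (rs (C.K.X 0) (hUW.trans i₁.le) x) = 0 := by
      rw [← hπ₀, Modules.TensorSec.app_rs, ← rs_rs N i₁.le hUW,
        show rs N i₁.le (π₀.app W x) = 0 from hW'eq.trans (map_zero _), Modules.TensorSec.rs_zero]
    obtain ⟨e, he⟩ := (hker U (exteriorPower.zeroEquiv _ _ (C.loc 0 U (rs (C.K.X 0) (hUW.trans i₁.le) x)))).1 h0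
    refine ⟨(C.K.X 1).presheaf.germ U.1 y hyU ((C.loc 1 U).symm (exteriorPower.ιMulti _ 1 fun _ => e)), ?_⟩
    refine (Modules.Stalk.stalkFunctor_map_germ y (C.K.d 1 0) hyU _).trans ?_
    rw [hd0, he, ← hdec]
    exact TopCat.Presheaf.germ_res_apply (C.K.X 0).presheaf (homOfLE (hUW.trans i₁.le)) y hyU x
  refine ⟨(ChainComplex.toSingle₀Equiv C.K N).symm ⟨π₀, hz⟩,
    fun p => TensorMod.LocFree.of_rank (KVec.ExtRank.rank_extPow hE (C.isExtPow p)), fun p hp => ?_, ⟨fun k => ?_⟩⟩
  · have := KVec.ExtRank.rank_extPow hE (C.isExtPow p)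
    rw [Nat.choose_eq_zero_of_lt hp] at this
    exact Cyc.CH.isZero_of_rank_zero this
  rcases k with _ | k
  · rw [ChainComplex.quasiIsoAt₀_iff, ShortComplex.quasiIso_iff_of_zeros' _ (C.K.shape 0 0 (by simp)) rfl rfl]
    refine (ShortComplex.exact_and_epi_g_iff_of_iso ?_).2
      (show (ShortComplex.mk (C.K.d 1 0) π₀ hz).Exact ∧ Epi π₀ from ⟨hex, hepi⟩)
    exact ShortComplex.isoMk (Iso.refl _) (Iso.refl _) (Iso.refl _)
      ((Category.id_comp _).trans (Category.comp_id _).symm) ((Category.id_comp _).trans (Category.comp_id _).symm)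
  · rw [quasiIsoAt_iff_exactAt']
    · rw [HomologicalComplex.exactAt_iff_isZero_homology]
      exact KoszulSh.Sections.isZero_homology C d (exists_regular_basis i ht hE hi hci) k
    · exact HomologicalComplex.exactAt_single_obj _ _ _ _ (by simp)

end Resolution

include ht in
theorem push_one [IsNoetherian X] (hE : FlatMod.IsFinLocFreeOfRank d E)
    (hi : Mor2.IsRegularClosedImmersion i) (hci : FlatMod.IsFinLocFreeOfRank d (Omega.conormal i))
    {KX : Type v} [CommRing KX] [LambdaRing.LambdaOps KX] {PX : LambdaRing.PosStructure KX}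
    {φX : SGA6.Kvb X →+ KX} (hKX : KRR.IsModel X KX PX φX)
    {KY : Type v} [CommRing KY] [LambdaRing.LambdaOps KY] {PY : LambdaRing.PosStructure KY}
    {φY : SGA6.Kvb Y →+ KY} (hKY : KRR.IsModel Y KY PY φY) {h : KX →+ KY} (hh : KRR.IsPushCl i φX φY h) :
    h 1 = KRR.lamAlt PY (φY (KRR.cl Y E)) := by
  haveI := Modules.AffineSections.isQCoh_of_isFinLocFree (TensorMod.LocFree.of_rank hE)
  obtain ⟨C⟩ := KoszulCx.exists_cx E t
  obtain ⟨π, hπ⟩ := exists_lfRes i ht C hE hi hci
  rw [← hKX.map_one, hh _ ExtFilt.Lambda.isFinLocFree_structure d C.K π hπ, KRR.lamAlt, hKY.aug_cl d E hE,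
    Int.toNat_natCast]
  refine Finset.sum_congr rfl fun k _ => ?_
  rw [hKY.map_lam k E (C.K.X k) (TensorMod.LocFree.of_rank hE) (hπ.finLocFree k) (C.isExtPow k)]
  simp [zsmul_eq_mul]

end

end Groth.Agent.Lib.KVec.ZeroScheme
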