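import Groth.Agent.Lib.KVec.Model
import Groth.Agent.Lib.KVec.PushCl
import Groth.Agent.Lib.Ample.GG
import Groth.Agent.Lib.ResDescend36.Ample
import Groth.Agent.Lib.TensorMod.Invertible

/-!
# Ample line elements in `K₀` of bundles
-/

set_option autoImplicit false
set_option linter.style.haveILetI false
set_option linter.unusedSectionVars false
universe v u

open CategoryTheory CategoryTheory.Limits AlgebraicGeometry

namespace Groth.Agent.Lib.KVec.Ample

open Groth.Agent.Lib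

variable {X : Scheme.{u}}

theorem cl_freeMod : ∀ n : ℕ, FlatMod.IsFinLocFree (FlatMod.freeMod X n) ∧
    KRR.cl X (FlatMod.freeMod X n) = n • KRR.cl X (Coh.structureModule X)
  | 0 => by
    have hf := TensorMod.LocFree.of_rank (TensorMod.LocFree.isFinLocFree_freeMod X 0)
    refine ⟨hf, ?_⟩
    have hz : IsZero (FlatMod.freeMod X 0) := by
      rw [IsZero.iff_id_eq_zero]
      exact Sigma.hom_ext _ _ fun i => i.elim0
    rw [zero_smul]
    exact KRes.KSub.clSub_zero (P := KRR.vbP X) hz hf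
  | n + 1 => by
    obtain ⟨hn, ih⟩ := cl_freeMod n
    have hf := TensorMod.LocFree.of_rank (TensorMod.LocFree.isFinLocFree_freeMod X (n + 1))
    refine ⟨hf, ?_⟩
    let f : FlatMod.freeMod X n ⟶ FlatMod.freeMod X (n + 1) :=
      Sigma.desc fun i => Sigma.ι (fun _ : Fin (n + 1) => Coh.structureModule X) i.succ
    let r : FlatMod.freeMod X (n + 1) ⟶ FlatMod.freeMod X n :=
      Sigma.desc (Fin.cases 0 fun i => Sigma.ι (fun _ : Fin n => Coh.structureModule X) i)
    let g : FlatMod.freeMod X (n + 1) ⟶ Coh.structureModule X :=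
      Sigma.desc (Fin.cases (𝟙 _) fun _ => 0)
    let s : Coh.structureModule X ⟶ FlatMod.freeMod X (n + 1) :=
      Sigma.ι (fun _ : Fin (n + 1) => Coh.structureModule X) 0
    have w : f ≫ g = 0 := Sigma.hom_ext _ _ fun i => by simp [f, g]
    have σ : (ShortComplex.mk f g w).Splitting :=
      { r := r
        s := s
        f_r := Sigma.hom_ext _ _ fun i => by simp [f, r]
        s_g := by simp [s, g]
        id := Sigma.hom_ext _ _ fun i => by
          cases i using Fin.cases <;> simp [f, r, g, s] }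
    have h := KRes.KSub.rel (P := KRR.vbP X) σ.shortExact hn hf ExtFilt.Lambda.isFinLocFree_structure
    exact h.trans (((congrArg (· + KRR.cl X (Coh.structureModule X)) ih)).trans (succ_nsmul _ n).symm)

variable [IsNoetherian X] [ConnectedSpace ↥X] {K : Type v} [CommRing K] [LambdaRing.LambdaOps K]
  {P : LambdaRing.PosStructure K} {φ : SGA6.Kvb X →+ K}

theorem pow_cl (hK : KRR.IsModel X K P φ) {L : X.Modules} (hL : PicF.IsInvertible L) :
    ∀ n : ℕ, φ (KRR.cl X L) ^ n = φ (KRR.cl X (CohB1.tensorPow L n))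
  | 0 => by rw [pow_zero]; exact hK.map_one.symm
  | n + 1 => by
    rw [pow_succ, pow_cl hK hL n]
    exact hK.map_mul _ _ (TensorMod.LocFree.of_rank (TensorMod.LocFree.of_isInvertible
      (TensorMod.Invertible.isInvertible_tensorPow hL n)))
      (TensorMod.LocFree.of_rank (TensorMod.LocFree.of_isInvertible hL))

theorem mem_pos (hK : KRR.IsModel X K P φ) {E : X.Modules} (hE : FlatMod.IsFinLocFree E) :
    φ (KRR.cl X E) + 1 ∈ P.pos := by
  obtain ⟨x₀⟩ : Nonempty ↥X := inferInstance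
  have hO : FlatMod.IsFinLocFree (Coh.structureModule X) := ExtFilt.Lambda.isFinLocFree_structure
  obtain ⟨h, hc, hr⟩ := Model.cl_biprod hE hO
  refine (hK.mem_pos_iff _).2 ⟨Model.rk (E ⊞ Coh.structureModule X) x₀, _, ?_,
    Model.rank_of_isFinLocFree h x₀, by rw [hc, map_add, hK.map_one]⟩
  have h1 := Model.rk_of_rank
    (TensorMod.LocFree.of_isInvertible (SurfInt.H2Vanish.isInvertible_structure (X := X))) x₀
  rw [hr x₀, h1]
  omega

theorem eventually_twist (hK : KRR.IsModel X K P φ) {L : X.Modules} (hL : CohB1.IsAmple L)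
    {E : X.Modules} (hE : FlatMod.IsFinLocFree E) :
    ∃ n₀ : ℕ, ∀ n, n₀ ≤ n →
      φ (KRR.cl X L) ^ n * φ (KRR.cl X E) + 1 ∈ P.pos ∧
      ∃ (e : K) (m : ℕ), e ∈ P.pos ∧ -(φ (KRR.cl X L) ^ n * φ (KRR.cl X E)) = e - m := by
  obtain ⟨n₀, h₀⟩ := Ample.GG.eventually_genAt_twist hL E (Devissage.LocFreeK0.isCoh_of_locFree hE)
  refine ⟨n₀, fun n hn => ?_⟩
  have hLn := TensorMod.LocFree.of_rank (TensorMod.LocFree.of_isInvertible
    (TensorMod.Invertible.isInvertible_tensorPow hL.1 n))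
  have hT := TensorMod.LocFree.isFinLocFree_tensorMod hE hLn
  rw [mul_comm, pow_cl hK hL.1 n, hK.map_mul _ _ hE hLn]
  refine ⟨mem_pos hK hT, ?_⟩
  obtain ⟨k, p, hp⟩ := ResDescend36.Ample.exists_epi_freeMod _ (Devissage.LocFreeK0.isCoh_of_locFree hT)
    (h₀ n hn)
  obtain ⟨hf, hfc⟩ := cl_freeMod (X := X) k
  let c := KRes.Dim.Cover.ofEpi (fun M : X.Modules => FlatMod.IsFinLocFree M) p hf
  have hker : FlatMod.IsFinLocFree c.K :=
    Devissage.LocFreeK0.locFree_kernel c.se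
      (Devissage.ResolvableK0.coh_kernel c.se (Devissage.LocFreeK0.isCoh_of_locFree hf)
        (Devissage.LocFreeK0.isCoh_of_locFree hT)) hf hT
  have h : φ (KRR.cl X (FlatMod.freeMod X k)) =
      φ (KRR.cl X c.K) + φ (KRR.cl X (CohB1.tensorMod E (CohB1.tensorPow L n))) :=
    (congrArg φ (KRes.KSub.rel (P := KRR.vbP X) c.se hker hf hT)).trans (map_add φ _ _)
  rw [hfc, map_nsmul, hK.map_one, nsmul_one] at h
  refine ⟨φ (KRR.cl X c.K) + 1, k + 1, mem_pos hK hker, ?_⟩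
  change -(φ (KRR.cl X (CohB1.tensorMod E (CohB1.tensorPow L n)))) = _
  push_cast
  rw [h]
  abel

theorem isAmpleElt (hK : KRR.IsModel X K P φ) {L : X.Modules} (hL : CohB1.IsAmple L) :
    KRR.IsAmpleElt P (φ (KRR.cl X L)) := by
  have h1 := TensorMod.LocFree.of_isInvertible hL.1
  refine ⟨⟨(hK.mem_pos_iff _).2 ⟨1, L, le_rfl, h1, rfl⟩, by rw [hK.aug_cl 1 L h1]; rfl⟩, fun x => ?_⟩
  obtain ⟨y, rfl⟩ := hK.bijective.2 x
  suffices h : ∀ y, ∃ n₀ : ℕ, ∀ n, n₀ ≤ n → ∃ (e : K) (m : ℕ), e ∈ P.pos ∧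
      φ (KRR.cl X L) ^ n * φ y = e - m from h y
  let G : AddSubgroup (SGA6.Kvb X) :=
    { carrier := {y | (∃ n₀ : ℕ, ∀ n, n₀ ≤ n → ∃ (e : K) (m : ℕ), e ∈ P.pos ∧
        φ (KRR.cl X L) ^ n * φ y = e - m) ∧ ∃ n₀ : ℕ, ∀ n, n₀ ≤ n → ∃ (e : K) (m : ℕ), e ∈ P.pos ∧
        φ (KRR.cl X L) ^ n * φ (-y) = e - m}
      zero_mem' := by
        have h0 : ∃ (e : K) (m : ℕ), e ∈ P.pos ∧ (0 : K) = e - m :=
          ⟨1, 1, by simpa using P.natCast_mem 1 Nat.one_pos, by simp⟩
        exact ⟨⟨0, fun n _ => by simpa using h0⟩, ⟨0, fun n _ => by simpa using h0⟩⟩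
      add_mem' := fun {a b} ⟨⟨na, ha⟩, ⟨na', ha'⟩⟩ ⟨⟨nb, hb⟩, ⟨nb', hb'⟩⟩ => by
        refine ⟨⟨max na nb, fun n hn => ?_⟩, ⟨max na' nb', fun n hn => ?_⟩⟩
        · obtain ⟨e, m, he, h⟩ := ha n (le_trans (le_max_left _ _) hn)
          obtain ⟨e', m', he', h'⟩ := hb n (le_trans (le_max_right _ _) hn)
          exact ⟨e + e', m + m', P.add_mem _ _ he he', by rw [map_add, mul_add, h, h']; push_cast; abel⟩
        · obtain ⟨e, m, he, h⟩ := ha' n (le_trans (le_max_left _ _) hn)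
          obtain ⟨e', m', he', h'⟩ := hb' n (le_trans (le_max_right _ _) hn)
          exact ⟨e + e', m + m', P.add_mem _ _ he he', by
            rw [neg_add, map_add, mul_add, h, h']; push_cast; abel⟩
      neg_mem' := fun {a} h => ⟨h.2, by rw [neg_neg]; exact h.1⟩ }
  have hG : G = ⊤ := KRes.KSub.closure_eq_top fun E hE => by
    obtain ⟨n₀, h₀⟩ := eventually_twist hK hL hE
    refine ⟨⟨n₀, fun n hn => ⟨_, 1, (h₀ n hn).1, by push_cast; exact (add_sub_cancel_right _ _).symm⟩⟩,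
      ⟨n₀, fun n hn => ?_⟩⟩
    obtain ⟨e, m, he, h⟩ := (h₀ n hn).2
    exact ⟨e, m, he, by rw [map_neg, mul_neg]; exact h⟩
  exact fun y => ((SetLike.ext_iff.1 hG y).2 trivial).1

end Groth.Agent.Lib.KVec.Ample
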