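import Groth.Agent.Lib.KVec.RelResolve
import Groth.Agent.Lib.DerivedOX.TensorSheaf
import Groth.Agent.Lib.RDer.Connecting
import Groth.Agent.Lib.ZarCoh.FP
import Groth.Agent.S0020
import Groth.Agent.S1027

/-!
# Dimension shifting for twisted push-forwards
-/

set_option autoImplicit false
set_option linter.style.haveILetI false
set_option linter.unusedSectionVars false
universe u

open CategoryTheory CategoryTheory.Limits AlgebraicGeometry
open scoped TensorProduct

namespace Groth.Agent.Lib.KVec.RelShift

open Groth.Agent Groth.Agent.Lib Groth.Agent.Lib.KVec.RelResolve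

noncomputable section

variable {X Y : Scheme.{u}} (π : X ⟶ Y)

/-- The tensor product of a module flat over the base with a bundle is flat over the base. -/
theorem isFlatOver_tensor {F E : X.Modules} (hF : FlatMod.IsFlatOver π F) (hE : FlatMod.IsFinLocFree E) :
    FlatMod.IsFlatOver π (CohB1.tensorMod F E) := fun x => by
  classical
  obtain ⟨r, ⟨b⟩⟩ := DualPull.exists_basis_stalk hE x
  let e : (CohB1.tensorMod F E).presheaf.stalk x ≃ₗ[X.presheaf.stalk x] (Fin r →₀ F.presheaf.stalk x) :=
    (DerivedOX.TensorSheaf.tensorStalk x F E).trans (TensorProduct.equivFinsuppOfBasisRight b)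
  letI := FlatMod.moduleStalkOver π F x
  letI := FlatMod.moduleStalkOver π (CohB1.tensorMod F E) x
  haveI : Module.Flat (Y.presheaf.stalk (π.base x)) (F.presheaf.stalk x) := hF x
  haveI : Module.Flat (Y.presheaf.stalk (π.base x)) (Fin r →₀ F.presheaf.stalk x) :=
    Module.Flat.of_linearEquiv (finsuppLEquivDirectSum (Y.presheaf.stalk (π.base x)) (F.presheaf.stalk x) (Fin r))
  exact Module.Flat.of_linearEquiv
    ({ e.toAddEquiv with map_smul' := fun c m => e.map_smul ((π.stalkMap x).hom c) m } :
      (CohB1.tensorMod F E).presheaf.stalk x ≃ₗ[Y.presheaf.stalk (π.base x)] (Fin r →₀ F.presheaf.stalk x))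

variable [IsProper π] [IsNoetherian Y] [HasInjectiveResolutions X.Modules]

theorem isCoh_tensor [IsLocallyNoetherian X] {F E : X.Modules} (hF : Coh.IsCoh F) (hE : FlatMod.IsFinLocFree E) :
    Coh.IsCoh (CohB1.tensorMod F E) := by
  exact ProjCoh.Coherent.isCoh_tensorMod hF (Perfect.Coherent.isCoh_of_isFinLocFree hE)

/-- Without higher direct images the direct image is finite locally free. -/
theorem acyc_of_vanish {F E : X.Modules} (hF : Coh.IsCoh F) (hFf : FlatMod.IsFlatOver π F)
    (hE : FlatMod.IsFinLocFree E)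
    (h : ∀ p, 0 < p → IsZero ((Coh.Rpush π p).obj (CohB1.tensorMod F E))) : Acyc π F E := by
  haveI : IsLocallyNoetherian X := LocallyOfFiniteType.isLocallyNoetherian π
  have hc := isCoh_tensor hF hE
  haveI : LocallyOfFinitePresentation π := inferInstance
  refine ⟨h, Groth.Agent.S1027.result π _ (ZarCoh.FP.isFP_of_isCoh _ hc) (isFlatOver_tensor π hFf hE) ?_ h⟩
  have hcl : IsClosed (CohB1.support (CohB1.tensorMod F E)) := Groth.Agent.S0020.result X _ hc.2
  exact ⟨hcl, inferInstance⟩

/-- Dimension shifting along a step of a resolution. -/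
theorem shift {F : X.Modules} {S : ShortComplex X.Modules} (hS : S.ShortExact)
    (h₃ : FlatMod.IsFinLocFree S.X₃) (h₂ : Acyc π F S.X₂) {p : ℕ} (hp : 0 < p)
    (h : IsZero ((Coh.Rpush π (p + 1)).obj (CohB1.tensorMod F S.X₁))) :
    IsZero ((Coh.Rpush π p).obj (CohB1.tensorMod F S.X₃)) := by
  haveI := DerivedOX.Grothendieck.enoughInjectives_modules X
  obtain ⟨Δ⟩ := RDer.Connecting.nonempty_derivedLES (Scheme.Modules.pushforward π)
  obtain ⟨q, rfl⟩ : ∃ q, p = q + 1 := ⟨p - 1, by omega⟩
  exact h.of_iso (RDer.Compare.shiftIso Δ (shortExact_tensor F hS h₃) q (h₂.1 (q + 1) (by omega))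
    (h₂.1 (q + 2) (by omega)))

end

end Groth.Agent.Lib.KVec.RelShift
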