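import Groth.Agent.Lib.KVec.RelResolve
import Groth.Agent.Lib.KVec.Pull
import Groth.Agent.Lib.ExchangeFP29.Nil.Split
import Groth.Agent.Lib.ProperFin.Devissage
import Groth.Agent.Lib.CohDelta.DevApps
import Groth.Agent.Lib.Devissage.Closure
import Groth.Agent.Lib.Snapper.Finite
import Groth.Agent.Lib.Snapper.DimBound
import Groth.Agent.Lib.SurfInt.Push
import Groth.Agent.Lib.Ample.Pullback
import Groth.Agent.Lib.KVec.RelShift
import Groth.Agent.Lib.Modules.ProjFormula

/-!
# The γ-filtration lowers the dimension of supports, seen by Euler characteristics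
-/

set_option autoImplicit false
set_option linter.style.haveILetI false
set_option linter.unusedSectionVars false
universe v u

open CategoryTheory CategoryTheory.Limits AlgebraicGeometry TopologicalSpace

namespace Groth.Agent.Lib.KVec.ChiCap

open Groth.Agent Groth.Agent.Lib Groth.Agent.Lib.Devissage.Basic

noncomputable section

variable (k : Type u) [Field k] {X W : Scheme.{u}} [W.Over (Spec (CommRingCat.of k))]
  [IsProper (W ↘ Spec (CommRingCat.of k))] [IsNoetherian W] (q : W ⟶ X) (D : ℕ)

attribute [local irreducible] FGA.eulerCharLE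

/-- The Euler characteristic of `G ⊗ q^* E`. -/
def chiT (G : W.Modules) (E : X.Modules) : ℤ :=
  FGA.eulerCharLE k W (CohB1.tensorMod G ((Scheme.Modules.pullback q).obj E)) D

theorem chiT_add_left (hD : topologicalKrullDim W ≤ D) {S : ShortComplex W.Modules} (hS : S.ShortExact)
    (h₁ : Coh.IsCoh S.X₁) (h₂ : Coh.IsCoh S.X₂) (h₃ : Coh.IsCoh S.X₃)
    {E : X.Modules} (hE : FlatMod.IsFinLocFree E) :
    chiT k q D S.X₂ E = chiT k q D S.X₁ E + chiT k q D S.X₃ E := by
  have hE' := TensorMod.LocFree.isFinLocFree_pullback q hE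
  haveI := Modules.DualAdj.tensorL_preservesHomology (Modules.DualBasis.hasDBases_of_isFinLocFree hE')
  haveI : PreservesFiniteLimits (Modules.DualAdj.tensorL ((Scheme.Modules.pullback q).obj E)) :=
    Functor.preservesFiniteLimits_of_preservesHomology _
  haveI : PreservesFiniteColimits (Modules.DualAdj.tensorL ((Scheme.Modules.pullback q).obj E)) :=
    Functor.preservesFiniteColimits_of_preservesHomology _
  have hT := hS.map_of_exact (Modules.DualAdj.tensorL ((Scheme.Modules.pullback q).obj E))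
  have hc : ∀ M : W.Modules, Coh.IsCoh M →
      Coh.IsCoh (CohB1.tensorMod ((Scheme.Modules.pullback q).obj E) M) := fun M hM =>
    CohBasics.Closure.isCoh_of_iso (TensorMod.Basic.comm _ _) (RelShift.isCoh_tensor hM hE')
  have hkey := Snapper.Chi.eulerCharLE_add (Snapper.Finite.cohFinite k W) hD hT (hc _ h₁) (hc _ h₂) (hc _ h₃)
  have hi : ∀ M : W.Modules, chiT k q D M E =
      FGA.eulerCharLE k W (CohB1.tensorMod ((Scheme.Modules.pullback q).obj E) M) D := fun M =>
    Snapper.Chi.eulerCharLE_of_iso (TensorMod.Basic.comm _ _) D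
  rw [hi, hi, hi]
  exact hkey

/-- `E ↦ χ(G ⊗ q^* E)` on classes of bundles. -/
def chiHom (hD : topologicalKrullDim W ≤ D) {G : W.Modules} (hG : Coh.IsCoh G) : SGA6.Kvb X →+ ℤ :=
  KRes.KSub.lift (P := KRR.vbP X) (chiT k q D G) fun S hS h₁ h₂ h₃ => by
    have hS' := Pull.shortExact_pullback q hS h₃
    have hT := RelResolve.shortExact_tensor G hS' (TensorMod.LocFree.isFinLocFree_pullback q h₃)
    show FGA.eulerCharLE k W _ D = FGA.eulerCharLE k W _ D + FGA.eulerCharLE k W _ D
    exact Snapper.Chi.eulerCharLE_add (Snapper.Finite.cohFinite k W) hD hT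
      (RelShift.isCoh_tensor hG (TensorMod.LocFree.isFinLocFree_pullback q h₁))
      (RelShift.isCoh_tensor hG (TensorMod.LocFree.isFinLocFree_pullback q h₂))
      (RelShift.isCoh_tensor hG (TensorMod.LocFree.isFinLocFree_pullback q h₃))

theorem chiHom_cl (hD : topologicalKrullDim W ≤ D) {G : W.Modules} (hG : Coh.IsCoh G) {E : X.Modules}
    (hE : FlatMod.IsFinLocFree E) : chiHom k q D hD hG (KRR.cl X E) = chiT k q D G E :=
  KRes.KSub.lift_cl (P := KRR.vbP X) _ _ hE

variable [IsNoetherian X] [ConnectedSpace X] {KX : Type v} [CommRing KX] [LambdaRing.LambdaOps KX]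
  {PX : LambdaRing.PosStructure KX} {φX : SGA6.Kvb X →+ KX} (hKX : KRR.IsModel X KX PX φX)

include hKX in
/-- On the structure sheaf of an integral closed subscheme of dimension at most `d`, `F^(d+1)` acts by zero. -/
theorem chiHom_push {A : W.Modules} (hA : CohB1.IsAmple A) {Z : Scheme.{u}} (i : Z ⟶ W) [IsClosedImmersion i]
    [IsIntegral Z] (hD : topologicalKrullDim W ≤ D) {d : ℕ} (hd : topologicalKrullDim Z ≤ d)
    (hG : Coh.IsCoh ((Coh.push i).obj (Coh.structureModule Z))) {a : SGA6.Kvb X}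
    (ha : φX a ∈ LambdaRing.gammaFiltration PX (d + 1)) : chiHom k q D hD hG a = 0 := by
  letI : Z.Over (Spec (CommRingCat.of k)) := ⟨i ≫ (W ↘ Spec (CommRingCat.of k))⟩
  haveI : IsProper (Z ↘ Spec (CommRingCat.of k)) :=
    inferInstanceAs (IsProper (i ≫ (W ↘ Spec (CommRingCat.of k))))
  haveI : IsNoetherian Z := Curves.GlobalSections.isNoetherian_of_proper k Z
  haveI : IrreducibleSpace Z := inferInstance
  haveI : ConnectedSpace Z := inferInstance
  haveI : Coh.IsQCoh (Coh.structureModule Z) := TensorMod.QCohInv.isQCoh_structureModule Z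
  have hZD : topologicalKrullDim Z ≤ D := (i.isEmbedding.isInducing.topologicalKrullDim_le).trans hD
  obtain ⟨K, _, _, P, φ, hK⟩ := KVec.Model.exists_model (X := Z)
  obtain ⟨θ, hθ, hlam, haug, -⟩ := ExchangeFP29.PBK.Split.exists_pullHom (i ≫ q) hKX hK
  obtain ⟨pb, hpb⟩ := Pull.exists_pull (i ≫ q)
  have hθpb : θ.toAddMonoidHom.comp φX = φ.comp pb := KRes.KSub.hom_ext (P := KRR.vbP X) fun E hE =>
    (hθ E hE).trans (congrArg φ (hpb E hE).symm)
  have h0 : θ (φX a) = 0 := by
    have h := ExchangeFP29.PBK.Tower.le_comap θ hlam haug (d + 1) ha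
    rw [ExchangeFP29.Nil.gammaFiltration_eq_bot' (Ample.Pullback.isAmple_pullback i
      (Ample.Pullback.isQuasiAffine_of_isAffineHom i) hA) hd hK, AddSubgroup.mem_comap, AddSubgroup.mem_bot] at h
    exact h
  have hpb0 : pb a = 0 := hK.bijective.1 (((DFunLike.congr_fun hθpb a).symm.trans h0).trans (map_zero φ).symm)
  have hZQ : Coh.IsCoh (Coh.structureModule Z) := Snapper.Twist.isCoh_structureModule Z
  have key : chiHom k q D hD hG = (chiHom k (𝟙 Z) D hZD hZQ).comp pb :=
    KRes.KSub.hom_ext (P := KRR.vbP X) fun E hE => by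
      have hE' := TensorMod.LocFree.isFinLocFree_pullback q hE
      show chiHom k q D hD hG (KRR.cl X E) = chiHom k (𝟙 Z) D hZD hZQ (pb (KRR.cl X E))
      rw [show pb (KRR.cl X E) = KRR.cl Z ((Scheme.Modules.pullback (i ≫ q)).obj E) from hpb E hE,
        chiHom_cl k q D hD hG hE,
        chiHom_cl k (𝟙 Z) D hZD hZQ (TensorMod.LocFree.isFinLocFree_pullback _ hE)]
      have hi2 := TensorMod.LocFree.isFinLocFree_pullback i hE'
      haveI : (CohB1.tensorMod ((Scheme.Modules.pullback i).obj ((Scheme.Modules.pullback q).obj E))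
          (Coh.structureModule Z)).IsQuasicoherent :=
        (CohBasics.Closure.isCoh_of_iso (TensorMod.Basic.comm _ _) (RelShift.isCoh_tensor hZQ hi2)).1
      refine (Snapper.Chi.eulerCharLE_of_iso (TensorMod.Basic.comm _ _ ≪≫
        (Modules.ProjFormula.projIso i (Modules.DualBasis.hasDBases_of_isFinLocFree hE')).app
          (Coh.structureModule Z)) D).trans ?_
      refine (SurfInt.Push.eulerCharLE_push i rfl
        (CohB1.tensorMod ((Scheme.Modules.pullback i).obj ((Scheme.Modules.pullback q).obj E))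
          (Coh.structureModule Z)) D).trans ?_
      exact Snapper.Chi.eulerCharLE_of_iso (TensorMod.Basic.comm _ _ ≪≫
        TensorMod.Basic.tensorIso (Iso.refl _) ((Scheme.Modules.pullbackComp i q).app E ≪≫
          ((Scheme.Modules.pullbackId Z).app _).symm)) D
  rw [key, AddMonoidHom.comp_apply, hpb0, map_zero]

include hKX in
/-- `F^(d+1) K(X)` has zero Euler pairing with coherent modules supported in dimension at most `d`. -/
theorem chiHom_eq_zero {A : W.Modules} (hA : CohB1.IsAmple A) (hD : topologicalKrullDim W ≤ D) {d : ℕ}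
    {G : W.Modules} (hG : Coh.IsCoh G) (hd : topologicalKrullDim ↥(CohB1.support G) ≤ (d : WithBot ℕ∞))
    {a : SGA6.Kvb X} (ha : φX a ∈ LambdaRing.gammaFiltration PX (d + 1)) : chiHom k q D hD hG a = 0 := by
  haveI := hG.2
  let T : Closeds W := ⟨CohB1.support G, Modules.Support.isClosed_support G⟩
  have hadd : ∀ (S : ShortComplex W.Modules), S.ShortExact → ∀ (h₁ : Coh.IsCoh S.X₁) (h₂ : Coh.IsCoh S.X₂)
      (h₃ : Coh.IsCoh S.X₃), chiHom k q D hD h₂ a = chiHom k q D hD h₁ a + chiHom k q D hD h₃ a := by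
    intro S hS h₁ h₂ h₃
    have : chiHom k q D hD h₂ = chiHom k q D hD h₁ + chiHom k q D hD h₃ :=
      KRes.KSub.hom_ext (P := KRR.vbP X) fun E hE => by
        show chiHom k q D hD h₂ (KRR.cl X E) =
          chiHom k q D hD h₁ (KRR.cl X E) + chiHom k q D hD h₃ (KRR.cl X E)
        rw [chiHom_cl k q D hD h₁ hE, chiHom_cl k q D hD h₂ hE, chiHom_cl k q D hD h₃ hE]
        exact chiT_add_left k q D hD hS h₁ h₂ h₃ hE
    rw [this]; rfl
  refine ProperFin.Devissage.devissage (fun M => ∀ hM : Coh.IsCoh M, chiHom k q D hD hM a = 0) T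
    ⟨fun M hM hMc => ?_, fun S hS h₁ h₂ h₃ => ?_⟩ (fun y hy => ?_) G ⟨hG, subset_rfl⟩ hG
  · have : chiHom k q D hD hMc = 0 := KRes.KSub.hom_ext (P := KRR.vbP X) fun E hE => by
      show chiHom k q D hD hMc (KRR.cl X E) = 0
      rw [chiHom_cl k q D hD hMc hE]
      exact Snapper.Chi.eulerCharLE_isZero
        ((TensorMod.Basic.tensorBy ((Scheme.Modules.pullback q).obj E)).map_isZero hM) D
    rw [this]; rfl
  · have h := hadd S hS h₁.1 h₂.1 h₃.1
    exact ⟨fun u v hc => by rw [h, u h₁.1, v h₃.1, add_zero],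
      fun u v hc => by rw [u h₂.1, v h₃.1, add_zero] at h; exact h.symm,
      fun u v hc => by rw [u h₁.1, v h₂.1, zero_add] at h; exact h.symm⟩
  · obtain ⟨hint, -⟩ := CohDelta.DevApps.isIntegral_ptIdeal y
    haveI := hint
    refine ⟨Cyc.closureStructureSheaf y, Devissage.Closure.cohIn_closureStructureSheaf y,
      Devissage.Closure.length_closureStructureSheaf y,
      fun hM => chiHom_push k q D hKX hA (IntMult.ptIdeal y).subschemeι hD ?_ hM ha⟩
    refine le_trans ?_ hd
    let i := (IntMult.ptIdeal y).subschemeι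
    have hr : ∀ z, i z ∈ CohB1.support G := fun z =>
      closure_minimal (Set.singleton_subset_iff.2 hy) T.isClosed
        (Devissage.Closure.range_ptIdeal y ▸ Set.mem_range_self z)
    exact ((i.isEmbedding.codRestrict _ hr).isInducing).topologicalKrullDim_le

end

end Groth.Agent.Lib.KVec.ChiCap
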