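import Groth.Agent.Lib.FibreVanish36.Affine
import Groth.Agent.S7411
import Groth.Agent.S11319
import Groth.Agent.S4456
import Groth.Agent.S9377
import Groth.Agent.Lib.CohBasics.Closure

/-!
# Vanishing of direct images above the dimension of the support in the fibres
-/

set_option autoImplicit false
set_option linter.style.haveILetI false
universe u

open CategoryTheory CategoryTheory.Limits AlgebraicGeometry

namespace Groth.Agent.Lib.KVec.RelVanish

open Groth.Agent Groth.Agent.Lib

noncomputable section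

variable {X Y : Scheme.{u}} (π : X ⟶ Y)

theorem isZero_of_toAb {M : Y.Modules} (h : IsZero (Coh.toAb M)) : IsZero M :=
  (IsZero.iff_id_eq_zero M).2 ((SheafOfModules.toSheaf Y.ringCatSheaf).map_injective
    (h.eq_of_src _ _))

theorem isZero_Rpush_of_RpushAb [HasInjectiveResolutions X.Modules] {M : X.Modules} {p : ℕ}
    (h : IsZero ((Coh.RpushAb π p).obj (Coh.toAb M))) : IsZero ((Coh.Rpush π p).obj M) := by
  obtain ⟨e⟩ := Groth.Agent.S11319.result π M p
  exact isZero_of_toAb (h.of_iso e)

/-- `R^p π_*` vanishes above the dimension of the support in the fibres. -/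
theorem isZero_Rpush [IsProper π] [HasInjectiveResolutions X.Modules] {G : X.Modules} (hG : Coh.IsCoh G)
    (d : ℕ) (hd : ∀ y : Y, topologicalKrullDim ↥(CohB1.support G ∩ π.base ⁻¹' {y}) ≤ d) {p : ℕ} (hp : d < p) :
    IsZero ((Coh.Rpush π p).obj G) := by
  obtain ⟨J, -, hiso, -, hsupp⟩ := Groth.Agent.S9377.result X G hG.1 hG.2
  let ι := J.subschemeι
  haveI := hiso
  let H := (Scheme.Modules.pullback ι).obj G
  haveI := hG.1
  haveI hH : Coh.IsQCoh H := QCoh.Pullback.isQCoh_pullback ι G
  let e : G ≅ (Coh.push ι).obj H := asIso ((Scheme.Modules.pullbackPushforwardAdjunction ι).unit.app G)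
  have hz : IsZero ((Coh.RpushAb (ι ≫ π) p).obj (Coh.toAb H)) := by
    refine FibreVanish36.Affine.isZero_of_stalk _ fun y => ?_
    refine Groth.Agent.S7411.result (ι ≫ π) y d ?_ H p hp
    have hr : Set.range ι = CohB1.support G := by
      rw [Scheme.IdealSheafData.range_subschemeι, hsupp]
    have hmem : ∀ z, ι ((ι ≫ π).fiberι y z) ∈ CohB1.support G ∩ π.base ⁻¹' {y} := fun z =>
      ⟨hr.le ⟨_, rfl⟩, by
        have := ((ι ≫ π).range_fiberι y).le ⟨z, rfl⟩
        simpa using this⟩
    have hf := (ι.isClosedEmbedding.isEmbedding.comp ((ι ≫ π).fiberι y).isEmbedding).isInducing.codRestrict hmem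
    exact le_trans hf.topologicalKrullDim_le (hd y)
  obtain ⟨i⟩ := Groth.Agent.S4456.result ι π H p
  exact isZero_Rpush_of_RpushAb π ((hz.of_iso i).of_iso
    ((Coh.RpushAb π p).mapIso ((SheafOfModules.toSheaf _).mapIso e)))

end

end Groth.Agent.Lib.KVec.RelVanish
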