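import Groth.Agent.Lib.ExchangeFP29.PBK.Basic
import Groth.Agent.Lib.H70.KRRReg.NegPush
import Groth.Agent.Lib.H70.KRRReg.Kernel
import Groth.Agent.Lib.KVec.RelVanish
import Groth.Agent.S4483

/-!
# Direct images of twisted inverse images along a projective bundle
-/

set_option autoImplicit false
set_option linter.style.haveILetI false
universe u

open CategoryTheory CategoryTheory.Limits AlgebraicGeometry TopologicalSpace Opposite

noncomputable section

namespace Groth.Agent.Lib.KVec.KcohVanish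

open Groth.Agent Groth.Agent.Lib TensorMod.Basic ZarCoh.Exchange.Sections
open Groth.Agent.Lib.H70.KRRReg

variable {X P : Scheme.{u}} {π : P ⟶ X} {E : X.Modules} {O1 : P.Modules}
  {q : (Scheme.Modules.pullback π).obj E ⟶ O1} {r : ℕ}
  (hP : KRR.IsProjBundle π E O1 q) (hE : FlatMod.IsFinLocFreeOfRank (r + 1) E)

/-- The affine opens over which the bundle is a projective space. -/
def S (π : P ⟶ X) (O1 : P.Modules) (r : ℕ) : Set X.Opens :=
  {W | ∃ (hW : IsAffineOpen W), ∃ j : CohB1.ProjSpace r Γ(X, W) ⟶ P, IsOpenImmersion j ∧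
    Set.range j = (π ⁻¹ᵁ W : Set P) ∧
    Nonempty ((Scheme.Modules.pullback j).obj O1 ≅ Twist.twistProjSpace r Γ(X, W) 1) ∧
    j ≫ π = CohB1.ProjSpace.toSpec r Γ(X, W) ≫ hW.fromSpec}

include hP hE in
theorem isBasis_S : Opens.IsBasis (S π O1 r) := Opens.isBasis_iff_nbhd.2 fun {U x} hx => by
  obtain ⟨W, hxW, hW⟩ := ExchangeFP29.PBK.exists_chart_nhd hP hE x
  obtain ⟨V, hV, hxV, hle⟩ :=
    exists_isAffineOpen_mem_and_subset (X := X) (x := x) (U := U ⊓ W) ⟨hx, hxW⟩
  exact ⟨V, ⟨hV, hW V hV fun y hy => (hle hy).2⟩, hxV, fun y hy => (hle hy).1⟩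

include hP hE in
/-- The cohomology of `π^*N ⊗ M` vanishes over the charts. -/
theorem subsingleton_HU (N : X.Modules) [N.IsQuasicoherent] (M : P.Modules) (d : ℤ) (i : ℕ)
    (hd : -(r : ℤ) ≤ d) (hi : i = 0 → d < 0)
    (hM : ∀ (A : CommRingCat.{u}) (j : CohB1.ProjSpace r A ⟶ P),
      Nonempty ((Scheme.Modules.pullback j).obj O1 ≅ Twist.twistProjSpace r A 1) →
        Nonempty ((Scheme.Modules.pullback j).obj M ≅ Twist.twistProjSpace r A d))
    (W : X.Opens) (hWS : W ∈ S π O1 r) :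
    Subsingleton (CohTop.HU (Coh.toAb (CohB1.tensorMod ((Scheme.Modules.pullback π).obj N) M)) i (π ⁻¹ᵁ W)) := by
  set Z := CohB1.tensorMod ((Scheme.Modules.pullback π).obj N) M
  obtain ⟨hW, j, hj, hrange, hj1, hw⟩ := hWS
  obtain ⟨τ⟩ := hM _ j hj1
  let N' : (Spec (CommRingCat.of Γ(X, W))).Modules := (Scheme.Modules.pullback hW.fromSpec).obj N
  haveI : N'.IsQuasicoherent := QCoh.Pullback.isQCoh_pullback _ N
  haveI hiso : IsIso N'.fromTildeΓ := inferInstance
  let M₀ : ModuleCat.{u} Γ(X, W) := (moduleSpecΓFunctor (R := CommRingCat.of Γ(X, W))).obj N'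
  let e : G (A := Γ(X, W)) (ProjCoh.Coherent.tw r Γ(X, W) d) M₀ ≅ Z.restrict j :=
    tensorIso ((Scheme.Modules.pullback (CohB1.ProjSpace r Γ(X, W) ↘
        Spec (CommRingCat.of Γ(X, W)))).mapIso (@asIso _ _ _ _ N'.fromTildeΓ hiso) ≪≫
      (Scheme.Modules.pullbackComp _ _).app N ≪≫
      (Scheme.Modules.pullbackCongr hw).symm.app N ≪≫
      ((Scheme.Modules.pullbackComp _ _).app N).symm) τ.symm ≪≫
    (TensorMod.Pullback.pullbackTensorIso j _ _).symm ≪≫
    ((Scheme.Modules.restrictFunctorIsoPullback j).app _).symm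
  haveI : Subsingleton (Coh.HH _ (Z.restrict j) i) := by
    rcases i with _ | n
    · have h0 := NegPush.subsingleton_sections r Γ(X, W) d (by have := hi rfl; omega) (hi rfl) hd M₀
      have : Subsingleton Γ(Z.restrict j, (⊤ : (CohB1.ProjSpace r Γ(X, W)).Opens)) :=
        Function.Injective.subsingleton (ConcreteCategory.bijective_of_isIso (e.inv.app ⊤)).1
      exact @Equiv.subsingleton _ _ (Curves.GlobalSections.h0Equiv (X := CohB1.ProjSpace r Γ(X, W))
        (Z.restrict j)).toEquiv this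
    · exact ProjKoszul.Chase.subsingleton_of_iso Γ(X, W) e
        (PullbackVanish.subsingleton_G r Γ(X, W) hd M₀ n)
  have := (ZarCoh.Morph.openEquiv j Z i).symm.toEquiv.subsingleton
  rwa [Scheme.Hom.image_top_eq_opensRange, show j.opensRange = π ⁻¹ᵁ W from Opens.ext hrange] at this

include hP hE in
/-- `R^i π_* (π^*N ⊗ M) = 0` when `M` is a twist `d ≥ -r` on the charts, unless `i = 0 ≤ d`. -/
theorem isZero (N : X.Modules) [N.IsQuasicoherent] (M : P.Modules) (d : ℤ) (i : ℕ)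
    (hd : -(r : ℤ) ≤ d) (hi : i = 0 → d < 0)
    (hM : ∀ (A : CommRingCat.{u}) (j : CohB1.ProjSpace r A ⟶ P),
      Nonempty ((Scheme.Modules.pullback j).obj O1 ≅ Twist.twistProjSpace r A 1) →
        Nonempty ((Scheme.Modules.pullback j).obj M ≅ Twist.twistProjSpace r A d)) :
    IsZero ((Coh.RpushAb π i).obj
      (Coh.toAb (CohB1.tensorMod ((Scheme.Modules.pullback π).obj N) M))) := by
  set Z := CohB1.tensorMod ((Scheme.Modules.pullback π).obj N) M
  have hHU : ∀ W ∈ S π O1 r, Subsingleton (CohTop.HU (Coh.toAb Z) i (π ⁻¹ᵁ W)) :=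
    subsingleton_HU hP hE N M d i hd hi hM
  haveI : (CohTop.push π.base).IsRightAdjoint :=
    (TopCat.Sheaf.pullbackPushforwardAdjunction AddCommGrpCat.{u} _).isRightAdjoint
  haveI : Limits.PreservesFiniteLimits (Coh.pushAb π) :=
    inferInstanceAs (Limits.PreservesFiniteLimits (CohTop.push π.base))
  rcases i with _ | n
  · exact (Groth.Agent.S4471.isZero_push _ _ (isBasis_S hP hE) hHU).of_iso
      ((CategoryTheory.Functor.rightDerivedZeroIsoSelf _).app _)
  · exact ZarCoh.RpushVanish.isZero_RpushAb _ (isBasis_S hP hE) n hHU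

include hP hE in
/-- `N ≅ π_* π^* N`. -/
theorem isIso_unit (N : X.Modules) [N.IsQuasicoherent] :
    IsIso ((Scheme.Modules.pullbackPushforwardAdjunction π).unit.app N) := by
  refine CohDelta.BC.Transpose.isIso_of_bijective_basis _ (isBasis_S hP hE) fun W hWS => ?_
  obtain ⟨hW, j, hj, hrange, -, hw⟩ := hWS
  show Function.Bijective (Kernel.η π N W)
  have hle : W ≤ hW.fromSpec.opensRange := by rw [hW.opensRange_fromSpec]
  have hpre : hW.fromSpec ⁻¹ᵁ W = ⊤ := hW.fromSpec_preimage_self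
  haveI : ((Scheme.Modules.pullback hW.fromSpec).obj N).IsQuasicoherent :=
    QCoh.Pullback.isQCoh_pullback _ N
  refine ⟨fun a b hab => ?_, ?_⟩
  · -- a rational point of the chart
    let s₀ : Spec (CommRingCat.of Γ(X, W)) ⟶ CohB1.ProjSpace r Γ(X, W) :=
      Spec.map (CommRingCat.ofHom (MvPolynomial.eval (0 : Fin r → Γ(X, W)))) ≫
        ProjSpace.Basic.chartι Γ(X, W) (0 : Fin (r + 1))
    have hs₀ : s₀ ≫ CohB1.ProjSpace.toSpec r Γ(X, W) = 𝟙 _ := by
      rw [Category.assoc, ProjSpace.Basic.chartι_toSpec, ← Spec.map_comp, ← CommRingCat.ofHom_comp,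
        show ((MvPolynomial.eval (0 : Fin r → Γ(X, W))).comp MvPolynomial.C) = RingHom.id _ from
          RingHom.ext fun a => MvPolynomial.eval_C a]
      exact Spec.map_id _
    have hs : (s₀ ≫ j) ≫ π = hW.fromSpec := by rw [Category.assoc, hw, reassoc_of% hs₀]
    have hinj : Function.Injective (Kernel.η ((s₀ ≫ j) ≫ π) N W) := by
      rw [hs]
      exact (Kernel.η_bijective_of_open _ N hle).1
    refine hinj ((ConcreteCategory.bijective_of_isIso
      (((Scheme.Modules.pullbackComp (s₀ ≫ j) π).inv.app N).app ((s₀ ≫ j) ⁻¹ᵁ (π ⁻¹ᵁ W)))).1 ?_)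
    exact (Kernel.η_comp (s₀ ≫ j) π N W a).symm.trans
      ((congrArg _ hab).trans (Kernel.η_comp (s₀ ≫ j) π N W b))
  · refine Kernel.η_surjective_of_factor j π (CohB1.ProjSpace.toSpec r Γ(X, W)) hW.fromSpec hw.symm N W
      (Kernel.η_bijective_of_open j _ ?_).1 ?_ (Kernel.η_bijective_of_open _ N hle).2
    · exact (Opens.ext hrange : j.opensRange = π ⁻¹ᵁ W).ge
    · rw [hpre]
      exact Kernel.η_top_surjective r Γ(X, W) _

end Groth.Agent.Lib.KVec.KcohVanish
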