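import Groth.Agent.Lib.KVec.ChiCap
import Groth.Agent.Lib.KVec.KcohVanish
import Groth.Agent.Lib.ExchangeFP29.PBK.Segre
import Groth.Agent.Lib.Nakai.Top
import Groth.Agent.Lib.Nakai.NefConv
import Groth.Agent.Lib.Nakai.NumProper
import Groth.Agent.Lib.ExtShTensor
import Groth.Agent.Lib.CurveBundle.WeilDual

/-!
# Positivity of `γ^d` of generated bundles of rank `d + 1`

For a quotient `E` of a free module with kernel of dual `G`, `γ^d(E - (d+1))` is the top power of
`O(1) - 1` pushed forward from `P(G)`, an intersection number of a generated module.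
-/

set_option autoImplicit false
set_option linter.style.haveILetI false
set_option linter.unusedSectionVars false
universe u v

open CategoryTheory CategoryTheory.Limits AlgebraicGeometry TopologicalSpace Opposite

noncomputable section

namespace Groth.Agent.Lib.KVec.GammaPos

open Groth.Agent Groth.Agent.Lib TensorMod.Basic Groth.Agent.Lib.ExchangeFP29.PBK

attribute [local instance] HasDerivedCategory.standard
attribute [local irreducible] FGA.eulerCharLE

section Free

variable (X : Scheme.{u}) (n : ℕ)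

/-- The coordinates of a free module. -/
def coord (i : Fin n) : FlatMod.freeMod X n ⟶ Coh.structureModule X :=
  Modules.Free.freeHom (M := Coh.structureModule X) fun j => ((if j = i then 1 else 0 : Γ(X, ⊤)) :)

theorem sum_coord : ∑ i : Fin n, coord X n i ≫ Modules.Free.unitHom (FlatMod.freeMod X n) (Modules.Free.gen X i) =
    𝟙 (FlatMod.freeMod X n) := by
  refine Modules.Free.freeHom_ext fun j => ?_
  refine (map_sum (AddMonoidHom.mk' (fun ψ : FlatMod.freeMod X n ⟶ FlatMod.freeMod X n =>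
    ψ.app ⊤ (Modules.Free.gen X j)) fun a b => rfl) _ Finset.univ).trans ?_
  rw [Finset.sum_eq_single j]
  · change (Modules.Free.unitHom _ (Modules.Free.gen X j)).app ⊤ ((coord X n j).app ⊤ (Modules.Free.gen X j)) = _
    rw [coord, Modules.Free.freeHom_app_gen, if_pos rfl, Modules.Free.unitHom_app_one]
    rfl
  · intro i _ hij
    change (Modules.Free.unitHom _ (Modules.Free.gen X i)).app ⊤ ((coord X n i).app ⊤ (Modules.Free.gen X j)) = _
    rw [coord, Modules.Free.freeHom_app_gen, if_neg (Ne.symm hij)]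
    exact map_zero _
  · exact fun h => absurd (Finset.mem_univ j) h

/-- The standard dual basis. -/
def basis : Modules.DualBasis.DBasis (FlatMod.freeMod X n) ⊤ n where
  e i := Modules.Free.gen X i
  f i := ⟨fun V =>
    { toFun := fun y => (show Γ(X, V.1) from (coord X n i).app V.1 y)
      map_add' := fun a b => map_add _ a b
      map_smul' := fun r y => Scheme.Modules.Hom.app_smul (coord X n i) r y },
    fun V W h y => (Modules.TensorSec.app_rs (coord X n i) h y).symm⟩
  sum_eq V h x := by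
    have := congrArg (fun ψ : FlatMod.freeMod X n ⟶ FlatMod.freeMod X n => ψ.app V x) (sum_coord X n)
    refine Eq.trans ?_ this
    exact (map_sum (AddMonoidHom.mk' (fun ψ : FlatMod.freeMod X n ⟶ FlatMod.freeMod X n =>
      ψ.app V x) fun a b => rfl)
      (fun i : Fin n => coord X n i ≫ Modules.Free.unitHom (FlatMod.freeMod X n) (Modules.Free.gen X i)) Finset.univ).symm

/-- The dual of a free module is a quotient of a free module. -/
theorem exists_epi_dual : ∃ p : FlatMod.freeMod X n ⟶ TensorMod.Dual.dual (FlatMod.freeMod X n), Epi p := by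
  let b := (basis X n).dualB
  refine ⟨Modules.Free.freeHom b.e, (Modules.Stalk.epi_iff_stalk_surjective _).2 fun x v => ?_⟩
  obtain ⟨U, hxU, s, rfl⟩ := TopCat.Presheaf.exists_germ_eq _ v
  suffices h : (TensorMod.Dual.dual (FlatMod.freeMod X n)).presheaf.germ U x hxU s ∈
      LinearMap.range (Modules.StalkModule.stalkMapₗ (Modules.Free.freeHom b.e) x) by
    obtain ⟨w, hw⟩ := h
    exact ⟨w, hw⟩
  rw [← b.sum_eq U le_top s, map_sum]
  refine Submodule.sum_mem _ fun i _ => ?_
  rw [Modules.StalkModule.germ_smul]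
  refine Submodule.smul_mem _ _ ?_
  refine ⟨(FlatMod.freeMod X n).presheaf.germ ⊤ x trivial (Modules.Free.gen X i),
    (Modules.Free.freeHom_stalk_germ b.e x i).trans ?_⟩
  exact (TopCat.Presheaf.germ_res_apply _ (homOfLE (le_top : U ≤ ⊤)) x hxU _).symm

variable {X n}

/-- A quotient of a free module is generated by sections at every point. -/
theorem genAt_of_epi {M : X.Modules} (p : FlatMod.freeMod X n ⟶ M) [Epi p] (x : X) :
    Ample.GG.GenAt M x := by
  unfold Ample.GG.GenAt
  refine eq_top_iff.2 fun v _ => ?_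
  obtain ⟨w, rfl⟩ := (Modules.StalkModule.epi_iff_stalkMapₗ_surjective p).1 inferInstance x v
  have hle : Submodule.map (Modules.StalkModule.stalkMapₗ p x)
      (⊤ : Submodule _ ((FlatMod.freeMod X n).presheaf.stalk x)) ≤
      Submodule.span (X.presheaf.stalk x) (Set.range fun t : Γ(M, ⊤) => M.presheaf.germ ⊤ x trivial t) := by
    rw [← Modules.Free.span_germ_gen x, Submodule.map_span, Submodule.span_le]
    rintro _ ⟨_, ⟨i, rfl⟩, rfl⟩
    exact Submodule.subset_span ⟨p.app ⊤ (Modules.Free.gen X i),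
      (Modules.StalkModule.stalkMapₗ_germ p (show x ∈ (⊤ : X.Opens) from trivial) _).symm⟩
  exact hle ⟨w, trivial, rfl⟩

end Free

section Chi

variable (k : Type u) [Field k] (W : Scheme.{u}) [W.Over (Spec (CommRingCat.of k))]
  [IsProper (W ↘ Spec (CommRingCat.of k))] [IsNoetherian W] [ConnectedSpace W] (D : ℕ)
  {K : Type v} [CommRing K] [LambdaRing.LambdaOps K] {P : LambdaRing.PosStructure K}
  {φ : SGA6.Kvb W →+ K} (hK : KRR.IsModel W K P φ)

/-- The Euler characteristic on a model of `K(W)`. -/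
def chi (hD : topologicalKrullDim W ≤ D) : K →+ ℤ :=
  (ChiCap.chiHom k (𝟙 W) D hD (Snapper.Twist.isCoh_structureModule W)).comp
    (AddEquiv.ofBijective φ hK.bijective).symm.toAddMonoidHom

theorem chi_cl (hD : topologicalKrullDim W ≤ D) {M : W.Modules} (hM : FlatMod.IsFinLocFree M) :
    chi k W D hK hD (φ (KRR.cl W M)) = FGA.eulerCharLE k W M D := by
  show ChiCap.chiHom k (𝟙 W) D hD (Snapper.Twist.isCoh_structureModule W)
    ((AddEquiv.ofBijective φ hK.bijective).symm (AddEquiv.ofBijective φ hK.bijective (KRR.cl W M))) = _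
  rw [AddEquiv.symm_apply_apply, ChiCap.chiHom_cl k (𝟙 W) D hD _ hM]
  exact Snapper.Chi.eulerCharLE_of_iso (leftUnit _ ≪≫ (Scheme.Modules.pullbackId W).app M) D

theorem chi_eq_zero {A : W.Modules} (hA : CohB1.IsAmple A) (hD : topologicalKrullDim W ≤ D) {d : ℕ}
    (hd : topologicalKrullDim W ≤ d) {x : K} (hx : x ∈ LambdaRing.gammaFiltration P (d + 1)) :
    chi k W D hK hD x = 0 :=
  ChiCap.chiHom_eq_zero k (𝟙 W) D hK hA hD (Snapper.Twist.isCoh_structureModule W)
    (le_trans Topology.IsEmbedding.subtypeVal.isInducing.topologicalKrullDim_le hd)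
    (by
      change φ ((AddEquiv.ofBijective φ hK.bijective).symm x) ∈ _
      rwa [show φ ((AddEquiv.ofBijective φ hK.bijective).symm x) = x from
        (AddEquiv.ofBijective φ hK.bijective).apply_symm_apply x])

/-- The top power of a generated line bundle is nonnegative. -/
theorem chi_pow_nonneg {A : W.Modules} (hA : CohB1.IsAmple A) (hD : topologicalKrullDim W ≤ D) {q : ℕ}
    (hq : topologicalKrullDim W ≤ q) {L : W.Modules} (hL : PicF.IsInvertible L)
    (hgg : ∀ x : W, Ample.GG.GenAt L x) :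
    0 ≤ chi k W D hK hD ((φ (KRR.cl W L) - 1) ^ q) := by
  have hnef : Nakai.Kleiman.Nef k D L := by
    refine Nakai.NefConv.nef_of_forall_ample (k := k) hD hL hA.1 fun ν hν => ?_
    refine Ample.Pow.isAmple_of_iso (comm A (CohB1.tensorPow L ν)) (Ample.Basis.isAmple_tensor hA
      (TensorMod.Invertible.isInvertible_tensorPow hL ν) fun x => ?_)
    obtain ⟨s, hs⟩ := Ample.GG.exists_genLocus_of_genAt hL (hgg x)
    refine ⟨1, one_pos, SecTwist.powHom (SecTwist.powHom s ν) 1, ?_⟩
    rw [Ample.GenLocus.genLocus_powHom (TensorMod.Invertible.isInvertible_tensorPow hL ν) _ 1 one_pos,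
      Ample.GenLocus.genLocus_powHom hL s ν hν]
    exact hs
  have hLf : FlatMod.IsFinLocFree L := TensorMod.LocFree.of_rank (TensorMod.LocFree.of_isInvertible hL)
  have bridge : ∀ (j : ℕ) (M : W.Modules), FlatMod.IsFinLocFree M →
      chi k W D hK hD (φ (KRR.cl W M) * (1 - φ (KRR.cl W L)) ^ j) =
        Snapper.Vanish.sym k W D (List.replicate j L) M := by
    intro j
    induction j with
    | zero =>
      intro M hM
      rw [pow_zero, mul_one, chi_cl k W D hK hD hM]
      rfl
    | succ j ih =>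
      intro M hM
      have hLM := TensorMod.LocFree.isFinLocFree_tensorMod hLf hM
      have he : φ (KRR.cl W L) * φ (KRR.cl W M) = φ (KRR.cl W (CohB1.tensorMod L M)) :=
        hK.map_mul _ _ hLf hM
      rw [List.replicate_succ, Snapper.Vanish.sym_cons, ← ih M hM, ← ih _ hLM, ← map_sub, ← he]
      exact congrArg _ (by ring)
  have hl : ∀ M ∈ List.replicate q L, PicF.IsInvertible M := fun M hM => List.eq_of_mem_replicate hM ▸ hL
  have hO := Snapper.Twist.isCoh_structureModule W
  have h := Nakai.Top.nonneg_of_points (k := k) (N := D) hD hl hO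
    (by rw [List.length_replicate]; exact le_trans Topology.IsEmbedding.subtypeVal.isInducing.topologicalKrullDim_le hq)
    fun z hz => by
      rw [List.length_replicate] at hz
      have := Nakai.Kleiman.mixed_nonneg (k := k) hD hL hnef q z hz A hA.1
        (Nakai.Cut.ampleAt_of_isAmple hA z) q 0 (Nat.add_zero q)
      simpa [Nakai.Kleiman.mixList] using this
  rw [List.length_replicate, ← bridge q (Coh.structureModule W) ExtFilt.Lambda.isFinLocFree_structure,
    hK.map_one, one_mul] at h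
  refine h.trans_eq ?_
  rw [show (φ (KRR.cl W L) - 1) ^ q = ((-1 : ℤ) ^ q) • (1 - φ (KRR.cl W L)) ^ q by
    rw [zsmul_eq_mul, ← neg_sub (1 : K), neg_pow]; push_cast; ring, map_zsmul, smul_eq_mul]

end Chi

section Bundle

variable {k : Type u} [Field k] {Z X : Scheme.{u}} [Z.Over (Spec (CommRingCat.of k))]
  [X.Over (Spec (CommRingCat.of k))] [IsProper (Z ↘ Spec (CommRingCat.of k))]
  [IsProper (X ↘ Spec (CommRingCat.of k))] [IsNoetherian Z] [IsNoetherian X] [ConnectedSpace Z]
  [ConnectedSpace X] {π : X ⟶ Z}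
  {G : Z.Modules} {O1 Om : X.Modules} {q : (Scheme.Modules.pullback π).obj G ⟶ O1} {r : ℕ}
  (hP : KRR.IsProjBundle π G O1 q) (hG : FlatMod.IsFinLocFreeOfRank (r + 1) G)
  (hOm : PicF.IsInvertible Om) (c : CohB1.tensorMod O1 Om ≅ Coh.structureModule X)
  {K K' : Type v} [CommRing K] [LambdaRing.LambdaOps K] [CommRing K'] [LambdaRing.LambdaOps K']
  {P : LambdaRing.PosStructure K} {P' : LambdaRing.PosStructure K'}
  {φ : SGA6.Kvb Z →+ K} {φ' : SGA6.Kvb X →+ K'} (hK : KRR.IsModel Z K P φ) (hK' : KRR.IsModel X K' P' φ')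
  (h : K →+* K') (hh : KRR.IsPull π φ φ' h.toAddMonoidHom)

include hOm c hK' in
theorem mul_eq_one_or : φ' (KRR.cl X Om) * φ' (KRR.cl X O1) = 1 ∨ ¬ FlatMod.IsFinLocFree O1 := by
  by_cases hO : FlatMod.IsFinLocFree O1
  · have hOmf := TensorMod.LocFree.of_rank (TensorMod.LocFree.of_isInvertible hOm)
    left
    rw [mul_comm, hK'.map_mul _ _ hO hOmf, ← hK'.map_one]
    exact congrArg φ' (KAugNil98.Main.cl_iso c (TensorMod.LocFree.isFinLocFree_tensorMod hO hOmf))
  · exact Or.inr hO

include hP hOm c hK' in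
theorem t_mul : φ' (KRR.cl X Om) * φ' (KRR.cl X O1) = 1 :=
  (mul_eq_one_or hOm c hK').resolve_right fun h => h (TensorMod.LocFree.of_rank hP.invertible)

variable (D : ℕ) (hDZ : topologicalKrullDim Z ≤ D) (hDX : topologicalKrullDim X ≤ D)
  (hπ : π ≫ (Z ↘ Spec (CommRingCat.of k)) = X ↘ Spec (CommRingCat.of k))

include hP hG hOm c hh hπ in
/-- The Euler characteristic of `π^* x ⊗ O(-j)`. -/
theorem chi_pull_pow (x : K) (j : ℕ) (hj : j ≤ r) :
    chi k X D hK' hDX (h x * φ' (KRR.cl X Om) ^ j) = if j = 0 then chi k Z D hK hDZ x else 0 := by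
  suffices hs : (chi k X D hK' hDX).comp ((AddMonoidHom.mulRight (φ' (KRR.cl X Om) ^ j)).comp h.toAddMonoidHom) =
      if j = 0 then chi k Z D hK hDZ else 0 by
    have := DFunLike.congr_fun hs x
    split_ifs with h0
    · rw [if_pos h0] at this; exact this
    · rw [if_neg h0] at this; exact this
  refine Split.hom_ext_cl hK.bijective.2 fun N hN => ?_
  show chi k X D hK' hDX (h (φ (KRR.cl Z N)) * φ' (KRR.cl X Om) ^ j) = _
  have hOmf := TensorMod.LocFree.of_rank (TensorMod.LocFree.of_isInvertible hOm)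
  have hpN := TensorMod.LocFree.isFinLocFree_pullback π hN
  obtain ⟨h1, h2⟩ := Gen.map_pow_cl (Koszul.IsLam.of_model hK') hpN hOmf j
  have hWB : FlatMod.IsFinLocFree (CohB1.tensorMod ((Scheme.Modules.pullback π).obj N) (CohB1.tensorPow Om j)) :=
    TensorMod.LocFree.isFinLocFree_tensorMod hpN h2
  rw [show h (φ (KRR.cl Z N)) = φ' (KRR.cl X ((Scheme.Modules.pullback π).obj N)) from hh N hN, ← h1,
    chi_cl k X D hK' hDX hWB]
  haveI : N.IsQuasicoherent := (Perfect.Coherent.isCoh_of_isFinLocFree hN).1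
  have hM : ∀ (A : CommRingCat.{u}) (jA : CohB1.ProjSpace r A ⟶ X),
      Nonempty ((Scheme.Modules.pullback jA).obj O1 ≅ Twist.twistProjSpace r A 1) →
        Nonempty ((Scheme.Modules.pullback jA).obj (CohB1.tensorPow Om j) ≅
          Twist.twistProjSpace r A (-(j : ℤ))) := by
    rintro A jA ⟨o⟩
    let e1 : CohB1.tensorMod ((Scheme.Modules.pullback jA).obj Om) (Twist.twistProjSpace r A 1) ≅
        CohB1.tensorMod (Twist.twistProjSpace r A (-1)) (Twist.twistProjSpace r A 1) :=
      tensorIso (Iso.refl _) o.symm ≪≫ (TensorMod.Pullback.pullbackTensorIso jA Om O1).symm ≪≫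
        (Scheme.Modules.pullback jA).mapIso (comm Om O1 ≪≫ c) ≪≫ PicLoc.pullbackStructureIso jA ≪≫
        (ProjCoh.Coherent.twCancel (-1) 1 (by omega)).symm
    exact ⟨Ample.Pow.pullbackPow jA Om j ≪≫ Ample.Pow.powIso
      (TensorMod.Invertible.cancelRight (ProjCoh.Coherent.isInvertible_tw (n := r) (R := A) 1) e1) j ≪≫
      (Groth.Agent.S4483.twPowNeg r A j).symm⟩
  rw [← Nakai.NumProper.euler_push π hπ (KcohVanish.isBasis_S hP hG) _
    (fun V hV p => KcohVanish.subsingleton_HU hP hG N (CohB1.tensorPow Om j) (-(j : ℤ)) (p + 1)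
      (by omega) (by omega) hM V hV) D]
  split_ifs with h0
  · subst h0
    haveI := KcohVanish.isIso_unit hP hG N
    rw [chi_cl k Z D hK hDZ hN]
    refine Snapper.Chi.eulerCharLE_of_iso ?_ D
    exact ((@asIso _ _ _ _ ((Scheme.Modules.pullbackPushforwardAdjunction π).unit.app N) inferInstance) ≪≫
      (Scheme.Modules.pushforward π).mapIso (rightUnit _).symm).symm
  · refine Snapper.Chi.eulerCharLE_isZero ?_ D
    refine IsZero.of_iso ?_ (((Scheme.Modules.pushforward π).rightDerivedZeroIsoSelf).app _).symm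
    exact KVec.RelVanish.isZero_Rpush_of_RpushAb π
      (KcohVanish.isZero hP hG N (CohB1.tensorPow Om j) (-(j : ℤ)) 0 (by omega) (by omega) hM)

include hP hG hOm c hh hπ in
/-- The Euler characteristic of `π^* x ⊗ (1 - O(-1))^l`. -/
theorem chi_delta (x : K) (l : ℕ) (hl : l ≤ r) :
    chi k X D hK' hDX (h x * (1 - φ' (KRR.cl X Om)) ^ l) = chi k Z D hK hDZ x := by
  rw [show (1 : K') - φ' (KRR.cl X Om) = -φ' (KRR.cl X Om) + 1 by ring, add_pow, Finset.mul_sum, map_sum,
    Finset.sum_eq_single 0]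
  · simpa using chi_pull_pow hP hG hOm c hK hK' h hh D hDZ hDX hπ x 0 (Nat.zero_le r)
  · intro i hi hi0
    have hil : i ≤ l := Nat.le_of_lt_succ (Finset.mem_range.1 hi)
    rw [show h x * ((-φ' (KRR.cl X Om)) ^ i * 1 ^ (l - i) * (l.choose i : K')) =
        ((-1 : ℤ) ^ i * (l.choose i : ℤ)) • (h x * φ' (KRR.cl X Om) ^ i) by
      rw [zsmul_eq_mul, neg_pow, one_pow]; push_cast; ring, map_zsmul,
      chi_pull_pow hP hG hOm c hK hK' h hh D hDZ hDX hπ x i (hil.trans hl), if_neg hi0, smul_zero]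
  · exact fun h0 => absurd (Finset.mem_range.2 (Nat.succ_pos l)) h0

include hP hG hOm c hK hK' hh in
/-- The relation of `1 - [O(-1)]`. -/
theorem relation_delta :
    ∑ a ∈ Finset.range (r + 2), h (LambdaRing.gamma a
      (φ (KRR.cl Z (RefHull.dual G)) - ((r + 1 : ℕ) : K))) * (1 - φ' (KRR.cl X Om)) ^ (r + 1 - a) = 0 := by
  obtain ⟨hDr, hdual⟩ := Dual.lam_dual hK (Nat.le_add_left 1 r) hG
  have ht := t_mul hP hOm c hK'
  set f := φ (KRR.cl Z (RefHull.dual G)) with hf
  set e := φ (KRR.cl Z G) with he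
  set t := φ' (KRR.cl X Om)
  set l := φ' (KRR.cl X O1) with hl
  have htl : ∀ a : ℕ, t ^ a * l ^ a = 1 := fun a => by rw [← mul_pow, ht, one_pow]
  have hfl : ∀ j : ℕ, r + 1 < j → LambdaRing.LambdaOps.lam j f = 0 := fun j hj =>
    P.lam_eq_zero _ ((hK.mem_pos_iff _).2 ⟨r + 1, _, Nat.le_add_left 1 r, hDr, rfl⟩) _
      (by rw [hK.aug_cl _ _ hDr]; exact_mod_cast hj)
  have hgam : ∀ j, LambdaRing.gamma j (f - ((r + 1 : ℕ) : K)) = ∑ a ∈ Finset.range (r + 1 + 1),
      if a ≤ j then (-1) ^ (j - a) * ((r + 1 - a).choose (j - a) : K) * LambdaRing.LambdaOps.lam a f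
      else 0 := fun j => Lambda.gamma_sub_natCast_of_rank (Lambda.lineLike_one_of_pos P) f (r + 1) hfl j
  have hid := Lambda.ExtFil.homogeneous_identity (r + 1)
    (fun a => h (LambdaRing.LambdaOps.lam a f)) (1 : K') (-t)
  rw [show (1 : K') + -t = 1 - t by ring] at hid
  have hzero : ∑ a ∈ Finset.range (r + 1 + 1),
      h (LambdaRing.LambdaOps.lam a f) * 1 ^ a * (-t) ^ (r + 1 - a) = 0 := by
    have hu : IsUnit (h (LambdaRing.LambdaOps.lam (r + 1) e)) :=
      (Koszul.isUnit_lam hP hG (Koszul.IsLam.of_model hK)).map h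
    refine hu.mul_left_eq_zero.1 ?_
    have hrel := Koszul.relation hP hG (Koszul.IsLam.of_model hK) (Koszul.IsLam.of_model hK') h hh
    rw [Finset.sum_mul, ← Finset.sum_range_reflect]
    refine Eq.trans ?_ (show t ^ (r + 1) * _ = (0 : K') from (congrArg (t ^ (r + 1) * ·) hrel).trans (mul_zero _))
    rw [Finset.mul_sum]
    refine Finset.sum_congr rfl fun a ha => ?_
    rw [Finset.mem_range] at ha
    have hd := congrArg h (hdual (r + 1 + 1 - 1 - a) (by omega))
    rw [map_mul, show r + 1 - (r + 1 + 1 - 1 - a) = a by omega] at hd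
    rw [show r + 1 - (r + 1 + 1 - 1 - a) = a by omega, one_pow, mul_one, neg_pow]
    rw [show t ^ (r + 1) = t ^ a * t ^ (r + 1 - a) by rw [← pow_add]; congr 1; omega]
    linear_combination ((-1 : K') ^ a * t ^ a) * hd -
      ((-1 : K') ^ a * h (LambdaRing.LambdaOps.lam a e) * t ^ a) * htl (r + 1 - a)
  rw [hzero] at hid
  refine Eq.trans ?_ hid
  refine Finset.sum_congr rfl fun k hk => ?_
  rw [hgam k, map_sum, one_pow, mul_one]
  congr 1
  refine Finset.sum_congr rfl fun a _ => ?_
  split_ifs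
  · simp only [map_mul, map_pow, map_neg, map_one, map_natCast]
  · simp

include hP hG hOm c hK hK' hh hπ in
/-- The Segre classes invert the Chern classes. -/
theorem chi_segre {d : ℕ} {A : Z.Modules} (hA : CohB1.IsAmple A) (hd : topologicalKrullDim Z ≤ d) :
    ∀ (N j : ℕ) (x : K), x ∈ LambdaRing.gammaFiltration P j → d ≤ j + N →
      chi k X D hK' hDX (h x * (1 - φ' (KRR.cl X Om)) ^ (r + N)) = chi k Z D hK hDZ
        (x * LambdaRing.gamma N (-(φ (KRR.cl Z (RefHull.dual G)) - ((r + 1 : ℕ) : K)))) := by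
  set y := φ (KRR.cl Z (RefHull.dual G)) - ((r + 1 : ℕ) : K) with hy
  set δ := (1 : K') - φ' (KRR.cl X Om) with hδ
  obtain ⟨hDr, -⟩ := Dual.lam_dual hK (Nat.le_add_left 1 r) hG
  have hyaug : P.aug y = 0 := by
    rw [hy, map_sub, hK.aug_cl _ _ hDr, map_natCast, sub_self]
  have hytop : ∀ a, r + 1 < a → LambdaRing.gamma a y = 0 := by
    intro a ha
    rw [hy, Lambda.gamma_sub_natCast_of_rank (Lambda.lineLike_one_of_pos P) _ (r + 1) (fun j hj =>
      P.lam_eq_zero _ ((hK.mem_pos_iff _).2 ⟨r + 1, _, Nat.le_add_left 1 r, hDr, rfl⟩) _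
        (by rw [hK.aug_cl _ _ hDr]; exact_mod_cast hj)) a]
    refine Finset.sum_eq_zero fun b hb => ?_
    rw [Finset.mem_range] at hb
    rw [if_pos (by omega), Nat.choose_eq_zero_of_lt (by omega), Nat.cast_zero, mul_zero, zero_mul]
  intro N
  induction N using Nat.strong_induction_on with
  | _ N ih =>
  intro j x hx hjN
  rcases N with _ | N
  · rw [Nat.add_zero, chi_delta hP hG hOm c hK hK' h hh D hDZ hDX hπ x r le_rfl,
      Lambda.gamma_zero_left, mul_one]
  have hrec : ∑ a ∈ Finset.range (r + 2),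
      chi k X D hK' hDX (h (x * LambdaRing.gamma a y) * δ ^ (r + 1 - a + N)) = 0 := by
    rw [← map_sum]
    refine Eq.trans (congrArg _ ?_) (map_zero (chi k X D hK' hDX))
    refine Eq.trans ?_ ((congrArg (fun z => h x * δ ^ N * z) (relation_delta hP hG hOm c hK hK' h hh)).trans
      (mul_zero _))
    simp only [Finset.mul_sum]
    refine Finset.sum_congr rfl fun a _ => ?_
    rw [map_mul, pow_add, ← hy, ← hδ]
    ring
  rw [Finset.sum_range_succ', Lambda.gamma_zero_left, mul_one, Nat.sub_zero,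
    show r + 1 + N = r + (N + 1) by omega] at hrec
  let T : ℕ → ℤ := fun i => if i ≤ N then
    chi k Z D hK hDZ (x * (LambdaRing.gamma (i + 1) y * LambdaRing.gamma (N - i) (-y))) else 0
  have hterm : ∀ i ∈ Finset.range (r + 1),
      chi k X D hK' hDX (h (x * LambdaRing.gamma (i + 1) y) * δ ^ (r + 1 - (i + 1) + N)) = T i := by
    intro i hi
    rw [Finset.mem_range] at hi
    have hmem := Lambda.mul_mem_gammaFiltration hx (Lambda.gamma_mem_gammaFiltration hyaug (i + 1))
    simp only [T]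
    split_ifs with hiN
    · rw [show r + 1 - (i + 1) + N = r + (N - i) by omega,
        ih (N - i) (by omega) (j + (i + 1)) _ hmem (by omega), mul_assoc]
    · rw [chi_delta hP hG hOm c hK hK' h hh D hDZ hDX hπ _ _ (by omega)]
      exact chi_eq_zero k Z D hK hA hDZ hd (Lambda.gammaFiltration_anti (by omega) hmem)
  rw [Finset.sum_congr rfl hterm] at hrec
  have hT : ∑ i ∈ Finset.range (r + 1), T i = ∑ i ∈ Finset.range (N + 1), T i := by
    have hbig : ∀ m, m = r + 1 ∨ m = N + 1 →
        ∑ i ∈ Finset.range m, T i = ∑ i ∈ Finset.range (r + N + 2), T i := by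
      intro m hm
      refine Finset.sum_subset (Finset.range_subset_range.2 (by omega)) fun i _ hi => ?_
      rw [Finset.mem_range] at hi
      simp only [T]
      split_ifs with hiN
      · rw [hytop (i + 1) (by omega), zero_mul, mul_zero, map_zero]
      · rfl
    rw [hbig _ (Or.inl rfl), hbig _ (Or.inr rfl)]
  rw [hT] at hrec
  rw [Lambda.gamma_neg, mul_neg, Finset.mul_sum, map_neg, map_sum]
  refine (eq_neg_of_add_eq_zero_right hrec).trans (congrArg Neg.neg (Finset.sum_congr rfl fun i hi => ?_))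
  simp only [T, if_pos (Nat.le_of_lt_succ (Finset.mem_range.1 hi))]

end Bundle

section Core

variable (k : Type u) [Field k]

/-- `γ^d` of a generated bundle of rank `d + 1` is nonnegative. -/
theorem core {Z : Scheme.{u}} [Z.Over (Spec (CommRingCat.of k))] [IsProper (Z ↘ Spec (CommRingCat.of k))]
    [IsNoetherian Z] [ConnectedSpace Z] {A : Z.Modules} (hA : CohB1.IsAmple A) {d D : ℕ}
    (hd : topologicalKrullDim Z ≤ d) (hD : topologicalKrullDim Z ≤ D)
    {K : Type (u + 1)} [CommRing K] [LambdaRing.LambdaOps K] {P : LambdaRing.PosStructure K}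
    {φ : SGA6.Kvb Z →+ K} (hK : KRR.IsModel Z K P φ)
    {E : Z.Modules} (hE : FlatMod.IsFinLocFreeOfRank (d + 1) E) {n : ℕ} (p : FlatMod.freeMod Z n ⟶ E) [Epi p] :
    0 ≤ chi k Z D hK hD (LambdaRing.gamma d (φ (KRR.cl Z E) - ((d + 1 : ℕ) : K))) := by
  -- the degree bound is immaterial
  obtain ⟨D', hbig⟩ : ∃ D' : ℕ, D + d + n ≤ D' := ⟨_, le_rfl⟩
  have hD' : topologicalKrullDim Z ≤ (D' : WithBot ℕ∞) := hD.trans (Nat.cast_le.2 (by omega))
  suffices hs : 0 ≤ chi k Z D' hK hD' (LambdaRing.gamma d (φ (KRR.cl Z E) - ((d + 1 : ℕ) : K))) by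
    refine hs.trans_eq ?_
    refine DFunLike.congr_fun (Split.hom_ext_cl hK.bijective.2 fun M hM => ?_) _
    rw [chi_cl k Z D' hK hD' hM, chi_cl k Z D hK hD hM]
    exact Snapper.Chi.eulerCharLE_eq_of_le hD (show D ≤ D' by omega) M
  have hEf := TensorMod.LocFree.of_rank hE
  have hFn := TensorMod.LocFree.isFinLocFree_freeMod Z n
  have hFf := TensorMod.LocFree.of_rank hFn
  have hKer : FlatMod.IsFinLocFree (kernel p) := Perfect.Top.isFinLocFree_kernel p hFf hEf
  let S := ShortComplex.mk (kernel.ι p) p (kernel.condition p)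
  have hS : S.ShortExact :=
    ShortComplex.ShortExact.mk' (S.exact_of_f_is_kernel (kernelIsKernel p)) inferInstance inferInstance
  obtain ⟨z₀⟩ : Nonempty ↥Z := inferInstance
  obtain ⟨m, hKm, hnm⟩ : ∃ m, FlatMod.IsFinLocFreeOfRank m (kernel p) ∧ n = m + (d + 1) :=
    ⟨_, KVec.Model.rank_of_isFinLocFree hKer z₀, by
      have h := KVec.Model.rk_add hS hKer hFf hEf z₀
      rw [show KVec.Model.rk S.X₂ z₀ = n from KVec.Model.rk_of_rank hFn z₀,
        show KVec.Model.rk S.X₃ z₀ = d + 1 from KVec.Model.rk_of_rank hE z₀] at h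
      exact h⟩
  have hsum : φ (KRR.cl Z E) - ((d + 1 : ℕ) : K) = -(φ (KRR.cl Z (kernel p)) - ((m : ℕ) : K)) := by
    have h1 : KRR.cl Z (FlatMod.freeMod Z n) = KRR.cl Z (kernel p) + KRR.cl Z E :=
      KAugNil98.Main.clSub_shortExact hS hKer hFf hEf
    have h2 := congrArg φ h1
    rw [map_add, KAugNil98.Main.cl_freeMod, map_nsmul, hK.map_one, nsmul_one, show (n : K) = ((m + (d + 1) : ℕ) : K) from congrArg Nat.cast hnm] at h2
    push_cast at h2 ⊢
    linear_combination -h2
  rcases m with _ | r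
  · have h0 : φ (KRR.cl Z (kernel p)) = 0 := by
      obtain ⟨x⟩ : Nonempty ↥Z := inferInstance
      have hz : IsZero (kernel p) := by
        rw [← Modules.Support.support_eq_empty_iff]
        refine Set.eq_empty_iff_forall_notMem.2 fun y hy => ?_
        obtain ⟨U, hyU, ⟨i⟩⟩ := hKm y
        have hzU : IsZero ((kernel p).restrict U.ι) := IsZero.of_iso (by
          rw [IsZero.iff_id_eq_zero]
          exact Sigma.hom_ext _ _ fun b => Fin.elim0 b) i
        have he := Modules.Support.support_eq_empty_iff.2 hzU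
        rw [Modules.Support.support_restrict] at he
        exact Set.eq_empty_iff_forall_notMem.1 he ⟨y, hyU⟩ hy
      rw [show KRR.cl Z (kernel p) = 0 from KRes.KSub.clSub_zero (P := KRR.vbP Z) hz hKer, map_zero]
    rw [hsum, h0, Nat.cast_zero, sub_zero, neg_zero]
    rcases Nat.eq_zero_or_pos d with rfl | hd0
    · rw [Lambda.gamma_zero_left, ← hK.map_one,
        chi_cl k Z D' hK hD' ExtFilt.Lambda.isFinLocFree_structure]
      have := chi_pow_nonneg k Z D' hK hA hD' (q := 0) hd
        (PicLoc.isInvertible_structureModule Z) fun x => genAt_of_epi (TensorMod.LocFree.freeModOneIso Z).hom x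
      rw [pow_zero, ← hK.map_one, chi_cl k Z D' hK hD' ExtFilt.Lambda.isFinLocFree_structure] at this
      exact this
    · rw [Lambda.gamma_zero_right (by omega), map_zero]
  -- the dual of the kernel is a quotient of a free module
  haveI : IsLocallyNoetherian Z := inferInstance
  obtain ⟨hGr, -⟩ := Dual.lam_dual hK (Nat.le_add_left 1 r) hKm
  obtain ⟨u₀, hu₀⟩ := exists_epi_dual Z n
  have hfree : ∀ z, Module.Free (Z.presheaf.stalk z) (E.presheaf.stalk z) := fun z => by
    obtain ⟨b, ⟨bb⟩⟩ := KVec.DualPull.exists_basis_stalk hEf z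
    exact Module.Free.of_basis bb
  have hSd := Cyc.CH.shortExact_dual (Perfect.Coherent.isCoh_of_isFinLocFree hKer)
    (Perfect.Coherent.isCoh_of_isFinLocFree hFf) (Perfect.Coherent.isCoh_of_isFinLocFree hEf)
    (kernel.ι p) p (kernel.condition p) hS hfree
  haveI := hSd.epi_g
  haveI := hu₀
  let u₁ : FlatMod.freeMod Z n ⟶ RefHull.dual (kernel p) :=
    u₀ ≫ (RefHull.DualComp.dualIso _).inv ≫ Cyc.CH.dualMap (kernel.ι p)
  haveI : Epi u₁ := by
    have : Epi (Cyc.CH.dualMap (kernel.ι p)) := hSd.epi_g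
    exact epi_comp' hu₀ (epi_comp' inferInstance this)
  have hdd : Nonempty (RefHull.dual (RefHull.dual (kernel p)) ≅ kernel p) := by
    haveI := ExtShTensor.isIso_bidual (Modules.DualBasis.hasDBases_of_isFinLocFree hKer)
    exact ⟨CurveBundle.WeilDual.dualCongr (Perfect.Coherent.isCoh_of_isFinLocFree (TensorMod.LocFree.of_rank hGr))
      (Perfect.Coherent.isCoh_of_isFinLocFree (TensorMod.LocFree.of_iso (RefHull.DualComp.dualIso _)
        (TensorMod.LocFree.of_rank hGr))) (RefHull.DualComp.dualIso _) ≪≫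
      RefHull.DualComp.dualIso _ ≪≫ (asIso (ExtShTensor.bidual (kernel p))).symm⟩
  obtain ⟨X, π, O1, q, hP, hπ, -⟩ :=
    Cyc.CH.BdlExists.exists_proper (RefHull.dual (kernel p)) (TensorMod.LocFree.of_rank hGr)
  haveI := hπ
  haveI : IsLocallyNoetherian X := LocallyOfFiniteType.isLocallyNoetherian π
  haveI : CompactSpace X := QuasiCompact.compactSpace_of_compactSpace π
  haveI hXn : AlgebraicGeometry.IsNoetherian X := ⟨⟩
  haveI := Split.connectedSpace hP hGr
  letI : X.Over (Spec (CommRingCat.of k)) := ⟨π ≫ (Z ↘ Spec (CommRingCat.of k))⟩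
  haveI : IsProper (X ↘ Spec (CommRingCat.of k)) :=
    inferInstanceAs (IsProper (π ≫ (Z ↘ Spec (CommRingCat.of k))))
  obtain ⟨K', _, _, P', φ', hK'⟩ := KVec.Model.exists_model (X := X)
  obtain ⟨h, hh, -, haug, -⟩ := Split.exists_pullHom π hK hK'
  obtain ⟨AX, hAX⟩ := AmpleEmb53.Basic.exists_isAmple π hA (isRelAmple hP hGr)
  have hO1 := isInvertible hP
  have hOm := TensorMod.Invertible.isInvertible_dual hO1
  let c := TensorMod.Invertible.tensorDualIso hO1
  have hdimX : topologicalKrullDim X ≤ ((d + r : ℕ) : WithBot ℕ∞) := ExchangeFP29.Nil.dim_bundle hP hGr hd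
  have hDX : topologicalKrullDim X ≤ (D' : WithBot ℕ∞) := hdimX.trans (Nat.cast_le.2 (by omega))
  have key := chi_segre hP hGr hOm c hK hK' h hh D' hD' hDX
    (show π ≫ (Z ↘ Spec (CommRingCat.of k)) = X ↘ Spec (CommRingCat.of k) from rfl) hA hd d 0 1
    (Lambda.mem_gammaFiltration_zero 1) (by omega)
  rw [map_one, one_mul, one_mul, show φ (KRR.cl Z (RefHull.dual (RefHull.dual (kernel p)))) =
    φ (KRR.cl Z (kernel p)) from congrArg φ (KAugNil98.Main.cl_iso hdd.some
      (TensorMod.LocFree.of_iso hdd.some.symm hKer)), ← hsum] at key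
  rw [← key]
  set t := φ' (KRR.cl X (TensorMod.Dual.dual O1))
  set l := φ' (KRR.cl X O1)
  have ht : t * l = 1 := t_mul hP hOm c hK'
  have haugl : P'.aug (l - 1) = 0 := by rw [map_sub, map_one, hK'.aug_cl 1 _ hP.invertible]; simp
  have haugt : P'.aug (t ^ (r + d) - 1) = 0 := by
    rw [map_sub, map_pow, map_one, hK'.aug_cl 1 _ (TensorMod.LocFree.of_isInvertible hOm)]; simp
  have hdiff : (1 - t) ^ (r + d) = (l - 1) ^ (r + d) + (l - 1) ^ (r + d) * (t ^ (r + d) - 1) := by
    rw [show (1 : K') - t = (l - 1) * t by linear_combination -ht, mul_pow]; ring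
  have hmem : (l - 1) ^ (r + d) * (t ^ (r + d) - 1) ∈ LambdaRing.gammaFiltration P' (d + r + 1) := by
    have h1 := Lambda.pow_mem_gammaFiltration (Lambda.mem_gammaFiltration_one haugl) (r + d)
    rw [one_mul, Nat.add_comm r d] at h1
    rw [Nat.add_comm r d] at haugt ⊢
    exact Lambda.mul_mem_gammaFiltration h1 (Lambda.mem_gammaFiltration_one haugt)
  rw [hdiff, map_add, chi_eq_zero k X D' hK' hAX hDX hdimX hmem, add_zero]
  haveI := hP.epi
  haveI : PreservesColimitsOfSize.{u, u} (Scheme.Modules.pullback π) :=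
    (Scheme.Modules.pullbackPushforwardAdjunction π).leftAdjoint_preservesColimits
  refine chi_pow_nonneg k X D' hK' hAX hDX (by rw [Nat.add_comm]; exact hdimX) hO1 fun x => ?_
  haveI : Epi ((Scheme.Modules.pullback π).map u₁) := Functor.map_epi _ u₁
  exact genAt_of_epi ((TensorMod.LocFree.pullbackFreeModIso π n).inv ≫ (Scheme.Modules.pullback π).map u₁ ≫ q) x

end Core

end Groth.Agent.Lib.KVec.GammaPos
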