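import Groth.Agent.Lib.KVec.GammaPos
import Groth.Agent.Lib.IntTheory.Additive
import Groth.Agent.Lib.Lambda.Adams
import Groth.Agent.Lib.TopDim.Basic

/-!
# Nonnegativity of `γ^d(E - (d + 1))` against coherent modules of dimension at most `d`
-/

set_option autoImplicit false
set_option linter.style.haveILetI false
set_option linter.unusedSectionVars false
universe u

open CategoryTheory CategoryTheory.Limits AlgebraicGeometry TopologicalSpace

noncomputable section

namespace Groth.Agent.Lib.KVec.GammaPosCap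

open Groth.Agent Groth.Agent.Lib

variable (k : Type u) [Field k] {X W : Scheme.{u}} [W.Over (Spec (CommRingCat.of k))]
  [IsProper (W ↘ Spec (CommRingCat.of k))] [IsNoetherian W] (q : W ⟶ X) (D : ℕ)
  [IsNoetherian X] [ConnectedSpace X] {KX : Type u} [CommRing KX] [LambdaRing.LambdaOps KX]
  {PX : LambdaRing.PosStructure KX} {φX : SGA6.Kvb X →+ KX} (hKX : KRR.IsModel X KX PX φX)

attribute [local irreducible] FGA.eulerCharLE

open Classical in
/-- The pairing as a function on all modules. -/
def pairing (hD : topologicalKrullDim W ≤ D) (a : SGA6.Kvb X) (M : W.Modules) : ℤ :=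
  if h : Coh.IsCoh M then ChiCap.chiHom k q D hD h a else 0

theorem isAdd_pairing (hD : topologicalKrullDim W ≤ D) (a : SGA6.Kvb X) :
    IntTheory.Additive.IsAdd (pairing k q D hD a) where
  iso {F G} e := by
    unfold pairing
    by_cases h : Coh.IsCoh F
    · have h' : Coh.IsCoh G := CohBasics.Closure.isCoh_of_iso e h
      rw [dif_pos h, dif_pos h']
      refine DFunLike.congr_fun (KRes.KSub.hom_ext (P := KRR.vbP X) fun E hE => ?_) a
      show ChiCap.chiHom k q D hD h (KRR.cl X E) = ChiCap.chiHom k q D hD h' (KRR.cl X E)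
      rw [ChiCap.chiHom_cl k q D hD h hE, ChiCap.chiHom_cl k q D hD h' hE]
      exact Snapper.Chi.eulerCharLE_of_iso (TensorMod.Basic.tensorIso e (Iso.refl _)) D
    · rw [dif_neg h, dif_neg fun h' => h (CohBasics.Closure.isCoh_of_iso e.symm h')]
  zero {F} hF := by
    unfold pairing
    split_ifs with h
    · refine (DFunLike.congr_fun (KRes.KSub.hom_ext (P := KRR.vbP X) (ψ := 0) fun E hE => ?_) a).trans rfl
      show ChiCap.chiHom k q D hD h (KRR.cl X E) = 0
      rw [ChiCap.chiHom_cl k q D hD h hE]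
      exact Snapper.Chi.eulerCharLE_isZero
        ((TensorMod.Basic.tensorBy ((Scheme.Modules.pullback q).obj E)).map_isZero hF) D
    · rfl
  add {S} hS h₁ h₂ h₃ := by
    unfold pairing
    rw [dif_pos h₁, dif_pos h₂, dif_pos h₃]
    refine DFunLike.congr_fun (KRes.KSub.hom_ext (P := KRR.vbP X)
      (ψ := ChiCap.chiHom k q D hD h₁ + ChiCap.chiHom k q D hD h₃) fun E hE => ?_) a
    show ChiCap.chiHom k q D hD h₂ (KRR.cl X E) =
      ChiCap.chiHom k q D hD h₁ (KRR.cl X E) + ChiCap.chiHom k q D hD h₃ (KRR.cl X E)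
    rw [ChiCap.chiHom_cl k q D hD h₁ hE, ChiCap.chiHom_cl k q D hD h₂ hE, ChiCap.chiHom_cl k q D hD h₃ hE]
    exact ChiCap.chiT_add_left k q D hD hS h₁ h₂ h₃ hE

include hKX in
/-- `γ^d` of a generated bundle of rank `d + 1` pairs nonnegatively with modules of dimension `≤ d`. -/
theorem chiHom_nonneg {A : W.Modules} (hA : CohB1.IsAmple A) (hD : topologicalKrullDim W ≤ D) {d : ℕ}
    {G : W.Modules} (hG : Coh.IsCoh G) (hd : topologicalKrullDim ↥(CohB1.support G) ≤ (d : WithBot ℕ∞))
    {E : X.Modules} (hE : FlatMod.IsFinLocFreeOfRank (d + 1) E) {n : ℕ}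
    (p : FlatMod.freeMod W n ⟶ (Scheme.Modules.pullback q).obj E) [Epi p] {a : SGA6.Kvb X}
    (ha : φX a = LambdaRing.gamma d (φX (KRR.cl X E) - ((d + 1 : ℕ) : KX))) :
    0 ≤ ChiCap.chiHom k q D hD hG a := by
  haveI := hG.2
  have haug : PX.aug (φX (KRR.cl X E) - ((d + 1 : ℕ) : KX)) = 0 := by
    rw [map_sub, hKX.aug_cl _ _ hE, map_natCast, sub_self]
  have hv : IntTheory.Additive.VanishBelow (pairing k q D hD a) d := fun M hM hlt => by
    rcases d with _ | e
    · refine (isAdd_pairing k q D hD a).zero ?_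
      rw [← Modules.Support.support_eq_empty_iff, Set.eq_empty_iff_forall_notMem]
      intro z hz
      haveI : Nonempty ↥(CohB1.support M) := ⟨⟨z, hz⟩⟩
      exact absurd hlt (not_lt.2 (by simpa using TopDim.Basic.topologicalKrullDim_nonneg))
    unfold pairing
    rw [dif_pos hM]
    refine ChiCap.chiHom_eq_zero k q D hKX hA hD hM (Snapper.Vanish.le_of_lt_succ hlt) ?_
    rw [ha]
    exact Lambda.gamma_mem_gammaFiltration haug (e + 1)
  let T : Closeds W := ⟨CohB1.support G, Modules.Support.isClosed_support G⟩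
  have hΦ : ChiCap.chiHom k q D hD hG a = pairing k q D hD a G := by
    unfold pairing
    rw [dif_pos hG]
  rw [hΦ, IntTheory.Additive.eq_sum (isAdd_pairing k q D hD a) hv hG (T := T) subset_rfl hd]
  refine Finset.sum_nonneg fun y hy => mul_nonneg (Int.natCast_nonneg _) ?_
  have hy' := (Set.Finite.mem_toFinset _).1 hy
  have hMy : Coh.IsCoh (Cyc.closureStructureSheaf y) := Devissage.Closure.isCoh_closureStructureSheaf y
  unfold pairing
  rw [dif_pos hMy]
  obtain ⟨hint, -⟩ := CohDelta.DevApps.isIntegral_ptIdeal y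
  haveI := hint
  let Z := (IntMult.ptIdeal y).subscheme
  let i : Z ⟶ W := (IntMult.ptIdeal y).subschemeι
  letI : Z.Over (Spec (CommRingCat.of k)) := ⟨i ≫ (W ↘ Spec (CommRingCat.of k))⟩
  haveI : IsProper (Z ↘ Spec (CommRingCat.of k)) :=
    inferInstanceAs (IsProper (i ≫ (W ↘ Spec (CommRingCat.of k))))
  haveI : IsNoetherian Z := Curves.GlobalSections.isNoetherian_of_proper k Z
  haveI : IrreducibleSpace Z := inferInstance
  haveI : ConnectedSpace Z := inferInstance
  haveI : Coh.IsQCoh (Coh.structureModule Z) := TensorMod.QCohInv.isQCoh_structureModule Z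
  have hZD : topologicalKrullDim Z ≤ D := (i.isEmbedding.isInducing.topologicalKrullDim_le).trans hD
  have hZd : topologicalKrullDim Z ≤ d := by
    refine le_trans ?_ hy'.2.le
    exact ((i.isEmbedding.codRestrict (closure {y} : Set W) fun z =>
      Devissage.Closure.range_ptIdeal y ▸ Set.mem_range_self z).isInducing).topologicalKrullDim_le
  obtain ⟨K, _, _, P, φ, hK⟩ := KVec.Model.exists_model (X := Z)
  obtain ⟨θ, hθ, hlam, -, -⟩ := ExchangeFP29.PBK.Split.exists_pullHom (i ≫ q) hKX hK
  obtain ⟨pb, hpb⟩ := Pull.exists_pull (i ≫ q)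
  have hθpb : θ.toAddMonoidHom.comp φX = φ.comp pb := KRes.KSub.hom_ext (P := KRR.vbP X) fun E hE =>
    (hθ E hE).trans (congrArg φ (hpb E hE).symm)
  have hZQ : Coh.IsCoh (Coh.structureModule Z) := Snapper.Twist.isCoh_structureModule Z
  have key : ChiCap.chiHom k q D hD hMy a = ChiCap.chiHom k (𝟙 Z) D hZD hZQ (pb a) := by
    refine (DFunLike.congr_fun (KRes.KSub.hom_ext (P := KRR.vbP X) (ψ := (ChiCap.chiHom k (𝟙 Z) D hZD hZQ).comp pb)
      fun E hE => ?_) a).trans rfl
    have hE' := TensorMod.LocFree.isFinLocFree_pullback q hE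
    show ChiCap.chiHom k q D hD hMy (KRR.cl X E) = ChiCap.chiHom k (𝟙 Z) D hZD hZQ (pb (KRR.cl X E))
    rw [show pb (KRR.cl X E) = KRR.cl Z ((Scheme.Modules.pullback (i ≫ q)).obj E) from hpb E hE,
      ChiCap.chiHom_cl k q D hD hMy hE,
      ChiCap.chiHom_cl k (𝟙 Z) D hZD hZQ (TensorMod.LocFree.isFinLocFree_pullback _ hE)]
    have hi2 := TensorMod.LocFree.isFinLocFree_pullback i hE'
    haveI : (CohB1.tensorMod ((Scheme.Modules.pullback i).obj ((Scheme.Modules.pullback q).obj E))
        (Coh.structureModule Z)).IsQuasicoherent :=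
      (CohBasics.Closure.isCoh_of_iso (TensorMod.Basic.comm _ _) (RelShift.isCoh_tensor hZQ hi2)).1
    refine (Snapper.Chi.eulerCharLE_of_iso (TensorMod.Basic.comm _ _ ≪≫
      (Modules.ProjFormula.projIso i (Modules.DualBasis.hasDBases_of_isFinLocFree hE')).app
        (Coh.structureModule Z)) D).trans ?_
    refine (SurfInt.Push.eulerCharLE_push i rfl
      (CohB1.tensorMod ((Scheme.Modules.pullback i).obj ((Scheme.Modules.pullback q).obj E))
        (Coh.structureModule Z)) D).trans ?_
    exact Snapper.Chi.eulerCharLE_of_iso (TensorMod.Basic.comm _ _ ≪≫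
      TensorMod.Basic.tensorIso (Iso.refl _) ((Scheme.Modules.pullbackComp i q).app E ≪≫
        ((Scheme.Modules.pullbackId Z).app _).symm)) D
  rw [key]
  have hEi := TensorMod.LocFree.rank_pullback (i ≫ q) hE
  have hpa : φ (pb a) = LambdaRing.gamma d (φ (KRR.cl Z ((Scheme.Modules.pullback (i ≫ q)).obj E)) -
      ((d + 1 : ℕ) : K)) := by
    have h1 : θ (φX a) = φ (pb a) := DFunLike.congr_fun hθpb a
    rw [← h1, ha, Lambda.map_gamma θ hlam, map_sub, map_natCast]
    exact congrArg (fun z => LambdaRing.gamma d (z - _)) (hθ E (TensorMod.LocFree.of_rank hE))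
  haveI : PreservesColimitsOfSize.{u, u} (Scheme.Modules.pullback i) :=
    (Scheme.Modules.pullbackPushforwardAdjunction i).leftAdjoint_preservesColimits
  haveI : Epi ((Scheme.Modules.pullback i).map p) := Functor.map_epi _ p
  have h := GammaPos.core k (Ample.Pullback.isAmple_pullback i (Ample.Pullback.isQuasiAffine_of_isAffineHom i) hA)
    hZd hZD hK hEi ((TensorMod.LocFree.pullbackFreeModIso i n).inv ≫ (Scheme.Modules.pullback i).map p ≫
      ((Scheme.Modules.pullbackComp i q).app E).hom)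
  rw [← hpa] at h
  refine h.trans_eq ?_
  unfold GammaPos.chi
  simp only [AddMonoidHom.comp_apply, AddEquiv.toAddMonoidHom_eq_coe, AddMonoidHom.coe_coe]
  congr 1
  exact (AddEquiv.ofBijective φ hK.bijective).symm_apply_apply (pb a)

end Groth.Agent.Lib.KVec.GammaPosCap
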