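import Groth.Agent.Lib.ExchangeFP29.PBK.Charts
import Groth.Agent.Lib.PicProjOver.Basic
import Groth.Agent.Lib.Devissage.FibreGen
import Groth.Agent.H95.SyzRes.K0
import Groth.Agent.S4483
import Groth.Agent.Lib.ProjSpace.Dim

/-!
# The fibres of a projective bundle, and the classes generating their `K₀`
-/

set_option autoImplicit false
set_option linter.style.haveILetI false
universe u

open CategoryTheory CategoryTheory.Limits AlgebraicGeometry TopologicalSpace

noncomputable section

namespace Groth.Agent.Lib.KVec.KcohBundle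

open Groth.Agent Groth.Agent.Lib TensorMod.Basic

/-- Tensoring with an invertible module, on `K₀` of coherent modules. -/
theorem exists_tensorHom {X : Scheme.{u}} {L : X.Modules} (hL : PicF.IsInvertible L) :
    ∃ w : SGA6.Kcoh X →+ SGA6.Kcoh X, ∀ M : X.Modules, Coh.IsCoh M →
      w (KZero.clSub (fun N : X.Modules => Coh.IsCoh N) M) =
        KZero.clSub (fun N : X.Modules => Coh.IsCoh N) (CohB1.tensorMod L M) := by
  let w₀ : Subtype (fun N : X.Modules => Coh.IsCoh N) → SGA6.Kcoh X :=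
    fun M => KZero.clSub (fun N : X.Modules => Coh.IsCoh N) (CohB1.tensorMod L M.1)
  have h : KZero.relSub (fun N : X.Modules => Coh.IsCoh N) ≤ (FreeAbelianGroup.lift w₀).ker := by
    refine (AddSubgroup.closure_le _).2 ?_
    rintro _ ⟨S, h₁, h₂, h₃, hS, rfl⟩
    have := H95.SyzRes.K0.clSub_add (Snapper.Twist.twistSeq_shortExact hL hS)
      (Snapper.Twist.isCoh_twist hL h₁) (Snapper.Twist.isCoh_twist hL h₂)
      (Snapper.Twist.isCoh_twist hL h₃)
    simp only [SetLike.mem_coe, AddMonoidHom.mem_ker, map_sub, FreeAbelianGroup.lift_apply_of, w₀]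
    rw [sub_sub, sub_eq_zero]
    exact this
  refine ⟨QuotientAddGroup.lift _ _ h, fun M hM => ?_⟩
  conv_lhs => rw [KZero.clSub, dif_pos hM]
  exact FreeAbelianGroup.lift_apply_of _ _

/-- `K₀` of `P^n_k` is generated by the non-negative twists up to `n`. -/
theorem closure_twists (k : Type u) [Field k] (n : ℕ) :
    AddSubgroup.closure (Set.range fun i : Fin (n + 1) =>
      H95.SyzRes.K0.cO k n ((i : ℕ) : ℤ)) = ⊤ := by
  rw [eq_top_iff]
  intro x _
  obtain ⟨w, hw⟩ := exists_tensorHom (X := CohB1.ProjSpace n k)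
    (ProjCoh.Coherent.isInvertible_tw (n := n) (R := k) (n : ℤ))
  obtain ⟨v, hv⟩ := exists_tensorHom (X := CohB1.ProjSpace n k)
    (ProjCoh.Coherent.isInvertible_tw (n := n) (R := k) (-(n : ℤ)))
  have hcomp : ∀ y, w (v y) = y := fun y => DFunLike.congr_fun (KRes.KSub.hom_ext (φ := w.comp v)
    (ψ := AddMonoidHom.id _) fun M hM => by
      show w (v _) = _
      rw [hv M hM, hw _ (Snapper.Twist.isCoh_twist (ProjCoh.Coherent.isInvertible_tw _) hM)]
      exact H95.SyzRes.K0.clSub_iso ((assoc _ _ _).symm ≪≫ tensorIso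
        (ProjCoh.Coherent.twCancel (n : ℤ) (-(n : ℤ)) (by omega)) (Iso.refl M) ≪≫ leftUnit M)
        (Snapper.Twist.isCoh_twist (ProjCoh.Coherent.isInvertible_tw _)
          (Snapper.Twist.isCoh_twist (ProjCoh.Coherent.isInvertible_tw _) hM))) y
  rw [← hcomp x]
  obtain ⟨a, ha⟩ := H95.SyzRes.K0.surjective k n (v x)
  rw [← ha, map_sum]
  refine sum_mem fun i _ => ?_
  rw [map_zsmul]
  refine zsmul_mem ?_ _
  have hc : Coh.IsCoh (Twist.twistProjSpace n k (-((i : ℕ) : ℤ))) := ProjCoh.Coherent.isCoh_tw _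
  rw [H95.SyzRes.K0.cO, hw _ hc]
  refine AddSubgroup.subset_closure ⟨⟨n - i, by omega⟩, Eq.trans ?_
    (H95.SyzRes.K0.clSub_iso (ProjCoh.Coherent.twTensor (n : ℤ) (-((i : ℕ) : ℤ)))
      (Snapper.Twist.isCoh_twist (ProjCoh.Coherent.isInvertible_tw _) hc)).symm⟩
  show H95.SyzRes.K0.cO k n _ = H95.SyzRes.K0.cO k n _
  congr 1
  show ((n - i : ℕ) : ℤ) = _; omega

variable {X P : Scheme.{u}} {π : P ⟶ X} {E : X.Modules} {O1 : P.Modules}
  {q : (Scheme.Modules.pullback π).obj E ⟶ O1} {r : ℕ}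

/-- On each fibre the powers of `O(1)` generate. -/
theorem fibre_generated [CompactSpace X] (hP : KRR.IsProjBundle π E O1 q)
    (hE : FlatMod.IsFinLocFreeOfRank (r + 1) E) (s : X) :
    AddSubgroup.closure (Set.range (fun i : Fin (r + 1) =>
      KZero.clSub (fun M : (π.fiber s).Modules => Coh.IsCoh M)
        ((Scheme.Modules.pullback (π.fiberι s)).obj (CohB1.tensorPow O1 (i : ℕ))))) = ⊤ := by
  obtain ⟨t, c, hc⟩ := ExchangeFP29.PBK.Charts.exists_charts hP hE
  obtain ⟨y, -, hy⟩ := hc s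
  have hr : Set.range (X.fromSpecResidueField s) ⊆ Set.range (c y).k := by
    rw [Scheme.range_fromSpecResidueField]
    exact Set.singleton_subset_iff.2 hy
  let σ := IsOpenImmersion.lift (c y).k (X.fromSpecResidueField s) hr
  have hσ : σ ≫ (c y).k = X.fromSpecResidueField s := IsOpenImmersion.lift_fac _ _ _
  have hsq : IsPullback (PicProjOver.pt r σ ≫ (c y).J) (CohB1.ProjSpace.toSpec r (X.residueField s)) π
      (X.fromSpecResidueField s) := hσ ▸ (PicProjOver.isPullback_pt r σ).paste_horiz (c y).sq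
  have hfib : IsPullback (π.fiberι s) (π.fiberToSpecResidueField s) π (X.fromSpecResidueField s) :=
    IsPullback.of_hasPullback _ _
  let e := IsPullback.isoIsPullback _ _ hsq hfib
  have he : e.inv ≫ PicProjOver.pt r σ ≫ (c y).J = π.fiberι s :=
    IsPullback.isoIsPullback_inv_fst _ _ hsq hfib
  obtain ⟨o⟩ := (c y).iso
  obtain ⟨p⟩ := PicProjOver.pullback_pt r σ 1
  let j := PicProjOver.pt r σ ≫ (c y).J
  let o' : (Scheme.Modules.pullback j).obj O1 ≅ Twist.twistProjSpace r (X.residueField s) 1 :=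
    ((Scheme.Modules.pullbackComp _ _).app O1).symm ≪≫ (Scheme.Modules.pullback _).mapIso o ≪≫ p
  have hgen := closure_twists (X.residueField s) r
  have h := Devissage.FibreGen.closure_pullback_iso e.inv
    (fun i : Fin (r + 1) => Twist.twistProjSpace r (X.residueField s) ((i : ℕ) : ℤ))
    (fun i => ProjCoh.Coherent.isCoh_tw _) hgen
  convert h using 2
  refine congrArg Set.range (funext fun i => ?_)
  exact (H95.SyzRes.K0.clSub_iso ((Scheme.Modules.pullback e.inv).mapIso (S4483.twPow r _ (i : ℕ) ≪≫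
      (Ample.Pow.powIso o' (i : ℕ)).symm ≪≫ (Ample.Pow.pullbackPow j O1 (i : ℕ)).symm) ≪≫
      (Scheme.Modules.pullbackComp e.inv j).app _ ≪≫ (Scheme.Modules.pullbackCongr he).app _)
    (Cyc.FP.Stalk.isCoh_pullback e.inv (ProjCoh.Coherent.isCoh_tw _))).symm

/-- The fibres have dimension `r`. -/
theorem fibre_dim [CompactSpace X] (hP : KRR.IsProjBundle π E O1 q)
    (hE : FlatMod.IsFinLocFreeOfRank (r + 1) E) (s : X) :
    topologicalKrullDim ↥(π.fiber s) ≤ (r : WithBot ℕ∞) := by
  obtain ⟨t, c, hc⟩ := ExchangeFP29.PBK.Charts.exists_charts hP hE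
  obtain ⟨y, -, hy⟩ := hc s
  have hr : Set.range (X.fromSpecResidueField s) ⊆ Set.range (c y).k := by
    rw [Scheme.range_fromSpecResidueField]
    exact Set.singleton_subset_iff.2 hy
  let σ := IsOpenImmersion.lift (c y).k (X.fromSpecResidueField s) hr
  have hσ : σ ≫ (c y).k = X.fromSpecResidueField s := IsOpenImmersion.lift_fac _ _ _
  have hsq : IsPullback (PicProjOver.pt r σ ≫ (c y).J) (CohB1.ProjSpace.toSpec r (X.residueField s)) π
      (X.fromSpecResidueField s) := hσ ▸ (PicProjOver.isPullback_pt r σ).paste_horiz (c y).sq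
  have hfib : IsPullback (π.fiberι s) (π.fiberToSpecResidueField s) π (X.fromSpecResidueField s) :=
    IsPullback.of_hasPullback _ _
  let e := IsPullback.isoIsPullback _ _ hsq hfib
  have he : e.inv ≫ PicProjOver.pt r σ ≫ (c y).J = π.fiberι s :=
    IsPullback.isoIsPullback_inv_fst _ _ hsq hfib
  rw [← (Scheme.homeoOfIso e).isHomeomorph.topologicalKrullDim_eq,
    ProjSpace.Dim.topologicalKrullDim_projSpace_of_field]

end Groth.Agent.Lib.KVec.KcohBundle
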