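import Groth.Agent.Lib.RDer.Connecting
import Groth.Agent.Lib.CohBasics.Closure
import Groth.Agent.Lib.KRes.KSub
import Groth.Agent.Lib.KVec.RelVanish
import Groth.Agent.Lib.Modules.Support
import Groth.Agent.Lib.DerivedOX.Grothendieck
import Groth.Agent.H95.SyzRes.K0
import Groth.Agent.S0795
import Groth.Prelude.Def_KRR

/-!
# The direct image on `K₀` of coherent modules exists
-/

set_option autoImplicit false
set_option linter.style.haveILetI false
universe u

open CategoryTheory CategoryTheory.Limits AlgebraicGeometry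

noncomputable section

namespace Groth.Agent.Lib.KVec.KcohPush

open Groth.Agent Groth.Agent.Lib

variable {X Y : Scheme.{u}}

local notation "cl[" Z "]" => KZero.clSub (fun N : Scheme.Modules Z => Coh.IsCoh N)

/-- The class of a kernel. -/
abbrev κ {A B : X.Modules} (f : A ⟶ B) : SGA6.Kcoh X := cl[X] (kernel f)

/-- An exact pair splits the class of its source. -/
theorem cl_eq_kernel_add [IsLocallyNoetherian X] {S : ShortComplex X.Modules} (hS : S.Exact)
    (h₁ : Coh.IsCoh S.X₁) (h₂ : Coh.IsCoh S.X₂) (h₃ : Coh.IsQCoh S.X₃) :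
    cl[X] S.X₁ = κ S.f + κ S.g := by
  haveI := hS.epi_kernelLift
  let l := kernel.lift S.g S.f S.zero
  have hl : (ShortComplex.mk (kernel.ι S.f) l (by
      rw [← cancel_mono (kernel.ι S.g), Category.assoc, zero_comp, kernel.lift_ι, kernel.condition])).ShortExact := by
    refine ShortComplex.ShortExact.mk' ?_ inferInstance inferInstance
    let e : kernel l ≅ kernel S.f :=
      (kernelCompMono l (kernel.ι S.g)).symm ≪≫ kernelIsoOfEq (kernel.lift_ι _ _ _)
    refine ShortComplex.exact_of_f_is_kernel _ (KernelFork.IsLimit.ofι _ _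
      (fun g hg => kernel.lift S.f g (by
        rw [← kernel.lift_ι S.g S.f S.zero, ← Category.assoc, hg, zero_comp]))
      (fun g hg => kernel.lift_ι _ _ _) (fun g hg m hm => by
        rw [← cancel_mono (kernel.ι S.f), kernel.lift_ι]; exact hm))
  exact H95.SyzRes.K0.clSub_add hl (CohBasics.Closure.isCoh_kernel _ h₁ h₂.1) h₁
    (CohBasics.Closure.isCoh_kernel _ h₂ h₃)

/-- The direct image on `K₀` of coherent modules exists. -/
theorem exists_push [IsLocallyNoetherian Y] [CompactSpace X] (π : X ⟶ Y) [IsProper π]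
    [HasInjectiveResolutions X.Modules] (N : ℕ)
    (hdim : ∀ y : Y, topologicalKrullDim ↥(π.base ⁻¹' {y}) ≤ N) :
    ∃ g : SGA6.Kcoh X →+ SGA6.Kcoh Y, KRR.IsPushCoh π N g := by
  haveI : IsLocallyNoetherian X := LocallyOfFiniteType.isLocallyNoetherian π
  haveI := DerivedOX.Grothendieck.enoughInjectives_modules X
  have hvan : ∀ F : X.Modules, Coh.IsCoh F → ∀ i : ℕ, N < i → IsZero ((Coh.Rpush π i).obj F) :=
    fun F hF i hi => RelVanish.isZero_Rpush π hF N (fun y =>
      le_trans ((Topology.IsEmbedding.inclusion (Set.inter_subset_right (s := CohB1.support F)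
        (t := π.base ⁻¹' {y}))).isInducing.topologicalKrullDim_le) (hdim y)) hi
  have hc : ∀ F : X.Modules, Coh.IsCoh F → ∀ p, Coh.IsCoh ((Coh.Rpush π p).obj F) := fun F hF p => by
    haveI := hF.1
    haveI := hF.2
    exact Groth.Agent.S0795.result π F hF ⟨Modules.Support.isClosed_support F, inferInstance⟩ p
  let w₀ : Subtype (fun M : X.Modules => Coh.IsCoh M) → SGA6.Kcoh Y := fun F =>
    ∑ i ∈ Finset.range (N + 1), (-1 : ℤ) ^ i • cl[Y] ((Coh.Rpush π i).obj F.1)
  have hker : KZero.relSub (fun M : X.Modules => Coh.IsCoh M) ≤ (FreeAbelianGroup.lift w₀).ker := by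
    refine (AddSubgroup.closure_le _).2 ?_
    rintro _ ⟨S, h₁, h₂, h₃, hS, rfl⟩
    obtain ⟨D⟩ := RDer.Connecting.nonempty_derivedLES (Scheme.Modules.pushforward π)
    let R : ℕ → X.Modules ⥤ Y.Modules := fun i => (Scheme.Modules.pushforward π).rightDerived i
    have step : ∀ i,
        cl[Y] ((R i).obj S.X₂) - cl[Y] ((R i).obj S.X₁) - cl[Y] ((R i).obj S.X₃) =
          -κ ((R i).map S.f) - κ ((R (i + 1)).map S.f) := fun i => by
      rw [show cl[Y] ((R i).obj S.X₁) = κ ((R i).map S.f) + κ ((R i).map S.g) from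
          cl_eq_kernel_add (D.exact₂ S hS i) (hc _ h₁ i) (hc _ h₂ i) (hc _ h₃ i).1,
        show cl[Y] ((R i).obj S.X₂) = κ ((R i).map S.g) + κ (D.δ S hS i (i + 1) rfl) from
          cl_eq_kernel_add (D.exact₃ S hS i (i + 1) rfl) (hc _ h₂ i) (hc _ h₃ i) (hc _ h₁ _).1,
        show cl[Y] ((R i).obj S.X₃) = κ (D.δ S hS i (i + 1) rfl) + κ ((R (i + 1)).map S.f) from
          cl_eq_kernel_add (D.exact₁ S hS i (i + 1) rfl) (hc _ h₃ i) (hc _ h₁ _) (hc _ h₂ _).1]
      abel
    have tele : ∀ m : ℕ, ∑ i ∈ Finset.range (m + 1), (-1 : ℤ) ^ i •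
        (cl[Y] ((R i).obj S.X₂) - cl[Y] ((R i).obj S.X₁) - cl[Y] ((R i).obj S.X₃)) =
          -κ ((R 0).map S.f) - (-1 : ℤ) ^ m • κ ((R (m + 1)).map S.f) := by
      intro m
      induction m with
      | zero => simp [step]
      | succ m ih =>
        rw [Finset.sum_range_succ, ih, step, pow_succ]
        module
    haveI : (Scheme.Modules.pushforward π).IsRightAdjoint :=
      (Scheme.Modules.pullbackPushforwardAdjunction π).isRightAdjoint
    haveI : PreservesLimitsOfSize.{0, 0} (Scheme.Modules.pushforward π) :=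
      (Scheme.Modules.pullbackPushforwardAdjunction π).rightAdjoint_preservesLimits
    haveI : PreservesFiniteLimits (Scheme.Modules.pushforward π) :=
      PreservesLimitsOfSize.preservesFiniteLimits _
    haveI hm : Mono ((R 0).map S.f) := by
      haveI := hS.mono_f
      have h := (Scheme.Modules.pushforward π).rightDerivedZeroIsoSelf
      exact ((MorphismProperty.monomorphisms _).arrow_mk_iso_iff
        (Arrow.isoMk (h.app _) (h.app _) (h.hom.naturality _).symm)).2
          (inferInstanceAs (Mono ((Scheme.Modules.pushforward π).map S.f)))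
    have hz0 : κ ((R 0).map S.f) = 0 := H95.SyzRes.K0.clSub_zero (isZero_kernel_of_mono _)
    have hzN : κ ((R (N + 1)).map S.f) = 0 :=
      H95.SyzRes.K0.clSub_zero (IsZero.of_mono (kernel.ι _) (hvan _ h₁ (N + 1) N.lt_succ_self))
    have h := tele N
    rw [hz0, hzN, smul_zero, neg_zero, sub_zero] at h
    simp only [SetLike.mem_coe, AddMonoidHom.mem_ker, map_sub, FreeAbelianGroup.lift_apply_of, w₀,
      ← Finset.sum_sub_distrib, ← smul_sub]
    exact h
  refine ⟨QuotientAddGroup.lift _ _ hker, hvan, fun F hF => ?_⟩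
  conv_lhs => rw [KZero.clSub, dif_pos hF]
  exact FreeAbelianGroup.lift_apply_of _ _

end Groth.Agent.Lib.KVec.KcohPush
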