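import Groth.Agent.Lib.KoszulSh.Sections
import Groth.Agent.Lib.FundLocal.ExtPowExists
import Groth.Agent.Lib.Modules.AffineHom

/-!
# Existence of Koszul complexes of cosections of quasi-coherent modules
-/

set_option autoImplicit false
set_option linter.style.haveILetI false
universe u

open CategoryTheory CategoryTheory.Limits AlgebraicGeometry Opposite TopologicalSpace

namespace Groth.Agent.Lib.KVec.KoszulCx

open Groth.Agent.Lib
open Groth.Agent.Lib.TensorMod.Dual (rs rf rs_rs rs_smul)

noncomputable section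

variable {X : Scheme.{u}}

theorem secForm_rs {E : X.Modules} (s : E ⟶ Coh.structureModule X) {U V : X.Opens} (h : V ≤ U) (e : Γ(E, U)) :
    KoszSh.secForm s V (rs E h e) = rf h (KoszSh.secForm s U e) :=
  KoszulSh.Sections.secForm_res h e

theorem exists_cx (E : X.Modules) [E.IsQuasicoherent] (s : E ⟶ Coh.structureModule X) :
    Nonempty (KoszSh.Cx E s) := by
  choose L hL using fun p => FundLocal.ExtPowExists.exists_isExtPow (E := E) p
  choose φ hφ using hL
  have hind : ∀ (p : ℕ) (U : X.affineOpens) {P : Γ(L p, U.1) → Prop}, P 0 → (∀ a b, P a → P b → P (a + b)) →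
      (∀ (r : Γ(X, U.1)) a, P a → P (r • a)) →
      (∀ e, P ((φ p U).symm (exteriorPower.ιMulti _ p e))) → ∀ x, P x := by
    intro p U P h0 ha hs hg x
    obtain ⟨w, rfl⟩ := (φ p U).symm.surjective x
    have hw : w ∈ Submodule.span Γ(X, U.1) (Set.range (exteriorPower.ιMulti Γ(X, U.1) p (M := E.val.obj (op U.1)))) := by
      rw [exteriorPower.ιMulti_span]; trivial
    induction hw using Submodule.span_induction with
    | mem w hw => obtain ⟨e, rfl⟩ := hw; exact hg e
    | zero => rwa [map_zero]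
    | add a b _ _ h1 h2 => rw [map_add]; exact ha _ _ h1 h2
    | smul r a _ h1 => rw [map_smul]; exact hs _ _ h1
  let F : ∀ (p : ℕ) (U : X.affineOpens), Γ(L (p + 1), U.1) →ₗ[Γ(X, U.1)] Γ(L p, U.1) := fun p U =>
    (φ p U).symm.toLinearMap ∘ₗ KoszulSh.Algebra.d (KoszSh.secForm s U.1) p ∘ₗ (φ (p + 1) U).toLinearMap
  have hF : ∀ (p : ℕ) (U : X.affineOpens) (e : Fin (p + 1) → Γ(E, U.1)),
      F p U ((φ (p + 1) U).symm (exteriorPower.ιMulti _ (p + 1) e)) =
        (φ p U).symm (KoszSh.dGen (KoszSh.secForm s U.1) p e) := fun p U e =>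
    (congrArg (fun z => (φ p U).symm (KoszulSh.Algebra.d (KoszSh.secForm s U.1) p z))
      ((φ (p + 1) U).apply_symm_apply _)).trans (congrArg _ (KoszulSh.Algebra.d_ιMulti _ p e))
  have hc : ∀ (p : ℕ) (U V : X.affineOpens) (h : V.1 ≤ U.1) (m : Γ(L (p + 1), U.1)),
      rs (L p) h (F p U m) = F p V (rs (L (p + 1)) h m) := by
    intro p U V h m
    refine hind (p + 1) U (P := fun m => rs (L p) h (F p U m) = F p V (rs (L (p + 1)) h m)) ?_ ?_ ?_ ?_ m
    · simp only [map_zero, Modules.TensorSec.rs_zero]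
    · intro a b ha hb; simp only [map_add, Modules.TensorSec.rs_add, ha, hb]
    · intro r a ha; simp only [map_smul, rs_smul, ha]
    · intro e
      rw [hF p U e, show rs (L (p + 1)) h ((φ (p + 1) U).symm (exteriorPower.ιMulti _ (p + 1) e)) = _ from
        hφ (p + 1) U V h e]
      refine Eq.trans ?_ (hF p V (fun j => rs E h (e j))).symm
      rw [KoszSh.dGen, KoszSh.dGen]
      refine (congrArg (rs (L p) h) (map_sum (φ p U).symm _ _)).trans ?_
      refine Eq.trans ?_ (map_sum (φ p V).symm _ _).symm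
      refine (Modules.TensorSec.rs_sum (L p) _ h _).trans (Finset.sum_congr rfl fun i _ => ?_)
      refine (congrArg (rs (L p) h) ((φ p U).symm.map_smul _ _)).trans ?_
      refine Eq.trans ?_ ((φ p V).symm.map_smul _ _).symm
      refine (rs_smul (L p) h _ _).trans (congrArg₂ (· • ·) ?_ (hφ p U V h _))
      rw [secForm_rs s h]
      simp only [rf, map_mul, map_pow, map_neg, map_one]
  choose δ hδ using fun p => Modules.AffineHom.exists_hom_of_affine (F p) (hc p)
  have hsq : ∀ p, δ (p + 1) ≫ δ p = 0 := fun p => Modules.AffineHom.hom_ext_affine fun U x => by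
    show (δ p).app U.1 ((δ (p + 1)).app U.1 x) = (0 : L (p + 1 + 1) ⟶ L p).app U.1 x
    rw [hδ, hδ]
    refine (congrArg (fun z => (φ p U).symm (KoszulSh.Algebra.d (KoszSh.secForm s U.1) p z))
      ((φ (p + 1) U).apply_symm_apply _)).trans ?_
    refine Eq.trans (congrArg _ (Subtype.ext ?_ : _ = (0 : ↥(⋀[Γ(X, U.1)]^p Γ(E, U.1))))) (map_zero _)
    exact CliffordAlgebra.contractLeft_contractLeft _ _
  exact ⟨{
    K := ChainComplex.of L δ hsq
    loc := φ
    loc_res := hφ
    rule := fun p U e => by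
      exact (congrArg (fun f : L (p + 1) ⟶ L p => f.app U.1 ((φ (p + 1) U).symm (exteriorPower.ιMulti _ (p + 1) e)))
        (ChainComplex.of_d (V := X.Modules) L δ p)).trans ((hδ p U _).trans (hF p U e)) }⟩

end

end Groth.Agent.Lib.KVec.KoszulCx
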