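import Groth.Agent.Lib.KVec.TorIndepBC
import Groth.Agent.Lib.KVec.Pull
import Groth.Agent.Lib.CounitEpi51.Basic
import Groth.Agent.Lib.CohDelta.IdealMul.FinPush
import Groth.Agent.Lib.BettiExact.TorProduct
import Groth.Agent.Lib.ExtFilt.Lambda

/-!
# Products of classes of regularly meeting closed subschemes
-/

set_option autoImplicit false
set_option linter.style.haveILetI false
universe v u

open CategoryTheory CategoryTheory.Limits AlgebraicGeometry

namespace Groth.Agent.Lib.KVec.MeetRegularly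

open Groth.Agent.Lib

/-- Enough locally free modules descend to closed subschemes. -/
theorem hasEnoughLocFree_closed {Z X : Scheme.{u}} (j : Z ⟶ X) [IsClosedImmersion j]
    (hX : KRR.HasEnoughLocFree X) : KRR.HasEnoughLocFree Z := fun F hF => by
  haveI := hF.1
  obtain ⟨E, p, hE, hp⟩ := hX _ (CohDelta.IdealMul.FinPush.isCoh_push j hF)
  haveI := hp
  haveI : Epi ((Scheme.Modules.pullbackPushforwardAdjunction j).counit.app F) :=
    CounitEpi51.epi_of_gg j F fun U hU => (CounitEpi51.gg_restrict_iff F _).2 fun x hx => by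
      refine eq_top_iff.2 ((CohBasics.Affine.germ_span_eq_top (hU.preimage j) (Set.univ : Set Γ(F, j ⁻¹ᵁ U))
        Submodule.span_univ hx).ge.trans ?_)
      exact Submodule.span_mono (Set.image_subset_range _ _)
  haveI : PreservesColimitsOfSize.{u, u} (Scheme.Modules.pullback j) :=
    (Scheme.Modules.pullbackPushforwardAdjunction j).leftAdjoint_preservesColimits
  haveI : PreservesFiniteColimits (Scheme.Modules.pullback j) :=
    PreservesColimitsOfSize.preservesFiniteColimits _
  exact ⟨_, (Scheme.Modules.pullback j).map p ≫ (Scheme.Modules.pullbackPushforwardAdjunction j).counit.app F,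
    TensorMod.LocFree.isFinLocFree_pullback j hE, inferInstance⟩

theorem isNoetherian_closed {Z X : Scheme.{u}} (j : Z ⟶ X) [IsClosedImmersion j] [IsNoetherian X] :
    IsNoetherian Z :=
  haveI := LocallyOfFiniteType.isLocallyNoetherian j
  haveI : CompactSpace Z := QuasiCompact.compactSpace_of_compactSpace j
  { }

theorem mul_push_one {X Y Z W : Scheme.{u}} [IsNoetherian X] (hXe : KRR.HasEnoughLocFree X)
    (i : Y ⟶ X) (hi : Mor2.IsRegularClosedImmersion i) (j : Z ⟶ X) (hj : Mor2.IsRegularClosedImmersion j)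
    (h : W ⟶ Y) (g : W ⟶ Z) (hsq : IsPullback g h j i) (hg : Mor2.IsRegularClosedImmersion g)
    (d : ℕ) (hci : FlatMod.IsFinLocFreeOfRank d (Omega.conormal i))
    (hcg : FlatMod.IsFinLocFreeOfRank d (Omega.conormal g))
    {KX : Type v} [CommRing KX] [LambdaRing.LambdaOps KX] {PX : LambdaRing.PosStructure KX} {φX : SGA6.Kvb X →+ KX}
    (hKX : KRR.IsModel X KX PX φX)
    {KY : Type v} [CommRing KY] [LambdaRing.LambdaOps KY] {PY : LambdaRing.PosStructure KY} {φY : SGA6.Kvb Y →+ KY}
    (hKY : KRR.IsModel Y KY PY φY)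
    {KZ : Type v} [CommRing KZ] [LambdaRing.LambdaOps KZ] {PZ : LambdaRing.PosStructure KZ} {φZ : SGA6.Kvb Z →+ KZ}
    (hKZ : KRR.IsModel Z KZ PZ φZ)
    {KW : Type v} [CommRing KW] [LambdaRing.LambdaOps KW] {PW : LambdaRing.PosStructure KW} {φW : SGA6.Kvb W →+ KW}
    (hKW : KRR.IsModel W KW PW φW)
    {a : KY →+ KX} (ha : KRR.IsPushCl i φY φX a) {b : KZ →+ KX} (hb : KRR.IsPushCl j φZ φX b)
    {c : KW →+ KX} (hc : KRR.IsPushCl (g ≫ j) φW φX c) : a 1 * b 1 = c 1 := by
  haveI := hi.1
  haveI := hj.1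
  haveI := hg.1
  haveI := isNoetherian_closed i
  haveI := isNoetherian_closed j
  haveI := isNoetherian_closed g
  have hZe := hasEnoughLocFree_closed j hXe
  obtain ⟨p₀, hp₀⟩ := Pull.exists_pull j
  obtain ⟨q₀, hq₀⟩ := Pull.exists_pull h
  let eX := AddEquiv.ofBijective φX hKX.bijective
  let eY := AddEquiv.ofBijective φY hKY.bijective
  let p : KX →+ KZ := φZ.comp (p₀.comp eX.symm.toAddMonoidHom)
  let q : KY →+ KW := φW.comp (q₀.comp eY.symm.toAddMonoidHom)
  have hp : KRR.IsPull j φX φZ p := fun E hE =>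
    congrArg φZ ((congrArg p₀ (eX.symm_apply_apply _)).trans (hp₀ E hE))
  have hq : KRR.IsPull h φY φW q := fun E hE =>
    congrArg φW ((congrArg q₀ (eY.symm_apply_apply _)).trans (hq₀ E hE))
  obtain ⟨c', hc', -⟩ := PushCl.existsUnique_pushCl (KX := KW) (φY := φZ) hZe g hg hKW.bijective
  have hq1 : q 1 = 1 := by
    have hO : FlatMod.IsFinLocFree (Coh.structureModule Y) := ExtFilt.Lambda.isFinLocFree_structure
    rw [← hKY.map_one, hq _ hO, ← hKW.map_one]
    exact congrArg φW (ExtFilt.Lambda.cl_congr (PicLoc.pullbackStructureIso h)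
      (TensorMod.LocFree.isFinLocFree_pullback h hO))
  have h1 := TorIndepBC.pull_push i j hsq hi hg hci hcg hXe hKY.bijective.2 hp hq ha hc' 1
  have h2 := PushCl.projection_formula hXe j hj hKZ.map_mul hKX.map_mul hKZ.bijective.2 hKX.bijective.2 hp hb 1 (a 1)
  rw [one_mul, h1, hq1] at h2
  have h3 := PushCl.pushCl_comp hZe g hXe j hg hj hKW.bijective.2 hc' hb hc
  rw [h3, mul_comm, ← h2]
  rfl

end Groth.Agent.Lib.KVec.MeetRegularly
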