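import Groth.Agent.Lib.KVec.PushCl
import Groth.Agent.Lib.KVec.Pull
import Groth.Agent.Lib.Cyc.FP.Stalk

/-!
# Pulling back classes of modules of bounded projective dimension
-/

set_option autoImplicit false
set_option linter.style.haveILetI false
set_option linter.unusedSectionVars false
universe v u

open CategoryTheory CategoryTheory.Limits AlgebraicGeometry TopologicalSpace

namespace Groth.Agent.Lib.KVec.PullCl

open Groth.Agent.Lib Groth.Agent.Lib.Modules.StalkModule Groth.Agent.Lib.Devissage.LocFreeK0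
open Groth.Agent.Lib.Regular.PD Groth.Agent.Lib.Devissage.ResolvableK0

theorem subsingleton_stalk_push {P M : Scheme.{u}} (i : P ⟶ M) [IsClosedImmersion i] (F : P.Modules)
    {y : M} (hy : y ∉ Set.range i.base) :
    Subsingleton (((Scheme.Modules.pushforward i).obj F).presheaf.stalk y) := by
  let W : M.Opens := ⟨(Set.range i.base)ᶜ, i.isClosedEmbedding.isClosed_range.isOpen_compl⟩
  refine subsingleton_of_forall_eq 0 fun t => ?_
  obtain ⟨U, hU, s, rfl⟩ := ((Scheme.Modules.pushforward i).obj F).presheaf.exists_germ_eq t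
  have hbot : i ⁻¹ᵁ (U ⊓ W) = ⊥ := eq_bot_iff.2 fun x hx => hx.2 ⟨x, rfl⟩
  haveI : Subsingleton Γ((Scheme.Modules.pushforward i).obj F, U ⊓ W) := by
    show Subsingleton Γ(F, i ⁻¹ᵁ (U ⊓ W))
    rw [hbot]
    exact AddCommGrpCat.subsingleton_of_isZero ((TopCat.Sheaf.isTerminalOfEmpty ⟨F.presheaf, F.isSheaf⟩).isZero)
  rw [← ((Scheme.Modules.pushforward i).obj F).presheaf.germ_res_apply (homOfLE (inf_le_left : U ⊓ W ≤ U)) y ⟨hU, hy⟩ s,
    Subsingleton.elim (((Scheme.Modules.pushforward i).obj F).presheaf.map (homOfLE (inf_le_left : U ⊓ W ≤ U)).op s) 0]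
  exact map_zero _

variable {Y Z : Scheme.{u}} [IsNoetherian Y] [IsNoetherian Z] (h : Z ⟶ Y)

theorem projective_stalk_pullback {G : Y.Modules} (hG : ∀ z, PD G (h.base z) 0) (z : Z) :
    Projective ((stalkModFunctor Z z).obj ((Scheme.Modules.pullback h).obj G)) := by
  haveI : Projective ((stalkModFunctor Y (h.base z)).obj G) :=
    projective_iff_hasProjectiveDimensionLT_one.2 (hG z)
  exact Projective.of_iso (asIso ((DerivedOX.PullbackStalk.comparison h z).app G))
    ((ModuleCat.extendRestrictScalarsAdj.{u} (h.stalkMap z).hom).map_projective _ inferInstance)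

theorem locFree_pullback {G : Y.Modules} (hc : Coh.IsCoh G) (hG : ∀ z, PD G (h.base z) 0) :
    FlatMod.IsFinLocFree ((Scheme.Modules.pullback h).obj G) :=
  locFree_of_pd_zero (Cyc.FP.Stalk.isCoh_pullback h hc) fun z =>
    projective_iff_hasProjectiveDimensionLT_one.1 (projective_stalk_pullback h hG z)

variable (hres : KRR.HasEnoughLocFree Y)
include hres

/-- If `G` is locally free at the image of `h`, the pullback of its class is the class of `h^* G`. -/
theorem pull_χcl (p : SGA6.Kvb Y →+ SGA6.Kvb Z)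
    (hp : ∀ E, FlatMod.IsFinLocFree E → p (KRR.cl Y E) = KRR.cl Z ((Scheme.Modules.pullback h).obj E))
    {G : Y.Modules} (hG : BPD G) (hloc : ∀ z, PD G (h.base z) 0) :
    p (PushCl.χcl hres G) = KRR.cl Z ((Scheme.Modules.pullback h).obj G) := by
  refine PushCl.bpd_induction hres (Q := fun G => (∀ z, PD G (h.base z) 0) →
    p (PushCl.χcl hres G) = KRR.cl Z ((Scheme.Modules.pullback h).obj G))
    (fun E hE _ => by rw [PushCl.χcl_locFree hres hE, hp E hE]) ?_ hG hloc
  intro S hS h₁ h₂ h₃ ih hl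
  have hl₁ : ∀ z, PD S.X₁ (h.base z) 0 := fun z =>
    (hS.map_of_exact (stalkModFunctor Y (h.base z))).hasProjectiveDimensionLT_X₁ 1
      (pd_zero_of_locFree h₂ (h.base z)) (pd_mono (hl z) (Nat.le_succ 0))
  have hse := Pull.shortExact_pullback' h hS fun z => projective_iff_hasProjectiveDimensionLT_one.2 (hl z)
  have e := congrArg p (PushCl.χcl_add hres hS h₁ (bpd_of_locFree h₂) h₃)
  rw [map_add, PushCl.χcl_locFree hres h₂, hp _ h₂, ih hl₁] at e
  have e' := KRes.KSub.rel (P := KRR.vbP Z) hse (locFree_pullback h h₁.1 hl₁)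
    (TensorMod.LocFree.isFinLocFree_pullback h h₂) (locFree_pullback h h₃.1 hl)
  exact add_left_cancel (e.symm.trans e')

omit hres

/-- The push-forward of a class restricts to zero away from the image. -/
theorem pull_push_eq_zero {P : Scheme.{u}} (hres : KRR.HasEnoughLocFree Y) (F : P ⟶ Y)
    (hF : Mor2.IsRegularClosedImmersion F) (hdisj : ∀ z, h.base z ∉ Set.range F.base)
    {KP KY KZ : Type v} [CommRing KP] [CommRing KY] [CommRing KZ] {φP : SGA6.Kvb P →+ KP}
    {φY : SGA6.Kvb Y →+ KY} {φZ : SGA6.Kvb Z →+ KZ} (hφP : Function.Surjective φP)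
    {gh : KY →+ KZ} (hgh : KRR.IsPull h φY φZ gh) {gF : KP →+ KY} (hgF : KRR.IsPushCl F φP φY gF) (x : KP) :
    gh (gF x) = 0 := by
  haveI := hF.1
  obtain ⟨p, hp⟩ := Pull.exists_pull h
  have hcomp : gh.comp φY = φZ.comp p := KRes.KSub.hom_ext (P := KRR.vbP Y) fun E hE =>
    (hgh E hE).trans (congrArg φZ (hp E hE).symm)
  obtain ⟨y, rfl⟩ := hφP x
  refine DFunLike.congr_fun (KRes.KSub.hom_ext (P := KRR.vbP P) (φ := gh.comp (gF.comp φP)) (ψ := 0)
    fun G hG => ?_) y
  have hb := PushBPD.bpd_push F hF hG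
  change gh (gF (φP (KRR.cl P G))) = 0
  rw [PushCl.pushCl_apply hres F hgF hG hb]
  refine (DFunLike.congr_fun hcomp _).trans ?_
  have hsub : ∀ z, Subsingleton (((Scheme.Modules.pushforward F).obj G).presheaf.stalk (h.base z)) :=
    fun z => subsingleton_stalk_push F G (hdisj z)
  have hloc : ∀ z, PD ((Scheme.Modules.pushforward F).obj G) (h.base z) 0 := fun z =>
    haveI := hsub z
    pdle_zero_iff.2 inferInstance
  change φZ (p (PushCl.χcl hres _)) = 0
  rw [pull_χcl h hres p hp hb hloc]
  have hzero : IsZero ((Scheme.Modules.pullback h).obj ((Scheme.Modules.pushforward F).obj G)) :=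
    Modules.Stalk.isZero_iff_stalk_subsingleton.2 fun z => ModuleCat.subsingleton_of_isZero
      (((asIso ((DerivedOX.PullbackStalk.comparison h z).app ((Scheme.Modules.pushforward F).obj G))).isZero_iff).1
        (Functor.map_isZero (ModuleCat.extendScalars.{u, u, u} (h.stalkMap z).hom)
          (@ModuleCat.isZero_of_subsingleton _ _ _ (hsub z))))
  rw [show KRR.cl Z _ = 0 from KRes.KSub.clSub_zero (P := KRR.vbP Z) hzero (locFree_pullback h hb.1 hloc), map_zero]

end Groth.Agent.Lib.KVec.PullCl
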