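import Groth.Agent.Lib.Devissage.ResolvableK0
import Groth.Agent.Lib.Modules.AffineSections
import Groth.Agent.Lib.Modules.AffineHom
import Groth.Agent.Lib.QCoh.Pushforward
import Groth.Agent.Lib.DerivedOX.PushExact
import Groth.Agent.Lib.Regular.PD
import Groth.Agent.Lib.StalkLoc.Basic
import Groth.Prelude.Def_Mor2
import Mathlib.RingTheory.Regular.ProjectiveDimension

/-!
# Regular closed immersions push bundles to modules of bounded projective dimension
-/

set_option autoImplicit false
set_option linter.style.haveILetI false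
universe u

open CategoryTheory CategoryTheory.Limits AlgebraicGeometry TopologicalSpace

namespace Groth.Agent.Lib.KVec.PushBPD

open Groth.Agent.Lib Groth.Agent.Lib.Regular.PD Groth.Agent.Lib.Devissage.ResolvableK0
open RingTheory.Sequence

theorem pdle_quot_regular {R : Type u} [CommRing R] (rs : List R) :
    ∀ {M : Type u} [AddCommGroup M] [Module R M] {n : ℕ}, PDle R M n → IsWeaklyRegular M rs →
      PDle R (M ⧸ Ideal.ofList rs • (⊤ : Submodule R M)) (n + rs.length) := by
  induction rs with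
  | nil =>
    intro M _ _ n h _
    exact pdle_of_equiv (Submodule.quotEquivOfEqBot _ (by rw [Ideal.ofList_nil, Submodule.bot_smul])).symm h
  | cons x rs ih =>
    intro M _ _ n h hreg
    rw [isWeaklyRegular_cons_iff] at hreg
    have h1 : PDle R (QuotSMulTop x M) (n + 1) :=
      (IsSMulRegular.smulShortComplex_shortExact (M := ModuleCat.of R M) hreg.1).hasProjectiveDimensionLT_X₃ (n + 1) h
        (@hasProjectiveDimensionLT_of_ge _ _ _ (ModuleCat.of R M) (n + 1) (n + 2) (by omega) h)
    refine pdle_mono (pdle_of_equiv (Submodule.quotOfListConsSMulTopEquivQuotSMulTopInner M x rs).symm (ih h1 hreg.2)) ?_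
    simp only [List.length_cons]
    omega

theorem pdle_pi {R Q : Type u} [CommRing R] [AddCommGroup Q] [Module R Q] {n : ℕ} (h : PDle R Q n) :
    ∀ k : ℕ, PDle R (Fin k → Q) n
  | 0 => pdle_mono ((pdle_zero_iff (R := R)).2 inferInstance) (Nat.zero_le n)
  | k + 1 => by
    have e : (Q × (Fin k → Q)) ≃ₗ[R] (Fin (k + 1) → Q) := Fin.consLinearEquiv R fun _ => Q
    refine pdle_of_equiv e ?_
    let S : ShortComplex (ModuleCat.{u} R) :=
      ShortComplex.mk (ModuleCat.ofHom (LinearMap.inl R Q (Fin k → Q))) (ModuleCat.ofHom (LinearMap.snd R Q (Fin k → Q))) (ModuleCat.hom_ext (LinearMap.snd_comp_inl R Q (Fin k → Q)))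
    have hS : S.ShortExact :=
      { exact := (ShortComplex.ShortExact.moduleCat_exact_iff_function_exact _).2 (Function.Exact.inl_snd (M := Q) (N := Fin k → Q))
        mono_f := (ModuleCat.mono_iff_injective _).2 LinearMap.inl_injective
        epi_g := (ModuleCat.epi_iff_surjective _).2 LinearMap.snd_surjective }
    exact hS.hasProjectiveDimensionLT_X₂ (n + 1) h (pdle_pi h k)

/-- A finite projective module over a quotient by a regular sequence. -/
theorem pdle_projective_quot {A B M : Type u} [CommRing A] [CommRing B] [Algebra A B] [AddCommGroup M]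
    [Module A M] [Module B M] [IsScalarTower A B M] [Module.Finite B M] [Module.Projective B M]
    (hsurj : Function.Surjective (algebraMap A B)) (rs : List A) (hker : RingHom.ker (algebraMap A B) = Ideal.ofList rs)
    (hreg : IsWeaklyRegular A rs) : PDle A M rs.length := by
  have hB : PDle A B rs.length := by
    have h := pdle_quot_regular rs (M := A) (n := 0) ((pdle_zero_iff (R := A)).2 inferInstance) hreg
    rw [Nat.zero_add] at h
    refine pdle_of_equiv ((Submodule.quotEquivOfEq _ (LinearMap.ker (Algebra.linearMap A B)) ?_).trans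
      (LinearMap.quotKerEquivOfSurjective (Algebra.linearMap A B) hsurj)) h
    rw [smul_eq_mul, Ideal.mul_top, ← hker]
    ext a
    simp [RingHom.mem_ker]
  obtain ⟨k, f, g, -, -, hfg⟩ := Module.Finite.exists_comp_eq_id_of_projective B M
  exact pdle_of_retract (g.restrictScalars A) (f.restrictScalars A)
    (LinearMap.ext fun m => LinearMap.congr_fun hfg m) (pdle_pi hB k)

variable {X Y : Scheme.{u}} (i : X ⟶ Y) [IsNoetherian Y] {F : X.Modules}

theorem pd_push (hi : Mor2.IsRegularClosedImmersion i) (hF : FlatMod.IsFinLocFree F) (y : Y) :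
    ∃ (U : Y.Opens) (r : ℕ), y ∈ U ∧ IsAffineOpen U ∧
      Module.Finite Γ(Y, U) Γ((Scheme.Modules.pushforward i).obj F, U) ∧
      PDle Γ(Y, U) Γ((Scheme.Modules.pushforward i).obj F, U) r := by
  haveI := hi.1
  by_cases hy : y ∈ Set.range i.base
  · obtain ⟨z, rfl⟩ := hy
    obtain ⟨U, hU, hz, rs, hrs, hI⟩ := hi.2 z
    have hV : IsAffineOpen (i ⁻¹ᵁ U) := hU.preimage i
    haveI := Modules.AffineSections.isQCoh_of_isFinLocFree hF
    obtain ⟨hfin, hproj⟩ := Modules.AffineSections.finite_projective_sections hF hV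
    letI : Algebra Γ(Y, U) Γ(X, i ⁻¹ᵁ U) := (i.app U).hom.toAlgebra
    letI : Module Γ(Y, U) Γ(F, i ⁻¹ᵁ U) := Module.compHom _ (i.app U).hom
    haveI : IsScalarTower Γ(Y, U) Γ(X, i ⁻¹ᵁ U) Γ(F, i ⁻¹ᵁ U) := IsScalarTower.of_algebraMap_smul fun _ _ => rfl
    have hsurj : Function.Surjective (algebraMap Γ(Y, U) Γ(X, i ⁻¹ᵁ U)) := i.app_surjective U hU
    have h : PDle Γ(Y, U) Γ(F, i ⁻¹ᵁ U) rs.length :=
      pdle_projective_quot (B := Γ(X, i ⁻¹ᵁ U)) hsurj rs (by rw [← hI, Scheme.Hom.ker_apply]; rfl) hrs.1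
    haveI : Module.Finite Γ(Y, U) Γ(X, i ⁻¹ᵁ U) :=
      Module.Finite.of_surjective (Algebra.linearMap Γ(Y, U) Γ(X, i ⁻¹ᵁ U)) hsurj
    have h2 : Module.Finite Γ(Y, U) Γ(F, i ⁻¹ᵁ U) := Module.Finite.trans Γ(X, i ⁻¹ᵁ U) _
    exact ⟨U, rs.length, hz, hU, h2, h⟩
  · let W : Y.Opens := ⟨(Set.range i.base)ᶜ, i.isClosedEmbedding.isClosed_range.isOpen_compl⟩
    obtain ⟨U, hU, hyU⟩ := Modules.AffineHom.exists_affine (show y ∈ W from hy)
    have hbot : i ⁻¹ᵁ U.1 = ⊥ := eq_bot_iff.2 fun x hx => (hU hx) ⟨x, rfl⟩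
    haveI : Subsingleton Γ((Scheme.Modules.pushforward i).obj F, U.1) := by
      show Subsingleton Γ(F, i ⁻¹ᵁ U.1)
      rw [hbot]
      exact AddCommGrpCat.subsingleton_of_isZero ((TopCat.Sheaf.isTerminalOfEmpty ⟨F.presheaf, F.isSheaf⟩).isZero)
    exact ⟨U.1, 0, hyU, U.2, inferInstance, pdle_zero_iff.2 inferInstance⟩

/-- Pushforwards of bundles along regular closed immersions have bounded projective dimension. -/
theorem bpd_push (hi : Mor2.IsRegularClosedImmersion i) (hF : FlatMod.IsFinLocFree F) :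
    BPD ((Scheme.Modules.pushforward i).obj F) := by
  haveI := hi.1
  haveI := Modules.AffineSections.isQCoh_of_isFinLocFree hF
  haveI := QCoh.Pushforward.isQCoh_pushforward (f := i) (M := F)
  choose U r hy hU hfin hpd using pd_push i hi hF
  obtain ⟨t, ht⟩ := isCompact_univ.elim_finite_subcover (fun y => (U y : Set Y)) (fun y => (U y).2)
    (fun y _ => Set.mem_iUnion.2 ⟨y, hy y⟩)
  refine ⟨⟨inferInstance, CohBasics.Affine.isFiniteType_of_finite_sections fun y => ⟨U y, hU y, hy y, hfin y⟩⟩,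
    t.sup r, fun y => ?_⟩
  obtain ⟨y₀, hy₀, hy'⟩ := Set.mem_iUnion₂.1 (ht (Set.mem_univ y))
  haveI := hfin y₀
  haveI : IsNoetherianRing Γ(Y, U y₀) := IsLocallyNoetherian.component_noetherian ⟨U y₀, hU y₀⟩
  letI := StalkLoc.Basic.moduleSections ((Scheme.Modules.pushforward i).obj F) hy'
  letI := TopCat.Presheaf.algebra_section_stalk Y.presheaf (⟨y, hy'⟩ : U y₀)
  haveI := StalkLoc.Basic.isScalarTower_sections ((Scheme.Modules.pushforward i).obj F) hy'
  haveI := (hU y₀).isLocalization_stalk ⟨y, hy'⟩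
  haveI := StalkLoc.Basic.isLocalizedModule_germ (M := (Scheme.Modules.pushforward i).obj F) (hU y₀) hy'
  exact pdle_mono (pdle_localization ((hU y₀).primeIdealOf ⟨y, hy'⟩).asIdeal.primeCompl (Y.presheaf.stalk y) (r y₀)
    (StalkLoc.Basic.germₗ ((Scheme.Modules.pushforward i).obj F) hy') (hpd y₀)) (Finset.le_sup hy₀)

end Groth.Agent.Lib.KVec.PushBPD
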