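import Groth.Agent.Lib.KVec.PushIndep
import Groth.Agent.Lib.KVec.EnoughPn
import Groth.Agent.S1661

/-!
# The push-forward of a composite of regular morphisms
-/

set_option autoImplicit false
set_option linter.style.haveILetI false
set_option linter.unusedSectionVars false
universe v u

open CategoryTheory CategoryTheory.Limits AlgebraicGeometry

namespace Groth.Agent.Lib.KVec.PushComp

open Groth.Agent Groth.Agent.Lib KVec.PushCl ExchangeFP29.KPush ExchangeFP29.KPush.Reg H70.KRRReg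
open Groth.Agent.Lib.Regular.PD Groth.Agent.Lib.Devissage.LocFreeK0
open Groth.Agent.Lib.Devissage.ResolvableK0 Groth.Agent.Lib.KRes.Dim Groth.Agent.Lib.KVec.PushPnBC
open Groth.Agent.Lib.KVec.PushIndep ExchangeFP29.RegSheafBC

noncomputable section

/-- Regular closed immersions are stable under flat base change. -/
theorem of_isPullback_flat {A B C D : Scheme.{u}} {f' : A ⟶ B} {g' : A ⟶ C} {f : C ⟶ D} {g : B ⟶ D}
    (h : IsPullback g' f' f g) [Flat g] (hf : Mor2.IsRegularClosedImmersion f) :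
    Mor2.IsRegularClosedImmersion f' := by
  have h' := Groth.Agent.S2886.result f g hf
  let e := h.isoPullback
  have he : f' = e.hom ≫ pullback.snd f g := h.isoPullback_hom_snd.symm
  haveI : IsClosedImmersion (pullback.snd f g) := h'.1
  refine ⟨by rw [he]; infer_instance, fun z => ?_⟩
  obtain ⟨U, hU, hz, rs, hrs, hker⟩ := h'.2 (e.hom.base z)
  refine ⟨U, hU, ?_, rs, hrs, ?_⟩
  · rw [he]; simpa using hz
  · rw [← hker, he, Scheme.Hom.ker_comp_of_isIso]

/-- The push-forward along a regular closed immersion of a module of bounded projective dimension. -/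
theorem pushCl_χcl {X Y : Scheme.{u}} [IsNoetherian X] [IsNoetherian Y] (hXe : KRR.HasEnoughLocFree X)
    (hYe : KRR.HasEnoughLocFree Y) (i : X ⟶ Y) (hi : Mor2.IsRegularClosedImmersion i)
    {KX KY : Type v} [CommRing KX] [CommRing KY] {φX : SGA6.Kvb X →+ KX} {φY : SGA6.Kvb Y →+ KY}
    {g : KX →+ KY} (hg : KRR.IsPushCl i φX φY g) {G : X.Modules} (hG : BPD G) :
    g (φX (χcl hXe G)) = φY (χcl hYe ((Scheme.Modules.pushforward i).obj G)) := by
  haveI := hi.1
  refine χcl_eq_of_locFree hXe (fun G => g (φX (χcl hXe G)))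
    (fun G => φY (χcl hYe ((Scheme.Modules.pushforward i).obj G))) ?_ ?_ ?_ hG
  · intro S hS h₁ h₂ h₃
    rw [χcl_add hXe hS h₁ h₂ h₃, map_add, map_add]
  · intro S hS h₁ h₂ h₃
    exact (congrArg φY (χcl_add hYe (shortExact_push _ hS) (bpd_pushforward hXe _ hi h₁)
      (bpd_pushforward hXe _ hi h₂) (bpd_pushforward hXe _ hi h₃))).trans (map_add φY _ _)
  · intro E hE
    rw [χcl_locFree hXe hE]
    exact pushCl_apply hYe _ hg hE (PushBPD.bpd_push _ hi hE)

/-- The diagonal into a product with a regular closed immersion as one factor is regular. -/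
theorem diag_regular {n m : ℕ} {X Y : Scheme.{u}} [IsNoetherian Y] [ConnectedSpace ↥Y] [ConnectedSpace ↥X]
    (i₁ : X ⟶ KRR.PY n Y) (i₂ : X ⟶ KRR.PY m Y) (hw : i₁ ≫ KRR.pr n Y = i₂ ≫ KRR.pr m Y)
    (h₂ : Mor2.IsRegularClosedImmersion i₂) : Mor2.IsRegularClosedImmersion (diag i₁ i₂ hw) := by
  let σ : X ⟶ KRR.PY n X := (isPullback (n := n) (i₂ ≫ KRR.pr m Y)).lift i₁ (𝟙 X) (by simp [hw])
  have hσ : σ ≫ KRR.pr n X = 𝟙 X := IsPullback.lift_snd _ _ _ _
  haveI : Smooth (KRR.pr n X) := ProjSpace.BaseChange.smooth_toBase n X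
  haveI : IsClosedImmersion (σ ≫ KRR.pr n X) := by rw [hσ]; infer_instance
  haveI : IsClosedImmersion σ := IsClosedImmersion.of_comp σ (KRR.pr n X)
  rw [← diag_eq i₁ i₂ hw σ (IsPullback.lift_fst _ _ _ _) hσ]
  exact Groth.Agent.S1661.result σ _ (Groth.Agent.S1676.result (KRR.pr n X) σ hσ)
    (isRegularClosedImmersion_projSpaceMap i₂ h₂)

section BC

variable {n : ℕ} {Y M : Scheme.{u}} [IsNoetherian Y] [ConnectedSpace ↥Y] [IsNoetherian M] [ConnectedSpace ↥M]
  [Nonempty ↥(KRR.PY n Y)] [Nonempty ↥(KRR.PY n M)]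

/-- Base change of the push-forward along a regular closed immersion, on `K₀` of bundles. -/
theorem raw_bc (hYP : KRR.HasEnoughLocFree (KRR.PY n Y)) (hMe : KRR.HasEnoughLocFree M)
    (hMP : KRR.HasEnoughLocFree (KRR.PY n M)) (j : Y ⟶ M) (hj : Mor2.IsRegularClosedImmersion j)
    {A : SGA6.Kvb Y →+ SGA6.Kvb M}
    (hA : ∀ E, FlatMod.IsFinLocFree E → A (KRR.cl Y E) = χcl hMe ((Scheme.Modules.pushforward j).obj E))
    {B : SGA6.Kvb (KRR.PY n Y) →+ SGA6.Kvb Y} (hB : IsPr n Y B)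
    {C : SGA6.Kvb (KRR.PY n M) →+ SGA6.Kvb M} (hC : IsPr n M C)
    {G : (KRR.PY n Y).Modules} (hG : BPD G) :
    A (B (χcl hYP G)) = C (χcl hMP ((Scheme.Modules.pushforward (KRR.projSpaceMap n j)).obj G)) := by
  haveI := hj.1
  have hp := isRegularClosedImmersion_projSpaceMap (n := n) j hj
  haveI := connected_PY n Y
  haveI := connected_PY n M
  obtain ⟨KY, _, _, PY, φY, hKY⟩ := Groth.Agent.S3796.result Y
  obtain ⟨KM, _, _, PM, φM, hKM⟩ := Groth.Agent.S3796.result M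
  obtain ⟨KP, _, _, PP, φP, hKP⟩ := Groth.Agent.S3796.result (KRR.PY n Y)
  obtain ⟨KQ, _, _, PQ, φQ, hKQ⟩ := Groth.Agent.S3796.result (KRR.PY n M)
  obtain ⟨a, ha, -⟩ := existsUnique_pushCl hMe j (φY := φM) hj hKY.bijective
  obtain ⟨J, hJ, -⟩ := existsUnique_pushCl hMP (KRR.projSpaceMap n j) (φY := φQ) hp hKP.bijective
  let eP := AddEquiv.ofBijective φP hKP.bijective
  let eQ := AddEquiv.ofBijective φQ hKQ.bijective
  let gP : KP →+ KY := φY.comp (B.comp eP.symm.toAddMonoidHom)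
  let gQ : KQ →+ KM := φM.comp (C.comp eQ.symm.toAddMonoidHom)
  have hevP : ∀ z, gP (φP z) = φY (B z) := fun z => congrArg (fun t => φY (B t)) (eP.symm_apply_apply z)
  have hevQ : ∀ z, gQ (φQ z) = φM (C z) := fun z => congrArg (fun t => φM (C t)) (eQ.symm_apply_apply z)
  have hgP : KRR.IsPushPr n Y φP φY gP := fun E hE hR => by rw [hevP, hB E hE hR]
  have hgQ : KRR.IsPushPr n M φQ φM gQ := fun E hE hR => by rw [hevQ, hC E hE hR]
  have hA' : (a.comp φY) = φM.comp A := KRes.KSub.hom_ext (P := KRR.vbP Y) fun E hE => by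
    show a (φY (KRR.cl Y E)) = φM (A (KRR.cl Y E))
    rw [hA E hE]
    exact pushCl_apply hMe j ha hE (PushBPD.bpd_push j hj hE)
  have h := DFunLike.congr_fun (pushCl_pushPr j hj hMe hMP hKY hKM hKP hKQ ha hJ hgP hgQ) (φP (χcl hYP G))
  have h' := ((congrArg a (hevP _)).symm.trans h).trans
    ((congrArg gQ (pushCl_χcl hYP hMP _ hp hJ hG)).trans (hevQ _))
  exact hKM.bijective.1 (((DFunLike.congr_fun hA' (B (χcl hYP G))).symm).trans h')

end BC

section Main

variable {n m l : ℕ} {X Y Z : Scheme.{u}} [IsNoetherian Y] [ConnectedSpace ↥Y] [IsNoetherian Z] [ConnectedSpace ↥Z]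
  [ConnectedSpace ↥X] (i : X ⟶ KRR.PY n Y) (j : Y ⟶ KRR.PY m Z) (k : X ⟶ KRR.PY l Z)

/-- The push-forwards of a composite of two factorised morphisms compose. -/
theorem comp (hw : k ≫ KRR.pr l Z = (i ≫ KRR.pr n Y ≫ j) ≫ KRR.pr m Z)
    (hYP : KRR.HasEnoughLocFree (KRR.PY n Y)) (hMe : KRR.HasEnoughLocFree (KRR.PY m Z))
    (hLe : KRR.HasEnoughLocFree (KRR.PY l Z))
    (hi : Mor2.IsRegularClosedImmersion i) (hj : Mor2.IsRegularClosedImmersion j)
    (hk : Mor2.IsRegularClosedImmersion k)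
    {A : SGA6.Kvb Y →+ SGA6.Kvb (KRR.PY m Z)}
    (hA : ∀ E, FlatMod.IsFinLocFree E → A (KRR.cl Y E) = χcl hMe ((Scheme.Modules.pushforward j).obj E))
    {B₁ : SGA6.Kvb (KRR.PY n Y) →+ SGA6.Kvb Y} (hB₁ : IsPr n Y B₁)
    {B₂ : SGA6.Kvb (KRR.PY m Z) →+ SGA6.Kvb Z} (hB₂ : IsPr m Z B₂)
    {B₃ : SGA6.Kvb (KRR.PY l Z) →+ SGA6.Kvb Z} (hB₃ : IsPr l Z B₃)
    {F : X.Modules} (hF : FlatMod.IsFinLocFree F) :
    B₂ (A (B₁ (χcl hYP ((Scheme.Modules.pushforward i).obj F)))) =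
      B₃ (χcl hLe ((Scheme.Modules.pushforward k).obj F)) := by
  haveI := hi.1
  haveI := hk.1
  haveI : IsNoetherian X := MeetRegularly.isNoetherian_closed i
  haveI : Nonempty ↥X := ConnectedSpace.toNonempty
  let h : X ⟶ KRR.PY m Z := i ≫ KRR.pr n Y ≫ j
  let i' : X ⟶ KRR.PY n (KRR.PY m Z) := i ≫ KRR.projSpaceMap n j
  have hi' : Mor2.IsRegularClosedImmersion i' :=
    Groth.Agent.S1661.result i _ hi (isRegularClosedImmersion_projSpaceMap j hj)
  have hi'w : i' ≫ KRR.pr n (KRR.PY m Z) = h := by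
    simp only [i', h, Category.assoc, (isPullback (n := n) j).w]
  haveI : Nonempty ↥(KRR.PY n Y) := ⟨i.base (Classical.arbitrary X)⟩
  haveI : Nonempty ↥(KRR.PY n (KRR.PY m Z)) := ⟨i'.base (Classical.arbitrary X)⟩
  haveI : Nonempty ↥(KRR.PY m Z) := ⟨h.base (Classical.arbitrary X)⟩
  haveI : Nonempty ↥(KRR.PY l Z) := ⟨k.base (Classical.arbitrary X)⟩
  haveI : Nonempty ↥(KRR.PY m (KRR.PY l Z)) := ⟨(diag h k hw.symm).base (Classical.arbitrary X)⟩
  haveI : Nonempty ↥(KRR.PY l (KRR.PY m Z)) := ⟨(diag k h hw).base (Classical.arbitrary X)⟩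
  haveI := connected_PY m Z
  haveI := connected_PY l Z
  let k' : X ⟶ KRR.PY l (KRR.PY m Z) := diag k h hw
  have hσ : IsPullback (𝟙 X) k' (diag h k hw.symm) (swap m l Z) := isPullback_diag h k hw.symm
  have hLQ := EnoughPn.hasEnoughLocFree_PY l _ hMe
  have hNQ := EnoughPn.hasEnoughLocFree_PY n _ hMe
  have hMQ := EnoughPn.hasEnoughLocFree_PY m _ hLe
  have hdiag : Mor2.IsRegularClosedImmersion (diag h k hw.symm) := diag_regular h k hw.symm hk
  have hk' : Mor2.IsRegularClosedImmersion k' := of_isPullback_flat hσ hdiag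
  have hk'w : k' ≫ KRR.pr l (KRR.PY m Z) = h := diag_snd k h hw
  obtain ⟨C, hC⟩ := exists_isPr (n := n) (T := KRR.PY m Z)
  obtain ⟨C', hC'⟩ := exists_isPr (n := l) (T := KRR.PY m Z)
  obtain ⟨D, hD⟩ := exists_isPr (n := m) (T := KRR.PY l Z)
  -- base change along `j`
  rw [raw_bc hYP hMe hNQ j hj hA hB₁ hC (PushBPD.bpd_push i hi hF)]
  have e : (Scheme.Modules.pushforward (KRR.projSpaceMap n j)).obj ((Scheme.Modules.pushforward i).obj F) ≅
      (Scheme.Modules.pushforward i').obj F :=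
    (Scheme.Modules.pushforwardComp i (KRR.projSpaceMap n j)).app F
  rw [χcl_iso hNQ e (bpd_of_iso e.symm (PushBPD.bpd_push i' hi' hF))]
  -- independence over `P^m_Z`
  rw [indep i' k' (hi'w.trans hk'w.symm) hNQ hLQ (EnoughPn.hasEnoughLocFree_PY n _ hLQ)
    (EnoughPn.hasEnoughLocFree_PY l _ hNQ) hi' hk' hC hC' hF]
  -- exchange of the two projections
  obtain ⟨hb, hf⟩ := factor h k hw.symm hLe hMQ hk hF
  obtain ⟨e'⟩ := nonempty_diag_bc h k hw.symm hF
  rw [← hf D hD, ← χcl_iso hLQ e' (bpd_swap_pullback hMQ hb)]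
  exact swap_push hMQ hLQ hB₂ hB₃ hC' hD hb

end Main

end

end Groth.Agent.Lib.KVec.PushComp
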