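import Groth.Agent.Lib.KVec.RelGen
import Groth.Agent.Lib.Modules.ProjFormula
import Groth.Agent.Lib.Modules.ExtPowTwist
import Groth.Agent.Lib.FundLocal.ExtPowExists
import Groth.Agent.Lib.KVec.ExtRank
import Groth.Agent.Lib.TensorMod.Invertible

/-!
# The twisted push-forward: projection formula
-/

set_option autoImplicit false
set_option linter.style.haveILetI false
set_option linter.unusedSectionVars false
universe w v u

open CategoryTheory CategoryTheory.Limits AlgebraicGeometry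

namespace Groth.Agent.Lib.KVec.PushF

open Groth.Agent Groth.Agent.Lib Groth.Agent.Lib.KVec.RelResolve Groth.Agent.Lib.KVec.RelGen

noncomputable section

variable {X Y : Scheme.{u}} {π : X ⟶ Y} [HasInjectiveResolutions X.Modules] {F E : X.Modules} {G : Y.Modules}

/-- `R^q π_*(F ⊗ (E ⊗ π^*G)) ≅ G ⊗ R^q π_*(F ⊗ E)`. -/
def twistIso (hG : FlatMod.IsFinLocFree G) (q : ℕ) :
    (Coh.Rpush π q).obj (CohB1.tensorMod F (CohB1.tensorMod E ((Scheme.Modules.pullback π).obj G))) ≅
      CohB1.tensorMod G ((Coh.Rpush π q).obj (CohB1.tensorMod F E)) :=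
  (Coh.Rpush π q).mapIso ((TensorMod.Basic.assoc F E _).symm ≪≫ TensorMod.Basic.comm _ _) ≪≫
    (Modules.ProjFormula.higherProjIso π (Modules.DualBasis.hasDBases_of_isFinLocFree hG) (CohB1.tensorMod F E) q).symm

/-- `π_*(F ⊗ (E ⊗ π^*G)) ≅ G ⊗ π_*(F ⊗ E)`. -/
def pushTwistIso (hG : FlatMod.IsFinLocFree G) :
    (Coh.push π).obj (CohB1.tensorMod F (CohB1.tensorMod E ((Scheme.Modules.pullback π).obj G))) ≅
      CohB1.tensorMod G ((Coh.push π).obj (CohB1.tensorMod F E)) :=
  (Coh.push π).mapIso ((TensorMod.Basic.assoc F E _).symm ≪≫ TensorMod.Basic.comm _ _) ≪≫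
    ((Modules.ProjFormula.projIso π (Modules.DualBasis.hasDBases_of_isFinLocFree hG)).app (CohB1.tensorMod F E)).symm

/-- Twisting by a bundle from the base preserves acyclicity. -/
theorem acyc_twist (hG : FlatMod.IsFinLocFree G) (hA : Acyc π F E) :
    Acyc π F (CohB1.tensorMod E ((Scheme.Modules.pullback π).obj G)) := by
  refine ⟨fun p hp => ?_, TensorMod.LocFree.of_iso (pushTwistIso hG).symm
    (TensorMod.LocFree.isFinLocFree_tensorMod hG hA.2)⟩
  refine IsZero.of_iso ?_ (twistIso hG p)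
  exact Functor.map_isZero ((DCoh.tensorBi (X := Y)).obj G) (hA.1 p hp)

variable [IsNoetherian X] [IsNoetherian Y] {d : ℕ}
  {KX : Type v} [CommRing KX] [LambdaRing.LambdaOps KX] {PX : LambdaRing.PosStructure KX}
  {φX : SGA6.Kvb X →+ KX}
  {KY : Type w} [CommRing KY] [LambdaRing.LambdaOps KY] {PY : LambdaRing.PosStructure KY}
  {φY : SGA6.Kvb Y →+ KY} {g : KX →+ KY} {pX : KY →+ KX}

/-- The projection formula for the twisted push-forward. -/
theorem proj_mul (hs : Setup π F d) (hKX : KRR.IsModel X KX PX φX) (hKY : KRR.IsModel Y KY PY φY)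
    (hg : KDet.IsPushF π F φX φY g) (hpX : KRR.IsPull π φY φX pX) (x : KX) (y : KY) :
    g (x * pX y) = g x * y := by
  obtain ⟨a, rfl⟩ := hKX.bijective.2 x
  obtain ⟨b, rfl⟩ := hKY.bijective.2 y
  have key : ∀ G, FlatMod.IsFinLocFree G →
      g (φX a * pX (φY (KRR.cl Y G))) = g (φX a) * φY (KRR.cl Y G) := by
    intro G hG
    let L : SGA6.Kvb X →+ KY := g.comp ((AddMonoidHom.mulRight (pX (φY (KRR.cl Y G)))).comp φX)
    let R : SGA6.Kvb X →+ KY := (AddMonoidHom.mulRight (φY (KRR.cl Y G))).comp (g.comp φX)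
    have h : L = R := RelGen.hom_ext hs fun E hE hA => by
      show g (φX (KRR.cl X E) * pX (φY (KRR.cl Y G))) = g (φX (KRR.cl X E)) * φY (KRR.cl Y G)
      have hT := acyc_twist hG hA
      rw [hpX G hG, hKX.map_mul _ _ hE (TensorMod.LocFree.isFinLocFree_pullback π hG),
        hg E hE hA.1 hA.2]
      refine (hg _ (TensorMod.LocFree.isFinLocFree_tensorMod hE
        (TensorMod.LocFree.isFinLocFree_pullback π hG)) hT.1 hT.2).trans ?_
      rw [mul_comm]
      refine Eq.trans ?_ (hKY.map_mul _ _ hG hA.2).symm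
      exact congrArg φY (KAugNil98.Main.cl_iso (pushTwistIso hG) hT.2)
    exact DFunLike.congr_fun h a
  let L : SGA6.Kvb Y →+ KY := g.comp ((AddMonoidHom.mulLeft (φX a)).comp (pX.comp φY))
  let R : SGA6.Kvb Y →+ KY := (AddMonoidHom.mulLeft (g (φX a))).comp φY
  have h : L = R := KRes.KSub.hom_ext (P := KRR.vbP Y) fun G hG => key G hG
  exact DFunLike.congr_fun h b

omit [AlgebraicGeometry.IsNoetherian X] [HasInjectiveResolutions X.Modules] in
/-- `det z - det (z ⊗ M') = rank z • [M]` for `M'` inverse to `M`. -/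
theorem dt_twist [ConnectedSpace Y] [PicGrp.Law Y] {dt : KY →+ Additive (PicLoc.PicSet Y)}
    (hdt : KDet.IsDet φY dt) (hKY : KRR.IsModel Y KY PY φY) {M M' : Y.Modules} (hM : PicF.IsInvertible M)
    (hM' : PicF.IsInvertible M') (hMM' : ClSub.IsInverseOf M M') (z : KY) :
    dt (z * (1 - φY (KRR.cl Y M'))) = PY.aug z • Additive.ofMul (PicGrp.cls M hM) := by
  obtain ⟨a, rfl⟩ := hKY.bijective.2 z
  let L : SGA6.Kvb Y →+ Additive (PicLoc.PicSet Y) :=
    dt.comp ((AddMonoidHom.mulRight (1 - φY (KRR.cl Y M'))).comp φY)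
  let R : SGA6.Kvb Y →+ Additive (PicLoc.PicSet Y) :=
    (zmultiplesHom _ (Additive.ofMul (PicGrp.cls M hM))).comp (PY.aug.toAddMonoidHom.comp φY)
  have h : L = R := KRes.KSub.hom_ext (P := KRR.vbP Y) fun E hE => by
    show dt (φY (KRR.cl Y E) * (1 - φY (KRR.cl Y M'))) =
      PY.aug (φY (KRR.cl Y E)) • Additive.ofMul (PicGrp.cls M hM)
    obtain ⟨n, hn⟩ := KAugNil98.Main.exists_rank hE
    rw [hKY.aug_cl n E hn, mul_sub, mul_one, map_sub, hKY.map_mul _ _ hE (TensorMod.LocFree.of_rank (TensorMod.LocFree.of_isInvertible hM'))]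
    have hr : FlatMod.IsFinLocFreeOfRank (n * 1) (CohB1.tensorMod E M') := TensorMod.LocFree.rank_tensorMod hn (TensorMod.LocFree.of_isInvertible hM')
    rw [mul_one] at hr
    haveI := (Perfect.Coherent.isCoh_of_isFinLocFree hE).1
    haveI := (Perfect.Coherent.isCoh_of_isFinLocFree (TensorMod.LocFree.of_rank hr)).1
    obtain ⟨A, hA⟩ := FundLocal.ExtPowExists.exists_isExtPow (E := E) n
    obtain ⟨B, hB⟩ := FundLocal.ExtPowExists.exists_isExtPow (E := CohB1.tensorMod E M') n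
    have hAi : PicF.IsInvertible A := TensorMod.LocFree.isInvertible_of_rank_one
      (Nat.choose_self n ▸ KVec.ExtRank.rank_extPow hn hA)
    have hBi : PicF.IsInvertible B := TensorMod.LocFree.isInvertible_of_rank_one
      (Nat.choose_self n ▸ KVec.ExtRank.rank_extPow hr hB)
    rw [hdt n E A hAi hn hA]
    refine (congrArg (fun t => Additive.ofMul (PicGrp.cls A hAi) - t) (hdt n _ B hBi hr hB)).trans ?_
    obtain ⟨φN, hN⟩ := hA
    obtain ⟨φB, hφB⟩ := hB
    obtain ⟨i⟩ := Modules.ExtPowTwist.nonempty_iso φB hφB φN hN hM'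
    have hB' : PicGrp.cls B hBi = PicGrp.cls A hAi * PicGrp.cls M' hM' ^ n := by
      apply Subtype.ext
      rw [PicGrp.mul_val, PicGrp.cls_pow_val, PicGrp.cls_val, PicGrp.cls_val, PicGrp.mulCl_cl]
      exact (PicGrp.cl_eq_cl_iff _ _).2 ⟨i⟩
    rw [hB', ← PicGrp.cls_inv_eq_cls hM hM' hMM', natCast_zsmul, inv_pow, ofMul_mul, ofMul_inv, ofMul_pow]
    abel
  exact DFunLike.congr_fun h a

end

end Groth.Agent.Lib.KVec.PushF
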