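import Groth.Agent.Lib.KVec.PushF
import Groth.Agent.Lib.ExchangeFP29.MainBC
import Groth.Agent.Lib.ExchangeFP29.LocusD
import Groth.Agent.Lib.ExchangeFP29.FieldPoint
import Groth.Agent.Lib.KVec.ExtPowPull
import Groth.Agent.S1391

/-!
# The twisted push-forward: base change
-/

set_option autoImplicit false
set_option linter.style.haveILetI false
set_option linter.unusedSectionVars false
set_option linter.overlappingInstances false
universe w₂ v₂ w v u

open CategoryTheory CategoryTheory.Limits AlgebraicGeometry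

namespace Groth.Agent.Lib.KVec.PushFBC

open Groth.Agent Groth.Agent.Lib Groth.Agent.Lib.KVec.RelResolve Groth.Agent.Lib.KVec.RelGen

noncomputable section

variable {X Y : Scheme.{u}} [IsLocallyNoetherian Y] [ConnectedSpace Y] {π : X ⟶ Y} [IsProper π]
  [HasInjectiveResolutions X.Modules]
  {X' Y' : Scheme.{u}} [IsLocallyNoetherian Y'] [HasInjectiveResolutions X'.Modules]
  {h : Y' ⟶ Y} {q₁ : X' ⟶ X} {q₂ : X' ⟶ Y'}

/-- The higher fibre cohomology of an acyclic flat module with locally free direct image vanishes. -/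
theorem fiberRank_eq_zero {M : X.Modules} (hM : Coh.IsCoh M) (hMf : FlatMod.IsFlatOver π M)
    (hv : ∀ p, 0 < p → IsZero ((Coh.Rpush π p).obj M)) (hlf : FlatMod.IsFinLocFree ((Coh.push π).obj M))
    {p : ℕ} (hp : 0 < p) (y : Y) : CohIII.fiberRank π M p y = 0 := by
  classical
  haveI : IsLocallyNoetherian X := LocallyOfFiniteType.isLocallyNoetherian π
  haveI := hM.1
  haveI : LocallyOfFinitePresentation π := inferInstance
  have hP := ZarCoh.FP.isFP_of_isCoh _ hM
  obtain ⟨e₀⟩ := ExchangeFP29.Main.nonempty_zeroIso π M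
  obtain ⟨r, hr⟩ := KAugNil98.Main.exists_rank (TensorMod.LocFree.of_iso e₀.symm hlf)
  let ρ : ℕ → ℕ := fun p => if p = 0 then r else 0
  have hρ : ∀ p, FlatMod.IsFinLocFreeOfRank (ρ p) ((Coh.Rpush π p).obj M) := fun p => by
    by_cases hp0 : p = 0
    · subst hp0; simpa [ρ] using hr
    · simp only [ρ, if_neg hp0]
      exact ExchangeFP29.LocusD.rank_zero_of_isZero (hv p (Nat.pos_of_ne_zero hp0))
  rw [ExchangeFP29.Locus.fiberRank_eq_of_locFree π M hP hMf ρ hρ]
  exact if_neg hp.ne'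

/-- Base change of an acyclic direct image. -/
theorem push_pull (hsq : IsPullback q₁ q₂ π h) [IsProper q₂] {M : X.Modules} (hM : Coh.IsCoh M)
    (hMf : FlatMod.IsFlatOver π M) (hv : ∀ p, 0 < p → IsZero ((Coh.Rpush π p).obj M))
    (hlf : FlatMod.IsFinLocFree ((Coh.push π).obj M)) :
    (∀ p, 0 < p → IsZero ((Coh.Rpush q₂ p).obj ((Scheme.Modules.pullback q₁).obj M))) ∧
      Nonempty ((Scheme.Modules.pullback h).obj ((Coh.push π).obj M) ≅
        (Coh.push q₂).obj ((Scheme.Modules.pullback q₁).obj M)) := by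
  haveI : IsLocallyNoetherian X := LocallyOfFiniteType.isLocallyNoetherian π
  haveI := hM.1
  haveI : LocallyOfFinitePresentation π := inferInstance
  haveI : LocallyOfFinitePresentation q₂ := inferInstance
  have hP := ZarCoh.FP.isFP_of_isCoh _ hM
  have h0 := fun {p : ℕ} (hp : 0 < p) y => fiberRank_eq_zero hM hMf hv hlf hp y
  haveI := QCoh.Pullback.isQCoh_pullback q₁ M
  refine ⟨fun p hp => ExchangeFP29.Main.isZero_Rpush q₂ _ (H47.FlatLimit.isFP_pullback _ _ hP)
    (fun x' => Groth.Agent.S1391.result π q₂ q₁ h hsq M hM.1 x' (hMf _)) p fun t => ?_, ?_⟩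
  · rw [ExchangeFP29.FieldPoint.fiberRank_baseChange π M hP hMf h q₁ q₂ hsq p t]
    exact h0 hp _
  · haveI := ExchangeFP29.Main.isIso_bc0 π M hP hMf h q₁ q₂ hsq fun t => h0 one_pos _
    exact ⟨asIso (CohBC.bc0 π h q₂ q₁ hsq.w M)⟩

/-- Pull-back preserves acyclic bundles. -/
theorem acyc_pull (hsq : IsPullback q₁ q₂ π h) [IsProper q₂] {F E : X.Modules} (hF : Coh.IsCoh F)
    (hFf : FlatMod.IsFlatOver π F) (hE : FlatMod.IsFinLocFree E) (hA : Acyc π F E) :
    Acyc q₂ ((Scheme.Modules.pullback q₁).obj F) ((Scheme.Modules.pullback q₁).obj E) ∧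
      Nonempty ((Scheme.Modules.pullback h).obj ((Coh.push π).obj (CohB1.tensorMod F E)) ≅
        (Coh.push q₂).obj (CohB1.tensorMod ((Scheme.Modules.pullback q₁).obj F)
          ((Scheme.Modules.pullback q₁).obj E))) := by
  haveI : IsLocallyNoetherian X := LocallyOfFiniteType.isLocallyNoetherian π
  obtain ⟨hv, ⟨e⟩⟩ := push_pull (q₁ := q₁) (q₂ := q₂) hsq (RelShift.isCoh_tensor hF hE)
    (RelShift.isFlatOver_tensor π hFf hE) hA.1 hA.2
  let t := TensorMod.Pullback.pullbackTensorIso q₁ F E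
  let e' := e ≪≫ (Coh.push q₂).mapIso t
  exact ⟨⟨fun p hp => (hv p hp).of_iso ((Coh.Rpush q₂ p).mapIso t).symm,
    TensorMod.LocFree.of_iso e' (TensorMod.LocFree.isFinLocFree_pullback h hA.2)⟩, ⟨e'⟩⟩

variable {F : X.Modules} {d : ℕ}
  {KX : Type v} [CommRing KX] [LambdaRing.LambdaOps KX] {PX : LambdaRing.PosStructure KX}
  {φX : SGA6.Kvb X →+ KX}
  {KY : Type w} [CommRing KY] [LambdaRing.LambdaOps KY] {PY : LambdaRing.PosStructure KY}
  {φY : SGA6.Kvb Y →+ KY} {g : KX →+ KY}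
  {KX' : Type v₂} [CommRing KX'] [LambdaRing.LambdaOps KX'] {PX' : LambdaRing.PosStructure KX'}
  {φX' : SGA6.Kvb X' →+ KX'}
  {KY' : Type w₂} [CommRing KY'] [LambdaRing.LambdaOps KY'] {PY' : LambdaRing.PosStructure KY'}
  {φY' : SGA6.Kvb Y' →+ KY'} {g' : KX' →+ KY'} {pX : KX →+ KX'} {pY : KY →+ KY'} {pQ : KY' →+ KX'}

/-- Base change of the twisted push-forward. -/
theorem pushF_pull [IsNoetherian X] [IsNoetherian Y] (hsq : IsPullback q₁ q₂ π h) [IsProper q₂]
    (hs : Setup π F d) (hKX : KRR.IsModel X KX PX φX) (hKX' : KRR.IsModel X' KX' PX' φX')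
    (hKY' : KRR.IsModel Y' KY' PY' φY')
    (hg : KDet.IsPushF π F φX φY g) (hg' : KDet.IsPushF q₂ ((Scheme.Modules.pullback q₁).obj F) φX' φY' g')
    (hpX : KRR.IsPull q₁ φX φX' pX) (hpY : KRR.IsPull h φY φY' pY) (hpQ : KRR.IsPull q₂ φY' φX' pQ)
    (x : KX) (y' : KY') : g' (pX x * pQ y') = pY (g x) * y' := by
  obtain ⟨a, rfl⟩ := hKX.bijective.2 x
  obtain ⟨b, rfl⟩ := hKY'.bijective.2 y'
  have key : ∀ G, FlatMod.IsFinLocFree G →
      g' (pX (φX a) * pQ (φY' (KRR.cl Y' G))) = pY (g (φX a)) * φY' (KRR.cl Y' G) := by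
    intro G hG
    let L : SGA6.Kvb X →+ KY' := g'.comp ((AddMonoidHom.mulRight (pQ (φY' (KRR.cl Y' G)))).comp (pX.comp φX))
    let R : SGA6.Kvb X →+ KY' := (AddMonoidHom.mulRight (φY' (KRR.cl Y' G))).comp (pY.comp (g.comp φX))
    have h : L = R := RelGen.hom_ext hs fun E hE hA => by
      show g' (pX (φX (KRR.cl X E)) * pQ (φY' (KRR.cl Y' G))) = pY (g (φX (KRR.cl X E))) * φY' (KRR.cl Y' G)
      obtain ⟨hA', ⟨e⟩⟩ := acyc_pull hsq hs.coh hs.flat hE hA
      have hT := PushF.acyc_twist hG hA'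
      have hE' := TensorMod.LocFree.isFinLocFree_pullback q₁ hE
      have hG' := TensorMod.LocFree.isFinLocFree_pullback q₂ hG
      rw [hpX E hE, hpQ G hG, hKX'.map_mul _ _ hE' hG', hg E hE hA.1 hA.2]
      refine ((hg' _ (TensorMod.LocFree.isFinLocFree_tensorMod hE' hG') hT.1 hT.2).trans ?_).trans
        (congrArg (· * φY' (KRR.cl Y' G)) (hpY _ hA.2).symm)
      rw [mul_comm]
      refine Eq.trans ?_ (hKY'.map_mul _ _ hG (TensorMod.LocFree.isFinLocFree_pullback h hA.2)).symm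
      exact congrArg φY' (KAugNil98.Main.cl_iso
        (PushF.pushTwistIso hG ≪≫ TensorMod.Basic.tensorIso (Iso.refl G) e.symm) hT.2)
    exact DFunLike.congr_fun h a
  let L : SGA6.Kvb Y' →+ KY' := g'.comp ((AddMonoidHom.mulLeft (pX (φX a))).comp (pQ.comp φY'))
  let R : SGA6.Kvb Y' →+ KY' := (AddMonoidHom.mulLeft (pY (g (φX a)))).comp φY'
  have h : L = R := KRes.KSub.hom_ext (P := KRR.vbP Y') fun G hG => key G hG
  exact DFunLike.congr_fun h b

/-- The determinant commutes with pull-back. -/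
theorem dt_pull [PicGrp.Law Y] [PicGrp.Law Y'] (hmul : PicGrp.PullMul h)
    {dt : KY →+ Additive (PicLoc.PicSet Y)} (hdt : KDet.IsDet φY dt)
    {dt' : KY' →+ Additive (PicLoc.PicSet Y')} (hdt' : KDet.IsDet φY' dt') {V : Y.Modules}
    (hV : FlatMod.IsFinLocFree V) :
    PicGrp.pullHom h hmul (Additive.toMul (dt (φY (KRR.cl Y V)))) =
      Additive.toMul (dt' (φY' (KRR.cl Y' ((Scheme.Modules.pullback h).obj V)))) := by
  obtain ⟨n, hn⟩ := KAugNil98.Main.exists_rank hV
  have hn' := TensorMod.LocFree.rank_pullback h hn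
  haveI := (Perfect.Coherent.isCoh_of_isFinLocFree hV).1
  haveI := (Perfect.Coherent.isCoh_of_isFinLocFree (TensorMod.LocFree.of_rank hn')).1
  obtain ⟨A, hA⟩ := FundLocal.ExtPowExists.exists_isExtPow (E := V) n
  obtain ⟨B, hB⟩ := FundLocal.ExtPowExists.exists_isExtPow (E := (Scheme.Modules.pullback h).obj V) n
  have hAi : PicF.IsInvertible A := TensorMod.LocFree.isInvertible_of_rank_one
    (Nat.choose_self n ▸ KVec.ExtRank.rank_extPow hn hA)
  have hBi : PicF.IsInvertible B := TensorMod.LocFree.isInvertible_of_rank_one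
    (Nat.choose_self n ▸ KVec.ExtRank.rank_extPow hn' hB)
  rw [hdt n V A hAi hn hA, hdt' n _ B hBi hn' hB]
  show PicGrp.pullHom h hmul (PicGrp.cls A hAi) = PicGrp.cls B hBi
  rw [PicGrp.pullHom_cls, PicGrp.cls_eq_cls_iff]
  exact KVec.ExtPowPull.nonempty_iso_pullback h hV hA hB

/-- The determinant of the twisted push-forward commutes with base change. -/
theorem dt_pushF_pull [IsNoetherian X] [IsNoetherian Y] [PicGrp.Law Y] [PicGrp.Law Y']
    (hsq : IsPullback q₁ q₂ π h) [IsProper q₂] (hmul : PicGrp.PullMul h) (hs : Setup π F d)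
    (hKX : KRR.IsModel X KX PX φX)
    (hg : KDet.IsPushF π F φX φY g) (hg' : KDet.IsPushF q₂ ((Scheme.Modules.pullback q₁).obj F) φX' φY' g')
    (hpX : KRR.IsPull q₁ φX φX' pX) {dt : KY →+ Additive (PicLoc.PicSet Y)} (hdt : KDet.IsDet φY dt)
    {dt' : KY' →+ Additive (PicLoc.PicSet Y')} (hdt' : KDet.IsDet φY' dt') (x : KX) :
    PicGrp.pullHom h hmul (Additive.toMul (dt (g x))) = Additive.toMul (dt' (g' (pX x))) := by
  obtain ⟨a, rfl⟩ := hKX.bijective.2 x
  let L : SGA6.Kvb X →+ Additive (PicLoc.PicSet Y') :=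
    (MonoidHom.toAdditive (PicGrp.pullHom h hmul)).comp (dt.comp (g.comp φX))
  let R : SGA6.Kvb X →+ Additive (PicLoc.PicSet Y') := dt'.comp (g'.comp (pX.comp φX))
  have hLR : L = R := RelGen.hom_ext hs fun E hE hA => by
    show Additive.ofMul (PicGrp.pullHom h hmul (Additive.toMul (dt (g (φX (KRR.cl X E)))))) =
      dt' (g' (pX (φX (KRR.cl X E))))
    obtain ⟨hA', ⟨e⟩⟩ := acyc_pull hsq hs.coh hs.flat hE hA
    rw [hg E hE hA.1 hA.2, hpX E hE]
    refine ((congrArg Additive.ofMul (dt_pull hmul hdt hdt' hA.2)).trans ?_).trans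
      (congrArg dt' (hg' _ (TensorMod.LocFree.isFinLocFree_pullback q₁ hE) hA'.1 hA'.2).symm)
    exact congrArg (fun t => dt' (φY' t))
      (KAugNil98.Main.cl_iso e (TensorMod.LocFree.isFinLocFree_pullback h hA.2))
  exact congrArg Additive.toMul (DFunLike.congr_fun hLR a)

end

end Groth.Agent.Lib.KVec.PushFBC
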