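import Groth.Agent.Lib.KVec.PushPnBC
import Groth.Agent.Lib.FlatCx.Ker
import Groth.Agent.Lib.Exchange.FlatTwist
import Groth.Agent.Lib.HilbFib53.Push
import Groth.Agent.Lib.ZarCoh.FP
import Groth.Agent.S4456

/-!
# The push-forward to the base of modules flat and regular over it
-/

set_option autoImplicit false
set_option linter.style.haveILetI false
set_option linter.unusedSectionVars false
universe v u

open CategoryTheory CategoryTheory.Limits AlgebraicGeometry

namespace Groth.Agent.Lib.KVec.PushGood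

open Groth.Agent Groth.Agent.Lib KVec.PushCl ExchangeFP29.KPush ExchangeFP29.KPush.Reg H70.KRRReg
open Groth.Agent.Lib.Regular.PD Groth.Agent.Lib.Modules.StalkModule Groth.Agent.Lib.Devissage.LocFreeK0
open Groth.Agent.Lib.Devissage.ResolvableK0 Groth.Agent.Lib.KRes.Dim Groth.Agent.Lib.KVec.PushPnBC

noncomputable section

variable {n : ℕ} {T : Scheme.{u}} [IsNoetherian T]

/-- Coherent, of bounded projective dimension, flat and regular over the base. -/
structure Good (G : (KRR.PY n T).Modules) : Prop where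
  bpd : BPD G
  flat : FlatMod.IsFlatOver (KRR.pr n T) G
  reg : KRR.IsRegSheaf n T G

variable {G : (KRR.PY n T).Modules}

theorem locFree_push (h : Good G) :
    FlatMod.IsFinLocFree ((Scheme.Modules.pushforward (KRR.pr n T)).obj G) := by
  haveI : G.IsQuasicoherent := h.bpd.1.1
  exact ExchangeFP29.RegSheafBC.isFinLocFree_push G (ZarCoh.FP.isFP_of_isCoh G h.bpd.1) h.flat h.reg

theorem flat_kernel {S : ShortComplex (KRR.PY n T).Modules} (hS : S.ShortExact)
    (h₂ : FlatMod.IsFlatOver (KRR.pr n T) S.X₂) (h₃ : FlatMod.IsFlatOver (KRR.pr n T) S.X₃) :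
    FlatMod.IsFlatOver (KRR.pr n T) S.X₁ := fun x => by
  letI := FlatMod.moduleStalkOver (KRR.pr n T) S.X₁ x
  letI := FlatMod.moduleStalkOver (KRR.pr n T) S.X₂ x
  letI := FlatMod.moduleStalkOver (KRR.pr n T) S.X₃ x
  haveI : Module.Flat (T.presheaf.stalk ((KRR.pr n T).base x)) (S.X₂.presheaf.stalk x) := h₂ x
  haveI : Module.Flat (T.presheaf.stalk ((KRR.pr n T).base x)) (S.X₃.presheaf.stalk x) := h₃ x
  have hs := CurveBundle.Rank.stalk_exact hS x
  let f : S.X₁.presheaf.stalk x →ₗ[T.presheaf.stalk ((KRR.pr n T).base x)] S.X₂.presheaf.stalk x :=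
    { toFun := stalkMapₗ S.f x, map_add' := map_add _,
      map_smul' := fun r v => (stalkMapₗ S.f x).map_smul ((KRR.pr n T).stalkMap x r) v }
  let g : S.X₂.presheaf.stalk x →ₗ[T.presheaf.stalk ((KRR.pr n T).base x)] S.X₃.presheaf.stalk x :=
    { toFun := stalkMapₗ S.g x, map_add' := map_add _,
      map_smul' := fun r v => (stalkMapₗ S.g x).map_smul ((KRR.pr n T).stalkMap x r) v }
  exact FlatCx.Ker.flat_of_exact f g hs.1 hs.2.2 hs.2.1

theorem flat_tw (d : ℤ) (h : FlatMod.IsFlatOver (KRR.pr n T) G) :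
    FlatMod.IsFlatOver (KRR.pr n T) (tw d G) :=
  Exchange.FlatTwist.isFlatOver_twist (KRR.pr n T) (ExchangeFP29.ProjFibre.isInvertible_twistOver d) h

variable (hPe : KRR.HasEnoughLocFree (KRR.PY n T))

include hPe

theorem bpd_tw (d : ℤ) (h : BPD G) : BPD (tw d G) :=
  bpd_map hPe (H73.RegSeq.tb d) (fun _ hS => hS.map_of_exact _)
    (fun _ hE => bpd_of_locFree (B_tw d hE)) h

theorem seq_facts (h : Good G) : (Kernel.seq G).ShortExact ∧ B (Kernel.seq G).X₂ ∧
    BPD (Kernel.seq G).X₁ ∧ FlatMod.IsFlatOver (KRR.pr n T) (Kernel.seq G).X₁ := by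
  have hS := Kernel.shortExact_seq h.bpd.1.1 h.reg
  have h₂ : B (Kernel.seq G).X₂ :=
    TensorMod.LocFree.isFinLocFree_pullback (KRR.pr n T) (locFree_push h)
  exact ⟨hS, h₂, (hyp hPe).h1₁ _ hS (bpd_of_locFree h₂) h.bpd,
    flat_kernel hS (ExchangeFP29.KPush.Push.flat h₂) h.flat⟩

theorem good_iter (h : Good G) : ∀ i, Good (Resolution.iter G i)
  | 0 => h
  | i + 1 => by
    obtain ⟨-, -, hb, hf⟩ := seq_facts hPe (good_iter h i)
    refine ⟨bpd_of_iso (H73.RegSeq.twFIso 1 _).symm (bpd_tw hPe 1 hb), ?_,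
      (Resolution.good h.bpd.1.1 h.reg (i + 1)).2⟩
    exact fun x => Flat55.FlatOverAt.of_iso (KRR.pr n T) (H73.RegSeq.twFIso 1 _).symm x (flat_tw 1 hf x)

variable {KP KY : Type v} [CommRing KP] [LambdaRing.LambdaOps KP] [CommRing KY] [LambdaRing.LambdaOps KY]
  {PP : LambdaRing.PosStructure KP} {PY : LambdaRing.PosStructure KY}
  {φP : SGA6.Kvb (KRR.PY n T) →+ KP} {φY : SGA6.Kvb T →+ KY}

/-- `p_K` of the class of a good module is the class of its direct image. -/
theorem push_χcl (hKP : KRR.IsModel (KRR.PY n T) KP PP φP) (hKY : KRR.IsModel T KY PY φY)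
    {g : KP →+ KY} (hg : KRR.IsPushPr n T φP φY g) (h : Good G) :
    g (φP (χcl hPe G)) = φY (KRR.cl T ((Scheme.Modules.pushforward (KRR.pr n T)).obj G)) := by
  have step : ∀ i, i ≤ n → g (φP (χcl hPe (tw (-(i : ℤ)) (Resolution.iter G i)))) +
      g (φP (χcl hPe (tw (-((i + 1 : ℕ) : ℤ)) (Resolution.iter G (i + 1))))) =
      (((n - i).choose n : ℕ) : KY) *
        φY (KRR.cl T ((Scheme.Modules.pushforward (KRR.pr n T)).obj (Resolution.iter G i))) := by
    intro i hi
    obtain ⟨hS, h₂, h₁, -⟩ := seq_facts hPe (good_iter hPe h i)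
    have hS' : ((Kernel.seq (Resolution.iter G i)).map (H73.RegSeq.tb (-(i : ℤ)))).ShortExact :=
      hS.map_of_exact _
    have hrel := χcl_add hPe hS' (bpd_tw hPe _ h₁) (bpd_tw hPe _ (bpd_of_locFree h₂))
      (bpd_tw hPe _ (good_iter hPe h i).bpd)
    let e : tw (-((i + 1 : ℕ) : ℤ)) (Resolution.iter G (i + 1)) ≅
        tw (-(i : ℤ)) (Kernel.seq (Resolution.iter G i)).X₁ :=
      (H73.RegSeq.tb (-((i + 1 : ℕ) : ℤ))).mapIso (H73.RegSeq.twFIso 1 _) ≪≫
        H73.RegSeq.tbTb 1 _ _ (by push_cast; ring) _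
    rw [χcl_iso hPe e (bpd_tw hPe _ (good_iter hPe h (i + 1)).bpd)]
    change χcl hPe (tw (-(i : ℤ)) (Kernel.seq (Resolution.iter G i)).X₂) =
      χcl hPe (tw (-(i : ℤ)) (Kernel.seq (Resolution.iter G i)).X₁) +
        χcl hPe (tw (-(i : ℤ)) (Resolution.iter G i)) at hrel
    rw [χcl_locFree hPe (B_tw _ h₂)] at hrel
    rw [add_comm, ← map_add, ← map_add, ← hrel]
    exact push_tw_pullback hKP hKY hg hi (locFree_push (good_iter hPe h i))
  have hz : ∀ d i, i + d = n + 1 → 1 ≤ i →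
      g (φP (χcl hPe (tw (-(i : ℤ)) (Resolution.iter G i)))) = 0 := by
    intro d
    induction d with
    | zero =>
      intro i hi _
      have hz := (H73.RegSeq.tb (-(i : ℤ))).map_isZero
        (Resolution.isZero_iter h.bpd.1.1 h.reg i (by omega))
      have hB : B (tw (-(i : ℤ)) (Resolution.iter G i)) := KAugNil98.Main.isFinLocFree_isZero hz
      rw [χcl_locFree hPe hB, KAugNil98.Main.cl_isZero hz, map_zero, map_zero]
    | succ d ih =>
      intro i hi h1
      have hs := step i (by omega)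
      rw [ih (i + 1) (by omega) (by omega), add_zero, Nat.choose_eq_zero_of_lt (by omega),
        Nat.cast_zero, zero_mul] at hs
      exact hs
  have hs := step 0 (Nat.zero_le n)
  rw [hz n 1 (by omega) le_rfl, add_zero, Nat.sub_zero, Nat.choose_self, Nat.cast_one, one_mul] at hs
  obtain ⟨e⟩ := Kernel.tbZero (n := n) (T := T) G
  rwa [χcl_iso hPe (eqToIso (by norm_num [Resolution.iter]) ≪≫ e : tw (-((0 : ℕ) : ℤ)) (Resolution.iter G 0) ≅ G)
    (bpd_tw hPe _ h.bpd)] at hs

omit hPe in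
/-- A bundle on the image of a section is good. -/
theorem good_section (s : T ⟶ KRR.PY n T)
    (hs : s ≫ KRR.pr n T = 𝟙 T) (hreg : Mor2.IsRegularClosedImmersion s)
    {F : T.Modules} (hF : FlatMod.IsFinLocFree F) :
    Good ((Scheme.Modules.pushforward s).obj F) := by
  haveI := hreg.1
  refine ⟨PushBPD.bpd_push s hreg hF, ?_, fun i hi => ?_⟩
  · refine (HilbFib53.isFlatOver_push_iff s (KRR.pr n T) F).2 ?_
    rw [hs]
    exact _root_.ZarCoh.Exchange.NearFibre.isFlatOver_of_isFinLocFree (𝟙 T) hF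
  have hL : B (Twist.twistOver n T (-(i : ℤ))) :=
    TensorMod.LocFree.of_rank (TensorMod.LocFree.of_isInvertible (ExchangeFP29.ProjFibre.isInvertible_twistOver _))
  let e := (Modules.ProjFormula.projIso s (Modules.DualBasis.hasDBases_of_isFinLocFree hL)).app F
  have hM := TensorMod.LocFree.isFinLocFree_tensorMod (TensorMod.LocFree.isFinLocFree_pullback s hL) hF
  haveI := Modules.AffineSections.isQCoh_of_isFinLocFree hM
  refine H73.RegSeq.isZero_congr i e.symm ?_
  obtain ⟨e'⟩ := Groth.Agent.S4456.result s (KRR.pr n T)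
    (CohB1.tensorMod ((Scheme.Modules.pullback s).obj (Twist.twistOver n T (-(i : ℤ)))) F) i
  refine IsZero.of_iso ?_ e'
  obtain ⟨p, rfl⟩ : ∃ p, i = p + 1 := ⟨i - 1, by omega⟩
  rw [hs]
  refine ZarCoh.RpushVanish.isZero_RpushAb (𝟙 T : T ⟶ T).base T.isBasis_affineOpens p fun W hW => ?_
  exact ZarCoh.Affine.HU_subsingleton _ hW p

end

end Groth.Agent.Lib.KVec.PushGood
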