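import Groth.Agent.Lib.KVec.PushGood
import Groth.Agent.Lib.KVec.MeetRegularly
import Groth.Agent.Lib.ProjConn.Basic
import Groth.Agent.S3765
import Groth.Agent.S3796

/-!
# Independence of the push-forward of the chosen factorisation
-/

set_option autoImplicit false
set_option linter.style.haveILetI false
set_option linter.unusedSectionVars false
universe v u

open CategoryTheory CategoryTheory.Limits AlgebraicGeometry

namespace Groth.Agent.Lib.KVec.PushIndep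

open Groth.Agent Groth.Agent.Lib KVec.PushCl ExchangeFP29.KPush ExchangeFP29.KPush.Reg H70.KRRReg
open Groth.Agent.Lib.Regular.PD Groth.Agent.Lib.Devissage.LocFreeK0
open Groth.Agent.Lib.Devissage.ResolvableK0 Groth.Agent.Lib.KRes.Dim Groth.Agent.Lib.KVec.PushPnBC
open ExchangeFP29.RegSheafBC

noncomputable section

/-- The raw push-forward along `P^n_T ⟶ T` on `K₀` of bundles. -/
def IsPr (n : ℕ) (T : Scheme.{u}) (b : SGA6.Kvb (KRR.PY n T) →+ SGA6.Kvb T) : Prop :=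
  ∀ F : (KRR.PY n T).Modules, FlatMod.IsFinLocFree F → KRR.IsRegSheaf n T F →
    b (KRR.cl _ F) = KRR.cl T ((Scheme.Modules.pushforward (KRR.pr n T)).obj F)

variable {n : ℕ} {T : Scheme.{u}} [IsNoetherian T]

theorem connected_PY (n : ℕ) (T : Scheme.{u}) [ConnectedSpace ↥T] [Nonempty ↥(KRR.PY n T)] :
    ConnectedSpace ↥(KRR.PY n T) := by
  haveI : PreconnectedSpace ↥(KRR.PY n T) := ProjConn.preconnectedSpace n T
  exact { toNonempty := inferInstance }

section Raw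

variable [ConnectedSpace ↥T] [Nonempty ↥(KRR.PY n T)]

theorem exists_isPr : ∃ b, IsPr n T b := by
  haveI := connected_PY n T
  obtain ⟨KP, _, _, PP, φP, hKP⟩ := Groth.Agent.S3796.result (KRR.PY n T)
  obtain ⟨KY, _, _, PY, φY, hKY⟩ := Groth.Agent.S3796.result T
  obtain ⟨g, hg, -⟩ := Push.existsUnique_isPushPr φP hKP.bijective φY
  let e := AddEquiv.ofBijective φY hKY.bijective
  refine ⟨e.symm.toAddMonoidHom.comp (g.comp φP), fun F hF hR => ?_⟩
  show e.symm (g (φP (KRR.cl _ F))) = _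
  rw [hg F hF hR]
  exact e.symm_apply_apply _

theorem isPr_tw {b : SGA6.Kvb (KRR.PY n T) →+ SGA6.Kvb T} (hb : IsPr n T b) {i : ℕ} (hi : i ≤ n)
    {E : T.Modules} (hE : FlatMod.IsFinLocFree E) :
    b (KRR.cl _ (tw (-(i : ℤ)) ((Scheme.Modules.pullback (KRR.pr n T)).obj E))) =
      (n - i).choose n • KRR.cl T E := by
  haveI := connected_PY n T
  obtain ⟨KP, _, _, PP, φP, hKP⟩ := Groth.Agent.S3796.result (KRR.PY n T)
  obtain ⟨KY, _, _, PY, φY, hKY⟩ := Groth.Agent.S3796.result T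
  let e := AddEquiv.ofBijective φP hKP.bijective
  let g : KP →+ KY := φY.comp (b.comp e.symm.toAddMonoidHom)
  have hev : ∀ z, g (φP z) = φY (b z) := fun z => congrArg (fun t => φY (b t)) (e.symm_apply_apply z)
  have hg : KRR.IsPushPr n T φP φY g := fun F hF hR => by rw [hev, hb F hF hR]
  apply hKY.bijective.1
  rw [← hev, push_tw_pullback hKP hKY hg hi hE, map_nsmul, nsmul_eq_mul]

end Raw

section Factor

variable {m : ℕ} {X Y : Scheme.{u}} [IsNoetherian Y] [ConnectedSpace ↥Y] [ConnectedSpace ↥X]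
  (i₁ : X ⟶ KRR.PY n Y) (i₂ : X ⟶ KRR.PY m Y) (hw : i₁ ≫ KRR.pr n Y = i₂ ≫ KRR.pr m Y)

/-- The diagonal `X ⟶ P^n × P^m`. -/
def diag : X ⟶ KRR.PY n (KRR.PY m Y) := (isPullback (n := n) (KRR.pr m Y)).lift i₁ i₂ hw

theorem diag_fst : diag i₁ i₂ hw ≫ KRR.projSpaceMap n (KRR.pr m Y) = i₁ := IsPullback.lift_fst _ _ _ _

theorem diag_snd : diag i₁ i₂ hw ≫ KRR.pr n (KRR.PY m Y) = i₂ := IsPullback.lift_snd _ _ _ _

theorem diag_eq (σ : X ⟶ KRR.PY n X) (hσ₁ : σ ≫ KRR.projSpaceMap n (i₂ ≫ KRR.pr m Y) = i₁)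
    (hσ : σ ≫ KRR.pr n X = 𝟙 X) : σ ≫ KRR.projSpaceMap n i₂ = diag i₁ i₂ hw := by
  apply (isPullback (n := n) (KRR.pr m Y)).hom_ext
  · rw [diag_fst]
    refine Eq.trans ?_ hσ₁
    rw [Category.assoc]
    congr 1
    simp only [projSpaceMap_eq]
    apply pullback.hom_ext
    · refine (Category.assoc _ _ _).trans ?_
      exact ((congrArg (_ ≫ ·) (ProjSpace.BaseChange.overMap_fst n (KRR.pr m Y))).trans
        (ProjSpace.BaseChange.overMap_fst n i₂)).trans (ProjSpace.BaseChange.overMap_fst n (i₂ ≫ KRR.pr m Y)).symm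
    · refine (Category.assoc _ _ _).trans ?_
      refine ((congrArg (_ ≫ ·) (ProjSpace.BaseChange.overMap_toBase n (KRR.pr m Y))).trans
        (ProjSpace.BaseChange.overMap_toBase_assoc n i₂ _)).trans ?_
      exact (ProjSpace.BaseChange.overMap_toBase n (i₂ ≫ KRR.pr m Y)).symm
  · rw [diag_snd, Category.assoc, (isPullback (n := n) i₂).w, reassoc_of% hσ]

/-- The push-forward of a second factor through the diagonal. -/
theorem factor (hPe : KRR.HasEnoughLocFree (KRR.PY m Y)) (hQe : KRR.HasEnoughLocFree (KRR.PY n (KRR.PY m Y)))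
    (h₂ : Mor2.IsRegularClosedImmersion i₂)
    {F : X.Modules} (hF : FlatMod.IsFinLocFree F) :
    BPD ((Scheme.Modules.pushforward (diag i₁ i₂ hw)).obj F) ∧
      ∀ b, IsPr n (KRR.PY m Y) b →
        b (χcl hQe ((Scheme.Modules.pushforward (diag i₁ i₂ hw)).obj F)) =
          χcl hPe ((Scheme.Modules.pushforward i₂).obj F) := by
  haveI := h₂.1
  haveI : IsNoetherian X := MeetRegularly.isNoetherian_closed i₂
  have hj := isRegularClosedImmersion_projSpaceMap (n := n) i₂ h₂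
  haveI := hj.1
  have hXe : KRR.HasEnoughLocFree (KRR.PY n X) :=
    MeetRegularly.hasEnoughLocFree_closed (KRR.projSpaceMap n i₂) hQe
  haveI : Nonempty ↥X := ConnectedSpace.toNonempty
  haveI : Nonempty ↥(KRR.PY m Y) := ⟨i₂.base (Classical.arbitrary X)⟩
  haveI := connected_PY m Y
  let σ : X ⟶ KRR.PY n X := (isPullback (n := n) (i₂ ≫ KRR.pr m Y)).lift i₁ (𝟙 X) (by simp [hw])
  have hσ : σ ≫ KRR.pr n X = 𝟙 X := IsPullback.lift_snd _ _ _ _
  have hσj : σ ≫ KRR.projSpaceMap n i₂ = diag i₁ i₂ hw :=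
    diag_eq i₁ i₂ hw σ (IsPullback.lift_fst _ _ _ _) hσ
  haveI : Nonempty ↥(KRR.PY n X) := ⟨σ.base (Classical.arbitrary X)⟩
  haveI : Nonempty ↥(KRR.PY n (KRR.PY m Y)) := ⟨(diag i₁ i₂ hw).base (Classical.arbitrary X)⟩
  haveI := connected_PY n X
  haveI := connected_PY n (KRR.PY m Y)
  obtain ⟨KX, _, _, PX, φX, hKX⟩ := Groth.Agent.S3796.result X
  obtain ⟨KP, _, _, PP, φP, hKP⟩ := Groth.Agent.S3796.result (KRR.PY n X)
  obtain ⟨KM, _, _, PM, φM, hKM⟩ := Groth.Agent.S3796.result (KRR.PY m Y)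
  obtain ⟨KQ, _, _, PQ, φQ, hKQ⟩ := Groth.Agent.S3796.result (KRR.PY n (KRR.PY m Y))
  haveI : Smooth (KRR.pr n X) := ProjSpace.BaseChange.smooth_toBase n X
  haveI : IsClosedImmersion (σ ≫ KRR.pr n X) := by rw [hσ]; infer_instance
  haveI : IsClosedImmersion σ := IsClosedImmersion.of_comp σ (KRR.pr n X)
  have hreg := Groth.Agent.S1676.result (KRR.pr n X) σ hσ
  obtain ⟨a, ha, -⟩ := existsUnique_pushCl hPe i₂ (φY := φM) h₂ hKX.bijective
  obtain ⟨s, hs, -⟩ := existsUnique_pushCl hXe σ (φY := φP) hreg hKX.bijective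
  obtain ⟨j, hjc, -⟩ := existsUnique_pushCl hQe (KRR.projSpaceMap n i₂) (φY := φQ) hj hKP.bijective
  obtain ⟨gX, hgX, -⟩ := Push.existsUnique_isPushPr φP hKP.bijective φX
  let e := (Scheme.Modules.pushforwardComp σ (KRR.projSpaceMap n i₂) ≪≫
    Scheme.Modules.pushforwardCongr hσj).app F
  have hsF := PushBPD.bpd_push σ hreg hF
  have hjsF := bpd_pushforward hXe (KRR.projSpaceMap n i₂) hj hsF
  refine ⟨bpd_of_iso e hjsF, fun b hb => ?_⟩
  let eQ := AddEquiv.ofBijective φQ hKQ.bijective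
  let g : KQ →+ KM := φM.comp (b.comp eQ.symm.toAddMonoidHom)
  have hev : ∀ z, g (φQ z) = φM (b z) := fun z => congrArg (fun t => φM (b t)) (eQ.symm_apply_apply z)
  have hg : KRR.IsPushPr n (KRR.PY m Y) φQ φM g := fun G hG hR => by rw [hev, hb G hG hR]
  have hsec := (Groth.Agent.S3765.result n X hXe σ hσ KP PP φP hKP KX PX φX hKX s hs gX hgX).2
  have hbc := pushCl_pushPr i₂ h₂ hPe hQe hKX hKM hKP hKQ ha hjc hgX hg
  have hjχ : ∀ {G : (KRR.PY n X).Modules}, BPD G →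
      j (φP (χcl hXe G)) = φQ (χcl hQe ((Scheme.Modules.pushforward (KRR.projSpaceMap n i₂)).obj G)) := by
    intro G hG
    refine χcl_eq_of_locFree hXe (fun G => j (φP (χcl hXe G)))
      (fun G => φQ (χcl hQe ((Scheme.Modules.pushforward (KRR.projSpaceMap n i₂)).obj G))) ?_ ?_ ?_ hG
    · intro S hS h₁ h₂ h₃
      rw [χcl_add hXe hS h₁ h₂ h₃, map_add, map_add]
    · intro S hS h₁ h₂ h₃
      exact (congrArg φQ (χcl_add hQe (shortExact_push _ hS) (bpd_pushforward hXe _ hj h₁)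
        (bpd_pushforward hXe _ hj h₂) (bpd_pushforward hXe _ hj h₃))).trans (map_add φQ _ _)
    · intro E hE
      rw [χcl_locFree hXe hE]
      exact pushCl_apply hQe _ hjc hE (PushBPD.bpd_push _ hj hE)
  apply hKM.bijective.1
  have h1 := DFunLike.congr_fun hsec (φX (KRR.cl X F))
  rw [AddMonoidHom.comp_apply, AddMonoidHom.id_apply] at h1
  have h2 := DFunLike.congr_fun hbc (s (φX (KRR.cl X F)))
  rw [AddMonoidHom.comp_apply, AddMonoidHom.comp_apply, h1,
    pushCl_apply hPe i₂ ha hF (PushBPD.bpd_push i₂ h₂ hF), pushCl_apply hXe σ hs hF hsF,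
    hjχ hsF] at h2
  rw [← hev, ← χcl_iso hQe e hjsF]
  exact h2.symm

end Factor

section Swap

variable (n) (m : ℕ) (Y : Scheme.{u})

/-- The exchange of the factors of `P^n × P^m`. -/
def swap : KRR.PY m (KRR.PY n Y) ⟶ KRR.PY n (KRR.PY m Y) :=
  (isPullback (n := n) (KRR.pr m Y)).lift (KRR.pr m (KRR.PY n Y)) (KRR.projSpaceMap m (KRR.pr n Y))
    (isPullback (n := m) (KRR.pr n Y)).w.symm

theorem swap_fst : swap n m Y ≫ KRR.projSpaceMap n (KRR.pr m Y) = KRR.pr m (KRR.PY n Y) :=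
  IsPullback.lift_fst _ _ _ _

theorem swap_snd : swap n m Y ≫ KRR.pr n (KRR.PY m Y) = KRR.projSpaceMap m (KRR.pr n Y) :=
  IsPullback.lift_snd _ _ _ _

instance isIso_swap : IsIso (swap n m Y) := by
  refine ⟨swap m n Y, ?_, ?_⟩
  · apply (isPullback (n := m) (KRR.pr n Y)).hom_ext
    · rw [Category.assoc, swap_fst, swap_snd, Category.id_comp]
    · rw [Category.assoc, swap_snd, swap_fst, Category.id_comp]
  · apply (isPullback (n := n) (KRR.pr m Y)).hom_ext
    · rw [Category.assoc, swap_fst, swap_snd, Category.id_comp]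
    · rw [Category.assoc, swap_snd, swap_fst, Category.id_comp]

theorem nonempty_twist_pullback {S S' : Scheme.{u}} (k : ℕ) (φ : S' ⟶ S) (d : ℤ) :
    Nonempty ((Scheme.Modules.pullback (KRR.projSpaceMap k φ)).obj (Twist.twistOver k S d) ≅
      Twist.twistOver k S' d) :=
  ⟨(Scheme.Modules.pullbackComp _ _).app _ ≪≫ (Scheme.Modules.pullbackCongr
    (by rw [projSpaceMap_eq (n := k) φ]; exact ProjSpace.BaseChange.overMap_fst k φ)).app _⟩

theorem nonempty_swap_iso (c d : ℤ) (W : Y.Modules) :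
    Nonempty ((Scheme.Modules.pullback (swap n m Y)).obj
        (tw c ((Scheme.Modules.pullback (KRR.pr n (KRR.PY m Y))).obj
          (tw d ((Scheme.Modules.pullback (KRR.pr m Y)).obj W)))) ≅
      tw d ((Scheme.Modules.pullback (KRR.pr m (KRR.PY n Y))).obj
        (tw c ((Scheme.Modules.pullback (KRR.pr n Y)).obj W)))) := by
  obtain ⟨e₁⟩ := nonempty_twist_pullback n (KRR.pr m Y) c
  obtain ⟨e₂⟩ := nonempty_twist_pullback m (KRR.pr n Y) d
  let θ := swap n m Y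
  let p := KRR.pr m (KRR.PY n Y)
  let q := KRR.projSpaceMap m (KRR.pr n Y)
  let a : (Scheme.Modules.pullback θ).obj (Twist.twistOver n (KRR.PY m Y) c) ≅
      (Scheme.Modules.pullback p).obj (Twist.twistOver n Y c) :=
    (Scheme.Modules.pullback θ).mapIso e₁.symm ≪≫ (Scheme.Modules.pullbackComp _ _).app _ ≪≫
      (Scheme.Modules.pullbackCongr (swap_fst n m Y)).app _
  let w : (Scheme.Modules.pullback q).obj ((Scheme.Modules.pullback (KRR.pr m Y)).obj W) ≅
      (Scheme.Modules.pullback p).obj ((Scheme.Modules.pullback (KRR.pr n Y)).obj W) :=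
    (Scheme.Modules.pullbackComp _ _).app _ ≪≫
      (Scheme.Modules.pullbackCongr (isPullback (n := m) (KRR.pr n Y)).w).app _ ≪≫
        ((Scheme.Modules.pullbackComp _ _).app _).symm
  let b : (Scheme.Modules.pullback θ).obj ((Scheme.Modules.pullback (KRR.pr n (KRR.PY m Y))).obj
        (tw d ((Scheme.Modules.pullback (KRR.pr m Y)).obj W))) ≅
      CohB1.tensorMod ((Scheme.Modules.pullback p).obj ((Scheme.Modules.pullback (KRR.pr n Y)).obj W))
        (Twist.twistOver m (KRR.PY n Y) d) :=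
    (Scheme.Modules.pullbackComp _ _).app _ ≪≫ (Scheme.Modules.pullbackCongr (swap_snd n m Y)).app _ ≪≫
      TensorMod.Pullback.pullbackTensorIso _ _ _ ≪≫ TensorMod.Basic.tensorIso w e₂
  exact ⟨TensorMod.Pullback.pullbackTensorIso _ _ _ ≪≫ TensorMod.Basic.tensorIso b a ≪≫
    TensorMod.Basic.assoc _ _ _ ≪≫ TensorMod.Basic.tensorIso (Iso.refl _) (TensorMod.Basic.comm _ _) ≪≫
    (TensorMod.Basic.assoc _ _ _).symm ≪≫
    TensorMod.Basic.tensorIso (TensorMod.Pullback.pullbackTensorIso _ _ _).symm (Iso.refl _)⟩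

end Swap

section SwapPush

variable {m : ℕ} {Y : Scheme.{u}} [IsNoetherian Y] [ConnectedSpace ↥Y]
  [Nonempty ↥(KRR.PY n Y)] [Nonempty ↥(KRR.PY m Y)]
  [Nonempty ↥(KRR.PY n (KRR.PY m Y))] [Nonempty ↥(KRR.PY m (KRR.PY n Y))]

theorem bpd_swap_pullback (hnm : KRR.HasEnoughLocFree (KRR.PY n (KRR.PY m Y)))
    {G : (KRR.PY n (KRR.PY m Y)).Modules} (hG : BPD G) :
    BPD ((Scheme.Modules.pullback (swap n m Y)).obj G) := by
  let θ := swap n m Y
  haveI := CohDelta.BC.Flat.preservesFiniteLimits_pullback θ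
  haveI : PreservesColimitsOfSize.{u, u} (Scheme.Modules.pullback θ) :=
    (Scheme.Modules.pullbackPushforwardAdjunction θ).leftAdjoint_preservesColimits
  haveI : PreservesFiniteColimits (Scheme.Modules.pullback θ) :=
    PreservesColimitsOfSize.preservesFiniteColimits _
  have hθ : ∀ S : ShortComplex (KRR.PY n (KRR.PY m Y)).Modules, S.ShortExact →
      (S.map (Scheme.Modules.pullback θ)).ShortExact := fun S hS => hS.map_of_exact _
  have hθ0 : ∀ E : (KRR.PY n (KRR.PY m Y)).Modules, FlatMod.IsFinLocFree E →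
      BPD ((Scheme.Modules.pullback θ).obj E) := fun E hE =>
    bpd_of_locFree (TensorMod.LocFree.isFinLocFree_pullback _ hE)
  exact bpd_map hnm _ hθ hθ0 hG

/-- The double push-forward does not depend on the order of the factors. -/
theorem swap_push (hnm : KRR.HasEnoughLocFree (KRR.PY n (KRR.PY m Y))) (hmn : KRR.HasEnoughLocFree (KRR.PY m (KRR.PY n Y)))
    {B₁ : SGA6.Kvb (KRR.PY n Y) →+ SGA6.Kvb Y} (hB₁ : IsPr n Y B₁)
    {B₂ : SGA6.Kvb (KRR.PY m Y) →+ SGA6.Kvb Y} (hB₂ : IsPr m Y B₂)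
    {C₁ : SGA6.Kvb (KRR.PY m (KRR.PY n Y)) →+ SGA6.Kvb (KRR.PY n Y)} (hC₁ : IsPr m (KRR.PY n Y) C₁)
    {C₂ : SGA6.Kvb (KRR.PY n (KRR.PY m Y)) →+ SGA6.Kvb (KRR.PY m Y)} (hC₂ : IsPr n (KRR.PY m Y) C₂)
    {G : (KRR.PY n (KRR.PY m Y)).Modules} (hG : BPD G) :
    B₁ (C₁ (χcl hmn ((Scheme.Modules.pullback (swap n m Y)).obj G))) = B₂ (C₂ (χcl hnm G)) := by
  haveI := connected_PY m Y
  haveI := connected_PY n Y
  let θ := swap n m Y
  obtain ⟨Θ, hΘ⟩ := KVec.Pull.exists_pull θ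
  -- the two composites agree on `K₀` of bundles
  have hgen : (B₁.comp C₁).comp Θ = B₂.comp C₂ := by
    refine PnGen.hom_ext fun i hi V hV => ?_
    have hex : ∀ S : ShortComplex (KRR.PY m Y).Modules, S.ShortExact → FlatMod.IsFinLocFree S.X₃ →
        ((S.map (Scheme.Modules.pullback (KRR.pr n (KRR.PY m Y)))).map (H73.RegSeq.tb (-(i : ℤ)))).ShortExact :=
      fun S hS h₃ => (KVec.Pull.shortExact_pullback _ hS h₃).map_of_exact _
    let L : SGA6.Kvb (KRR.PY m Y) →+ SGA6.Kvb (KRR.PY n (KRR.PY m Y)) :=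
      KRes.KSub.lift (fun V => KRR.cl _ (tw (-(i : ℤ)) ((Scheme.Modules.pullback (KRR.pr n (KRR.PY m Y))).obj V)))
        fun S hS h₁ h₂ h₃ => KRes.KSub.rel (P := KRR.vbP _) (hex S hS h₃)
          (B_tw _ (TensorMod.LocFree.isFinLocFree_pullback _ h₁))
          (B_tw _ (TensorMod.LocFree.isFinLocFree_pullback _ h₂))
          (B_tw _ (TensorMod.LocFree.isFinLocFree_pullback _ h₃))
    have hL : ∀ V, FlatMod.IsFinLocFree V → L (KRR.cl _ V) =
        KRR.cl _ (tw (-(i : ℤ)) ((Scheme.Modules.pullback (KRR.pr n (KRR.PY m Y))).obj V)) :=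
      fun V hV => KRes.KSub.lift_cl _ _ hV
    have key : ((B₁.comp C₁).comp Θ).comp L = (B₂.comp C₂).comp L := PnGen.hom_ext fun j hj W hW => by
      have hWm := B_tw (-(j : ℤ)) (TensorMod.LocFree.isFinLocFree_pullback (KRR.pr m Y) hW)
      have hWn := B_tw (-(i : ℤ)) (TensorMod.LocFree.isFinLocFree_pullback (KRR.pr n Y) hW)
      have hbig := B_tw (-(i : ℤ)) (TensorMod.LocFree.isFinLocFree_pullback (KRR.pr n (KRR.PY m Y)) hWm)
      obtain ⟨e⟩ := nonempty_swap_iso n m Y (-(i : ℤ)) (-(j : ℤ)) W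
      simp only [AddMonoidHom.comp_apply]
      rw [hL _ hWm, isPr_tw hC₂ hi hWm, map_nsmul, isPr_tw hB₂ hj hW]
      refine (congrArg (fun z => B₁ (C₁ z)) ((hΘ _ hbig).trans
        (KAugNil98.Main.cl_iso e (TensorMod.LocFree.isFinLocFree_pullback _ hbig)))).trans ?_
      show B₁ (C₁ _) = _
      rw [isPr_tw hC₁ hj hWn, map_nsmul, isPr_tw hB₁ hi hW, smul_comm]
    have h := DFunLike.congr_fun key (KRR.cl _ V)
    rwa [AddMonoidHom.comp_apply, AddMonoidHom.comp_apply (f := L), hL V hV] at h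
  haveI := CohDelta.BC.Flat.preservesFiniteLimits_pullback θ
  haveI : PreservesColimitsOfSize.{u, u} (Scheme.Modules.pullback θ) :=
    (Scheme.Modules.pullbackPushforwardAdjunction θ).leftAdjoint_preservesColimits
  haveI : PreservesFiniteColimits (Scheme.Modules.pullback θ) :=
    PreservesColimitsOfSize.preservesFiniteColimits _
  have hθ : ∀ S : ShortComplex (KRR.PY n (KRR.PY m Y)).Modules, S.ShortExact →
      (S.map (Scheme.Modules.pullback θ)).ShortExact := fun S hS => hS.map_of_exact _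
  have hθ0 : ∀ E : (KRR.PY n (KRR.PY m Y)).Modules, FlatMod.IsFinLocFree E →
      BPD ((Scheme.Modules.pullback θ).obj E) := fun E hE =>
    bpd_of_locFree (TensorMod.LocFree.isFinLocFree_pullback _ hE)
  refine χcl_eq_of_locFree hnm (fun G => B₁ (C₁ (χcl hmn ((Scheme.Modules.pullback θ).obj G))))
    (fun G => B₂ (C₂ (χcl hnm G))) ?_ ?_ ?_ hG
  · intro S hS h₁ h₂ h₃
    rw [show χcl hmn ((Scheme.Modules.pullback θ).obj S.X₂) = χcl hmn ((Scheme.Modules.pullback θ).obj S.X₁) +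
        χcl hmn ((Scheme.Modules.pullback θ).obj S.X₃) from
      χcl_add hmn (hθ S hS) (bpd_map hnm _ hθ hθ0 h₁) (bpd_map hnm _ hθ hθ0 h₂) (bpd_map hnm _ hθ hθ0 h₃),
      map_add, map_add]
  · intro S hS h₁ h₂ h₃
    rw [χcl_add hnm hS h₁ h₂ h₃, map_add, map_add]
  · intro E hE
    rw [χcl_locFree hmn (TensorMod.LocFree.isFinLocFree_pullback _ hE), χcl_locFree hnm hE]
    have := DFunLike.congr_fun hgen (KRR.cl _ E)
    rw [AddMonoidHom.comp_apply] at this
    erw [hΘ E hE] at this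
    exact this

end SwapPush

section DiagSwap

variable {m : ℕ} {X Y : Scheme.{u}} [IsNoetherian Y] [ConnectedSpace ↥Y] [ConnectedSpace ↥X]
  (i₁ : X ⟶ KRR.PY n Y) (i₂ : X ⟶ KRR.PY m Y)
  (hw : i₁ ≫ KRR.pr n Y = i₂ ≫ KRR.pr m Y)

theorem isPullback_diag : IsPullback (𝟙 X) (diag i₂ i₁ hw.symm) (diag i₁ i₂ hw) (swap n m Y) := by
  refine IsPullback.of_horiz_isIso ⟨?_⟩
  rw [Category.id_comp]
  apply (isPullback (n := n) (KRR.pr m Y)).hom_ext
  · rw [Category.assoc, swap_fst, diag_snd, diag_fst]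
  · rw [Category.assoc, swap_snd, diag_fst, diag_snd]

theorem isClosedImmersion_diag [IsClosedImmersion i₂] : IsClosedImmersion (diag i₁ i₂ hw) := by
  haveI : IsClosedImmersion (diag i₁ i₂ hw ≫ KRR.pr n (KRR.PY m Y)) := by rw [diag_snd]; infer_instance
  exact IsClosedImmersion.of_comp _ (KRR.pr n (KRR.PY m Y))

theorem nonempty_diag_bc [IsClosedImmersion i₂] {F : X.Modules} (hF : FlatMod.IsFinLocFree F) :
    Nonempty ((Scheme.Modules.pullback (swap n m Y)).obj ((Scheme.Modules.pushforward (diag i₁ i₂ hw)).obj F) ≅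
      (Scheme.Modules.pushforward (diag i₂ i₁ hw.symm)).obj F) := by
  haveI := isClosedImmersion_diag i₁ i₂ hw
  haveI := Modules.AffineSections.isQCoh_of_isFinLocFree hF
  have hpb := isPullback_diag i₁ i₂ hw
  haveI := ZarCoh.AffineBC.isIso_bc hpb F
  exact ⟨asIso (ZarCoh.AffineBC.bc hpb F) ≪≫
    (Scheme.Modules.pushforward (diag i₂ i₁ hw.symm)).mapIso ((Scheme.Modules.pullbackId X).app F)⟩

end DiagSwap

section Main

variable {m : ℕ} {X Y : Scheme.{u}} [IsNoetherian Y] [ConnectedSpace ↥Y] [ConnectedSpace ↥X]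
  (i₁ : X ⟶ KRR.PY n Y) (i₂ : X ⟶ KRR.PY m Y) (hw : i₁ ≫ KRR.pr n Y = i₂ ≫ KRR.pr m Y)

include hw in
/-- The two push-forwards of a factorised morphism agree. -/
theorem indep (hne : KRR.HasEnoughLocFree (KRR.PY n Y)) (hme : KRR.HasEnoughLocFree (KRR.PY m Y))
    (hnm : KRR.HasEnoughLocFree (KRR.PY n (KRR.PY m Y))) (hmn : KRR.HasEnoughLocFree (KRR.PY m (KRR.PY n Y)))
    (h₁ : Mor2.IsRegularClosedImmersion i₁) (h₂ : Mor2.IsRegularClosedImmersion i₂)
    {B₁ : SGA6.Kvb (KRR.PY n Y) →+ SGA6.Kvb Y} (hB₁ : IsPr n Y B₁)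
    {B₂ : SGA6.Kvb (KRR.PY m Y) →+ SGA6.Kvb Y} (hB₂ : IsPr m Y B₂)
    {F : X.Modules} (hF : FlatMod.IsFinLocFree F) :
    B₁ (χcl hne ((Scheme.Modules.pushforward i₁).obj F)) =
      B₂ (χcl hme ((Scheme.Modules.pushforward i₂).obj F)) := by
  haveI : Nonempty ↥X := ConnectedSpace.toNonempty
  haveI : Nonempty ↥(KRR.PY m Y) := ⟨i₂.base (Classical.arbitrary X)⟩
  haveI : Nonempty ↥(KRR.PY n Y) := ⟨i₁.base (Classical.arbitrary X)⟩
  haveI : Nonempty ↥(KRR.PY m (KRR.PY n Y)) := ⟨(diag i₂ i₁ hw.symm).base (Classical.arbitrary X)⟩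
  haveI : Nonempty ↥(KRR.PY n (KRR.PY m Y)) := ⟨(diag i₁ i₂ hw).base (Classical.arbitrary X)⟩
  haveI := connected_PY m Y
  haveI := connected_PY n Y
  obtain ⟨C₁, hC₁⟩ := exists_isPr (n := m) (T := KRR.PY n Y)
  obtain ⟨C₂, hC₂⟩ := exists_isPr (n := n) (T := KRR.PY m Y)
  obtain ⟨hb₁, hf₁⟩ := factor i₂ i₁ hw.symm hne hmn h₁ hF
  obtain ⟨hb₂, hf₂⟩ := factor i₁ i₂ hw hme hnm h₂ hF
  rw [← hf₁ C₁ hC₁, ← hf₂ C₂ hC₂]
  haveI := h₂.1
  obtain ⟨e⟩ := nonempty_diag_bc i₁ i₂ hw hF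
  rw [← χcl_iso hmn e (bpd_swap_pullback hnm hb₂)]
  exact swap_push hnm hmn hB₁ hB₂ hC₁ hC₂ hb₂

end Main

end

end Groth.Agent.Lib.KVec.PushIndep
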