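import Groth.Agent.Lib.KVec.RelShift
import Groth.Prelude.Def_KDet
import Groth.Agent.Lib.KAugNil98.Main
import Groth.Agent.Lib.Ample.RelAmple
import Groth.Agent.Lib.Modules.SupportOps
import Groth.Agent.S4418

/-!
# Acyclic bundles generate
-/

set_option autoImplicit false
set_option linter.style.haveILetI false
set_option linter.unusedSectionVars false
universe v u

open CategoryTheory CategoryTheory.Limits AlgebraicGeometry

namespace Groth.Agent.Lib.KVec.RelGen

open Groth.Agent Groth.Agent.Lib Groth.Agent.Lib.KVec.RelResolve Groth.Agent.Lib.KVec.RelShift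

noncomputable section

/-- The standing hypotheses: `F` flat and coherent, supports of relative dimension at most `d`. -/
structure Setup {X Y : Scheme.{u}} (π : X ⟶ Y) (F : X.Modules) (d : ℕ) : Prop where
  proj : RelProj.IsProjective π
  coh : Coh.IsCoh F
  flat : FlatMod.IsFlatOver π F
  dim : ∀ y : Y, topologicalKrullDim ↥(CohB1.support F ∩ π.base ⁻¹' {y}) ≤ d
  hAB : Flat π ∨ ∃ H : Y.Modules, CohB1.IsAmple H

variable {X Y : Scheme.{u}} [IsNoetherian X] [IsNoetherian Y] {π : X ⟶ Y} [HasInjectiveResolutions X.Modules]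
  {F : X.Modules} {d : ℕ}

theorem isZero_above (hs : Setup π F d) {E : X.Modules} (hE : FlatMod.IsFinLocFree E) {p : ℕ} (hp : d < p) :
    IsZero ((Coh.Rpush π p).obj (CohB1.tensorMod F E)) := by
  haveI : IsProper π := (Groth.Agent.S4418.result π hs.proj).2
  refine RelVanish.isZero_Rpush π (isCoh_tensor hs.coh hE) d (fun y => ?_) hp
  haveI : SheafOfModules.IsFiniteType (R := X.ringCatSheaf) F := hs.coh.2
  have hsub : CohB1.support (CohB1.tensorMod F E) ∩ π.base ⁻¹' {y} ⊆ CohB1.support F ∩ π.base ⁻¹' {y} := by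
    rintro x ⟨hx, hxy⟩
    haveI : SheafOfModules.IsFiniteType (R := X.ringCatSheaf) E := (Perfect.Coherent.isCoh_of_isFinLocFree hE).2
    rw [Modules.SupportOps.support_tensorMod] at hx
    exact ⟨hx.1, hxy⟩
  exact le_trans (Topology.IsInducing.topologicalKrullDim_le (Topology.IsEmbedding.inclusion hsub).isInducing) (hs.dim y)

/-- Bundles are built from acyclic ones in `d` steps. -/
theorem induction (hs : Setup π F d) {Q : ℕ → X.Modules → Prop}
    (h0 : ∀ E, FlatMod.IsFinLocFree E → Acyc π F E → Q 0 E)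
    (h1 : ∀ (k : ℕ) (S : ShortComplex X.Modules) (E : X.Modules), S.ShortExact → Nonempty (S.X₁ ≅ E) →
      FlatMod.IsFinLocFree E → FlatMod.IsFinLocFree S.X₁ → FlatMod.IsFinLocFree S.X₂ →
      FlatMod.IsFinLocFree S.X₃ → Acyc π F S.X₂ → Q k S.X₃ → Q (k + 1) E)
    {E : X.Modules} (hE : FlatMod.IsFinLocFree E) : Q d E := by
  haveI : IsProper π := (Groth.Agent.S4418.result π hs.proj).2
  obtain ⟨-, -, L, hLamp⟩ := (Groth.Agent.S4418.result π hs.proj).1
  have hL : PicF.IsInvertible L := Ample.RelAmple.isInvertible_of_isRelAmple hLamp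
  suffices key : ∀ k (E : X.Modules), FlatMod.IsFinLocFree E →
      (∀ p, k < p → IsZero ((Coh.Rpush π p).obj (CohB1.tensorMod F E))) → Q k E from
    key d E hE fun p hp => isZero_above hs hE hp
  intro k
  induction k with
  | zero => exact fun E hE h => h0 E hE (acyc_of_vanish π hs.coh hs.flat hE h)
  | succ k ih =>
    intro E hE h
    obtain ⟨S, hS, ⟨e⟩, hS₁, hS₂, hS₃, hA⟩ := step π hL hLamp hs.hAB hs.coh hs.flat hE
    refine h1 k S E hS ⟨e⟩ hE hS₁ hS₂ hS₃ hA (ih S.X₃ hS₃ fun p hp => ?_)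
    exact shift π hS hS₃ hA (by omega) ((h (p + 1) (by omega)).of_iso
      ((Coh.Rpush π (p + 1)).mapIso (TensorMod.Basic.tensorIso (Iso.refl F) e)))

/-- Two homomorphisms agreeing on the classes of acyclic bundles are equal. -/
theorem hom_ext (hs : Setup π F d) {M : Type v} [AddCommGroup M] {a b : SGA6.Kvb X →+ M}
    (h : ∀ E, FlatMod.IsFinLocFree E → Acyc π F E → a (KRR.cl X E) = b (KRR.cl X E)) : a = b :=
  KRes.KSub.hom_ext (P := KRR.vbP X) fun E hE => by
    refine induction hs (Q := fun _ E => a (KRR.cl X E) = b (KRR.cl X E)) h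
      (fun k S E hS ⟨e⟩ hE h₁ h₂ h₃ hA ih => ?_) hE
    have hr : KRR.cl X S.X₂ = KRR.cl X S.X₁ + KRR.cl X S.X₃ :=
      KRes.KSub.rel (P := KRR.vbP X) hS h₁ h₂ h₃
    have h2 := h S.X₂ h₂ hA
    rw [hr, map_add, map_add, ih] at h2
    rw [← KAugNil98.Main.cl_iso e h₁]
    exact add_right_cancel h2

end

end Groth.Agent.Lib.KVec.RelGen
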