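import Mathlib.Algebra.Homology.ShortComplex.ShortExact
import Mathlib.Algebra.Homology.HomologicalComplex
import Mathlib.Algebra.Homology.ShortComplex.HomologicalComplex

/-!
# Splicing a short exact sequence in front of an exact cochain complex
-/

set_option autoImplicit false
set_option linter.style.haveILetI false
universe v u

open CategoryTheory CategoryTheory.Limits

namespace Groth.Agent.Lib.KVec.Splice

noncomputable section

variable {A : Type u} [Category.{v} A] [Abelian A] (S : ShortComplex A) (C : CochainComplex A ℕ)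
  (e : C.X 0 ≅ S.X₃)

/-- The objects of the spliced complex. -/
def obj : ℕ → A
  | 0 => S.X₁
  | 1 => S.X₂
  | i + 2 => C.X (i + 1)

/-- The differentials of the spliced complex. -/
def diff : ∀ i, obj S C i ⟶ obj S C (i + 1)
  | 0 => S.f
  | 1 => S.g ≫ e.inv ≫ C.d 0 1
  | i + 2 => C.d (i + 1) (i + 2)

theorem diff_comp : ∀ i, diff S C e i ≫ diff S C e (i + 1) = 0
  | 0 => by
    show S.f ≫ S.g ≫ e.inv ≫ C.d 0 1 = 0
    rw [← Category.assoc, S.zero, zero_comp]
  | 1 => by
    show (S.g ≫ e.inv ≫ C.d 0 1) ≫ C.d 1 2 = 0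
    simp
  | i + 2 => C.d_comp_d _ _ _

/-- The spliced complex. -/
def complex : CochainComplex A ℕ := CochainComplex.of (obj S C) (diff S C e) (diff_comp S C e)

theorem complex_d (i : ℕ) : (complex S C e).d i (i + 1) = diff S C e i := CochainComplex.of_d _ _ _

theorem mono_d0 (hC : C.Acyclic) : Mono (C.d 0 1) := by
  have h := hC 0
  rw [C.exactAt_iff' 0 0 1 (by simp) (by simp)] at h
  exact h.mono_g (C.shape _ _ (by simp))

theorem acyclic (hS : S.ShortExact) (hC : C.Acyclic) : (complex S C e).Acyclic := by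
  haveI := hS.mono_f
  haveI := hS.epi_g
  haveI := mono_d0 C hC
  intro i
  match i with
  | 0 =>
    rw [(complex S C e).exactAt_iff' 0 0 1 (by simp) (by simp)]
    refine (ShortComplex.exact_iff_mono _ ((complex S C e).shape 0 0 (by simp))).2 ?_
    show Mono ((complex S C e).d 0 1)
    rw [complex_d]
    exact hS.mono_f
  | 1 =>
    rw [(complex S C e).exactAt_iff' 0 1 2 (by simp) (by simp)]
    let φ : S ⟶ (complex S C e).sc' 0 1 2 :=
      { τ₁ := 𝟙 _, τ₂ := 𝟙 _, τ₃ := e.inv ≫ C.d 0 1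
        comm₁₂ := by
          show 𝟙 S.X₁ ≫ (complex S C e).d 0 1 = S.f ≫ 𝟙 _
          rw [complex_d, Category.comp_id]
          exact Category.id_comp _
        comm₂₃ := by
          show 𝟙 S.X₂ ≫ (complex S C e).d 1 2 = S.g ≫ e.inv ≫ C.d 0 1
          rw [complex_d]
          exact Category.id_comp _ }
    haveI : Epi φ.τ₁ := inferInstanceAs (Epi (𝟙 _))
    haveI : IsIso φ.τ₂ := inferInstanceAs (IsIso (𝟙 _))
    haveI : Mono φ.τ₃ := inferInstanceAs (Mono (e.inv ≫ C.d 0 1))
    exact (ShortComplex.exact_iff_of_epi_of_isIso_of_mono φ).1 hS.exact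
  | 2 =>
    rw [(complex S C e).exactAt_iff' 1 2 3 (by simp) (by simp)]
    let φ : (complex S C e).sc' 1 2 3 ⟶ C.sc' 0 1 2 :=
      { τ₁ := S.g ≫ e.inv, τ₂ := 𝟙 _, τ₃ := 𝟙 _
        comm₁₂ := by
          show (S.g ≫ e.inv) ≫ C.d 0 1 = (complex S C e).d 1 2 ≫ 𝟙 _
          rw [complex_d, Category.assoc]
          exact (Category.comp_id _).symm
        comm₂₃ := by
          show 𝟙 _ ≫ C.d 1 2 = (complex S C e).d 2 3 ≫ 𝟙 _
          rw [complex_d, Category.id_comp]
          exact (Category.comp_id _).symm }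
    haveI : Epi φ.τ₁ := inferInstanceAs (Epi (S.g ≫ e.inv))
    haveI : IsIso φ.τ₂ := inferInstanceAs (IsIso (𝟙 _))
    haveI : Mono φ.τ₃ := inferInstanceAs (Mono (𝟙 _))
    have h := hC 1
    rw [C.exactAt_iff' 0 1 2 (by simp) (by simp)] at h
    exact (ShortComplex.exact_iff_of_epi_of_isIso_of_mono φ).2 h
  | j + 3 =>
    rw [(complex S C e).exactAt_iff' (j + 2) (j + 3) (j + 4) (by simp) (by simp)]
    have h := hC (j + 2)
    rw [C.exactAt_iff' (j + 1) (j + 2) (j + 3) (by simp) (by simp)] at h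
    refine (ShortComplex.exact_iff_of_iso ?_).2 h
    exact ShortComplex.isoMk (Iso.refl _) (Iso.refl _) (Iso.refl _)
      (by show 𝟙 _ ≫ C.d (j + 1) (j + 2) = (complex S C e).d (j + 2) (j + 3) ≫ 𝟙 _
          rw [complex_d, Category.id_comp]; exact (Category.comp_id _).symm)
      (by show 𝟙 _ ≫ C.d (j + 2) (j + 3) = (complex S C e).d (j + 3) (j + 4) ≫ 𝟙 _
          rw [complex_d, Category.id_comp]; exact (Category.comp_id _).symm)

end

end Groth.Agent.Lib.KVec.Splice
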