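import Groth.Agent.Lib.KVec.ZeroScheme
import Groth.Agent.Lib.KVec.PushCl
import Groth.Agent.Lib.KVec.PullCl
import Groth.Agent.H19.IntMult.TorIndep
import Groth.Agent.H25.TorLES
import Groth.Agent.Lib.ZarCoh.AffineBC
import Groth.Agent.Lib.Ideal.Comap
import Groth.Agent.Lib.StalkLoc.Basic
import Groth.Agent.Lib.DerivedOX.PullbackStalk
import Groth.Agent.Lib.TensorMod.LocFree
import Mathlib.CategoryTheory.Abelian.Projective.Resolution

/-!
# Base change of resolutions along Tor-independent squares of regular closed immersions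
-/

set_option autoImplicit false
set_option linter.style.haveILetI false
set_option linter.unusedSectionVars false
universe v u

open CategoryTheory CategoryTheory.Limits AlgebraicGeometry TopologicalSpace RingTheory.Sequence
open scoped TensorProduct

namespace Groth.Agent.Lib.KVec.TorIndepBC

open Groth.Agent.Lib Groth.Agent.Lib.Modules.StalkModule

noncomputable section

/-- The length of a regular sequence cutting out `X` is the rank of the conormal sheaf. -/
theorem length_eq {X Y : Scheme.{u}} (i : X ⟶ Y) [IsClosedImmersion i] {d : ℕ}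
    (hci : FlatMod.IsFinLocFreeOfRank d (Omega.conormal i)) {V : Y.Opens} (hV : IsAffineOpen V)
    (rs : List Γ(Y, V)) (hreg : IsWeaklyRegular Γ(Y, V) rs)
    (hker : RingHom.ker (i.app V).hom = Ideal.ofList rs) (z : X) (hz : i.base z ∈ V) : rs.length = d := by
  obtain ⟨B⟩ := FundLocal.Rank.nonempty_basis i hV (fun k : Fin rs.length => rs.get k)
    (by rw [List.ofFn_get]; exact hreg)
    (by rw [hker, Ideal.ofList]; congr 1; ext a; exact List.mem_iff_get) z hz
  obtain ⟨A, hzA, ⟨e⟩⟩ := hci z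
  obtain ⟨w, hw⟩ := Pinch.StalkFrame.exists_isFrame_of_iso e
  let B' : Module.Basis (Fin d) (X.presheaf.stalk z) ((Omega.conormal i).presheaf.stalk z) :=
    Module.Basis.ofEquivFun (LinearEquiv.ofBijective
      (Fintype.linearCombination (X.presheaf.stalk z) fun k => (Omega.conormal i).presheaf.germ A z hzA (w k))
      (by
        convert hw z hzA using 1
        exact funext fun c => Fintype.linearCombination_apply _ _ c)).symm
  simpa using Fintype.card_congr (B.indexEquiv B')

section Algebra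

variable {A₀ A : Type u} [CommRing A₀] [CommRing A] [Algebra A₀ A]

/-- `Tor_{>0}^A(B, A ⊗ N₀)` vanishes for `N₀` projective over a quotient by a sequence regular on `A` and `B`. -/
theorem isZero_tor_extend (rs : List A₀) (hA : IsWeaklyRegular A (rs.map (algebraMap A₀ A)))
    (B : ModuleCat.{u} A) (hB : IsWeaklyRegular B (rs.map (algebraMap A₀ A)))
    {Q N₀ : Type u} [CommRing Q] [Algebra A₀ Q] (hs : Function.Surjective (algebraMap A₀ Q))
    (hker : RingHom.ker (algebraMap A₀ Q) = Ideal.ofList rs)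
    [AddCommGroup N₀] [Module A₀ N₀] [Module Q N₀] [IsScalarTower A₀ Q N₀]
    [Module.Finite Q N₀] [Module.Projective Q N₀] (i : ℕ) :
    IsZero (((CategoryTheory.Tor (ModuleCat.{u} A) (i + 1)).obj B).obj (ModuleCat.of A (A ⊗[A₀] N₀))) := by
  classical
  let T : ModuleCat.{u} A₀ ⥤ ModuleCat.{u} A :=
    Tor.BaseChange.bc A₀ A ⋙ (CategoryTheory.Tor (ModuleCat.{u} A) (i + 1)).obj B
  haveI : ((CategoryTheory.Tor (ModuleCat.{u} A) (i + 1)).obj B).Additive := H25.TorLES.T_additive B (i + 1)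
  have hQ : IsZero (T.obj (ModuleCat.of A₀ Q)) := by
    let I := Ideal.ofList rs
    have hI : I.map (algebraMap A₀ A) = Ideal.ofList (rs.map (algebraMap A₀ A)) := Ideal.map_ofList _ _
    let e₀ : (A₀ ⧸ I) ≃ₗ[A₀] Q := (Submodule.quotEquivOfEq _ _
      (show I = LinearMap.ker (Algebra.linearMap A₀ Q) by
        ext a; show a ∈ Ideal.ofList rs ↔ _; rw [← hker]; rfl)).trans
      (LinearMap.quotKerEquivOfSurjective (Algebra.linearMap A₀ Q) hs)
    let e : (A ⧸ Ideal.ofList (rs.map (algebraMap A₀ A))) ≃ₗ[A] A ⊗[A₀] Q :=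
      (Submodule.quotEquivOfEq _ _ hI.symm).trans
        ((Algebra.TensorProduct.quotIdealMapEquivTensorQuot A I).toLinearEquiv.trans
          (TensorProduct.AlgebraTensorModule.congr (LinearEquiv.refl A A) e₀))
    haveI := H19.IntMult.TorIndep.subsingleton_tor_of_regular _ hA B hB i
    exact ((ModuleCat.isZero_of_subsingleton _).of_iso
      (Tor.Balance.torFlipIso (ModuleCat.of A _) B (i + 1)).symm).of_iso
      (((CategoryTheory.Tor (ModuleCat.{u} A) (i + 1)).obj B).mapIso e.toModuleIso).symm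
  obtain ⟨k, f, g, -, -, hfg⟩ := Module.Finite.exists_comp_eq_id_of_projective Q N₀
  let p : Fin k → (ModuleCat.of A₀ N₀ ⟶ ModuleCat.of A₀ Q) := fun j =>
    ModuleCat.ofHom ((LinearMap.proj j).comp (g.restrictScalars A₀))
  let q : Fin k → (ModuleCat.of A₀ Q ⟶ ModuleCat.of A₀ N₀) := fun j =>
    ModuleCat.ofHom ((f.restrictScalars A₀).comp (LinearMap.single A₀ (fun _ : Fin k => Q) j))
  have hid : 𝟙 (ModuleCat.of A₀ N₀) = ∑ j, p j ≫ q j := by
    refine ModuleCat.hom_ext (LinearMap.ext fun n => ?_)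
    rw [ModuleCat.hom_sum, LinearMap.sum_apply]
    refine (LinearMap.congr_fun hfg n).symm.trans ?_
    show f (g n) = ∑ j, f (Pi.single j (g n j))
    rw [← map_sum, Finset.univ_sum_single]
  show IsZero (T.obj (ModuleCat.of A₀ N₀))
  rw [IsZero.iff_id_eq_zero, ← T.map_id, hid, T.map_sum]
  exact Finset.sum_eq_zero fun j _ => by rw [T.map_comp, hQ.eq_of_tgt (T.map (p j)) 0, zero_comp]

end Algebra

variable {X Y P M : Scheme.{u}} (F : P ⟶ M) (φ : Y ⟶ M) {f : X ⟶ Y} {ψ : X ⟶ P}
  (hsq : IsPullback f ψ φ F) [IsNoetherian Y] [IsNoetherian M]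
  (hF : Mor2.IsRegularClosedImmersion F) (hf : Mor2.IsRegularClosedImmersion f) {d : ℕ}
  (hcF : FlatMod.IsFinLocFreeOfRank d (Omega.conormal F)) (hcf : FlatMod.IsFinLocFreeOfRank d (Omega.conormal f))

include hsq hF hf hcF hcf in
/-- The equations of `P` stay regular on the local rings of `Y`. -/
theorem exists_regular_stalk (y : Y) (hy : φ.base y ∈ Set.range F.base) :
    ∃ (U : M.affineOpens) (hU : φ.base y ∈ U.1) (rs : List Γ(M, U.1)), IsWeaklyRegular Γ(M, U.1) rs ∧
      RingHom.ker (F.app U.1).hom = Ideal.ofList rs ∧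
      IsWeaklyRegular (Y.presheaf.stalk y)
        (rs.map fun a => (φ.stalkMap y).hom (M.presheaf.germ U.1 (φ.base y) hU a)) := by
  haveI := hF.1
  haveI := hf.1
  obtain ⟨q, hq⟩ := hy
  obtain ⟨x, hx, -⟩ := Scheme.exists_preimage_of_isPullback hsq y q hq.symm
  obtain ⟨U₀, hU₀, hqU, rs, hrs, hI⟩ := hF.2 q
  rw [hq] at hqU
  let U : M.affineOpens := ⟨U₀, hU₀⟩
  rw [Scheme.Hom.ker_apply] at hI
  refine ⟨U, hqU, rs, hrs.toIsWeaklyRegular, hI, ?_⟩
  have hlen := length_eq F hcF hU₀ rs hrs.toIsWeaklyRegular hI q (hq.symm ▸ hqU)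
  obtain ⟨V₀, hV₀, hxV, bs, hbs, hJ⟩ := hf.2 x
  rw [hx] at hxV
  obtain ⟨g, hgle, hyg⟩ := hV₀.exists_basicOpen_le (⟨y, hqU⟩ : (φ ⁻¹ᵁ U₀ : Y.Opens)) hxV
  let V : Y.affineOpens := ⟨Y.basicOpen g, hV₀.basicOpen g⟩
  let _ := (QCoh.Localizing.resR (Y.basicOpen_le g)).toAlgebra
  haveI : IsLocalization.Away g Γ(Y, V.1) := hV₀.isLocalization_basicOpen g
  let bs₁ := bs.map (algebraMap Γ(Y, V₀) Γ(Y, V.1))
  have hreg₁ : IsWeaklyRegular Γ(Y, V.1) bs₁ := hbs.toIsWeaklyRegular.of_isLocalization _ (Submonoid.powers g)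
  have hkerV : f.ker.ideal V = Ideal.ofList bs₁ := by
    rw [← Scheme.IdealSheafData.map_ideal f.ker (U := V) (V := ⟨V₀, hV₀⟩) (Y.basicOpen_le g), hJ, Ideal.map_ofList]
    rfl
  have hlen₁ := length_eq f hcf V.2 bs₁ hreg₁ (by rw [← Scheme.Hom.ker_apply]; exact hkerV) x (hx.symm ▸ hyg)
  have hker : f.ker = F.ker.comap φ := by
    rw [← Scheme.IdealSheafData.ker_fst_of_isClosedImmersion, ← Scheme.Hom.ker_comp_of_isIso hsq.isoPullback.hom,
      hsq.isoPullback_hom_fst]
  have hmap : f.ker.ideal V = Ideal.map (φ.appLE U₀ V.1 hgle).hom (Ideal.ofList rs) := by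
    rw [hker, Groth.Agent.Lib.Ideal.Comap.ideal_comap φ F.ker U V hgle, Scheme.Hom.ker_apply, hI]
  rw [Ideal.map_ofList] at hmap
  let B := Y.presheaf.stalk y
  let γ : Γ(Y, V.1) →+* B := (Y.presheaf.germ V.1 y hyg).hom
  have hgerm : ∀ a, (φ.stalkMap y).hom (M.presheaf.germ U₀ (φ.base y) hqU a) = γ ((φ.appLE U₀ V.1 hgle).hom a) := by
    intro a
    refine (Scheme.Hom.germ_stalkMap_apply φ U₀ y hqU a).trans ?_
    exact (TopCat.Presheaf.germ_res_apply Y.presheaf (homOfLE hgle) y hyg (φ.app U₀ a)).symm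
  have hmem : ∀ c ∈ bs₁, γ c ∈ Ideal.span (Set.range fun k : Fin rs.length => γ ((φ.appLE U₀ V.1 hgle).hom (rs.get k))) := by
    intro c hc
    have h1 : c ∈ Ideal.ofList (rs.map (φ.appLE U₀ V.1 hgle).hom) := by
      rw [← hmap, hkerV]; exact Ideal.subset_span hc
    have h2 := Ideal.mem_map_of_mem γ h1
    rw [Ideal.map_ofList, List.map_map] at h2
    refine Ideal.span_mono ?_ h2
    rintro a ha
    obtain ⟨b, hb, rfl⟩ := List.mem_map.1 ha
    obtain ⟨k, rfl⟩ := List.mem_iff_get.1 hb
    exact ⟨k, rfl⟩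
  have hm : ∀ k : Fin rs.length, γ ((φ.appLE U₀ V.1 hgle).hom (rs.get k)) ∈ IsLocalRing.maximalIdeal B := by
    intro k hu
    have h1 : (φ.appLE U₀ V.1 hgle).hom (rs.get k) ∈ RingHom.ker (f.app V.1).hom := by
      rw [← Scheme.Hom.ker_apply, hmap]
      exact Ideal.subset_span (List.mem_map.2 ⟨_, List.get_mem _ _, rfl⟩)
    subst hx
    have h2 := hu.map (f.stalkMap x).hom
    change IsUnit ((f.stalkMap x).hom (Y.presheaf.germ V.1 (f.base x) hyg _)) at h2
    rw [Scheme.Hom.germ_stalkMap_apply, show (f.app V.1) _ = 0 from h1, map_zero] at h2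
    exact not_isUnit_zero h2
  let _ := TopCat.Presheaf.algebra_section_stalk Y.presheaf (⟨y, hyg⟩ : V.1)
  haveI := V.2.isLocalization_stalk ⟨y, hyg⟩
  have hbsB : IsWeaklyRegular B (bs₁.map γ) :=
    hreg₁.of_isLocalization B (V.2.primeIdealOf ⟨y, hyg⟩).asIdeal.primeCompl
  haveI : IsNoetherianRing B := inferInstance
  have := ZeroScheme.isWeaklyRegular_of_length _ hm (bs₁.map γ) (by rw [List.length_map, hlen₁, hlen]) hbsB
    (fun c hc => by
      obtain ⟨a, ha, rfl⟩ := List.mem_map.1 hc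
      exact hmem a ha)
  rw [show (List.ofFn fun k : Fin rs.length => γ ((φ.appLE U₀ V.1 hgle).hom (rs.get k))) =
    rs.map (fun a => γ ((φ.appLE U₀ V.1 hgle).hom a)) from by
      conv_rhs => rw [← List.ofFn_get rs, List.map_ofFn]
      rfl] at this
  exact (List.map_congr_left fun a _ => hgerm a) ▸ this

variable {G : P.Modules} (hG : FlatMod.IsFinLocFree G)

include hsq hF hf hcF hcf hG in
/-- The stalks of `F_* G` are Tor-independent of the local rings of `Y`. -/
theorem isZero_tor_stalk (y : Y) (i : ℕ) :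
    letI : Algebra (M.presheaf.stalk (φ.base y)) (Y.presheaf.stalk y) := (φ.stalkMap y).hom.toAlgebra
    IsZero (((CategoryTheory.Tor (ModuleCat.{u} (M.presheaf.stalk (φ.base y))) (i + 1)).obj
      (ModuleCat.of (M.presheaf.stalk (φ.base y)) (Y.presheaf.stalk y))).obj
      ((stalkModFunctor M (φ.base y)).obj ((Scheme.Modules.pushforward F).obj G))) := by
  letI : Algebra (M.presheaf.stalk (φ.base y)) (Y.presheaf.stalk y) := (φ.stalkMap y).hom.toAlgebra
  haveI := hF.1
  let A := M.presheaf.stalk (φ.base y)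
  let N := (Scheme.Modules.pushforward F).obj G
  let B := ModuleCat.of A (Y.presheaf.stalk y)
  haveI : ((CategoryTheory.Tor (ModuleCat.{u} A) (i + 1)).obj B).Additive := H25.TorLES.T_additive B (i + 1)
  by_cases hy : φ.base y ∈ Set.range F.base
  · obtain ⟨U, hU, rs, hreg, hker, hregB⟩ := exists_regular_stalk F φ hsq hF hf hcF hcf y hy
    haveI := Modules.AffineSections.isQCoh_of_isFinLocFree hG
    haveI : N.IsQuasicoherent := QCoh.Pushforward.isQCoh_pushforward (f := F) (M := G)
    have hV : IsAffineOpen (F ⁻¹ᵁ U.1) := U.2.preimage F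
    obtain ⟨hfin, hproj⟩ := Modules.AffineSections.finite_projective_sections hG hV
    letI : Algebra Γ(M, U.1) Γ(P, F ⁻¹ᵁ U.1) := (F.app U.1).hom.toAlgebra
    letI : Module Γ(M, U.1) Γ(G, F ⁻¹ᵁ U.1) := Module.compHom _ (F.app U.1).hom
    haveI : IsScalarTower Γ(M, U.1) Γ(P, F ⁻¹ᵁ U.1) Γ(G, F ⁻¹ᵁ U.1) :=
      IsScalarTower.of_algebraMap_smul fun _ _ => rfl
    letI := TopCat.Presheaf.algebra_section_stalk M.presheaf (⟨φ.base y, hU⟩ : U.1)
    haveI := U.2.isLocalization_stalk ⟨φ.base y, hU⟩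
    let S := (U.2.primeIdealOf ⟨φ.base y, hU⟩).asIdeal.primeCompl
    have hB : IsWeaklyRegular B (rs.map (algebraMap Γ(M, U.1) A)) := by
      refine (isWeaklyRegular_map_algebraMap_iff (S := Y.presheaf.stalk y) (M := Y.presheaf.stalk y)
        (rs.map (algebraMap Γ(M, U.1) A))).1 ?_
      rw [List.map_map]
      exact hregB
    have hz := isZero_tor_extend (A₀ := Γ(M, U.1)) rs (hreg.of_isLocalization A S) B hB
      (Q := Γ(P, F ⁻¹ᵁ U.1)) (N₀ := Γ(G, F ⁻¹ᵁ U.1)) (F.app_surjective U.1 U.2) hker i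
    letI := StalkLoc.Basic.moduleSections N hU
    haveI := StalkLoc.Basic.isScalarTower_sections N hU
    haveI := StalkLoc.Basic.isLocalizedModule_germ (M := N) U.2 hU
    have hb := IsLocalizedModule.isBaseChange S A (StalkLoc.Basic.germₗ N hU)
    exact hz.of_iso (((CategoryTheory.Tor (ModuleCat.{u} A) (i + 1)).obj B).mapIso hb.equiv.toModuleIso).symm
  · haveI := PullCl.subsingleton_stalk_push F G hy
    exact Functor.map_isZero _ (@ModuleCat.isZero_of_subsingleton _ _ _ (PullCl.subsingleton_stalk_push F G hy))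

include hsq hF hf hcF hcf hG in
/-- The pullback of a resolution of `F_* G` is a resolution of `f_* ψ^* G`. -/
theorem exists_lfRes_baseChange {n : ℕ} {L : ChainComplex M.Modules ℕ}
    {π : L ⟶ (ChainComplex.single₀ M.Modules).obj ((Scheme.Modules.pushforward F).obj G)}
    (hL : KRR.IsLFRes ((Scheme.Modules.pushforward F).obj G) n L π) :
    ∃ π' : ((Scheme.Modules.pullback φ).mapHomologicalComplex (ComplexShape.down ℕ)).obj L ⟶
        (ChainComplex.single₀ Y.Modules).obj ((Scheme.Modules.pushforward f).obj ((Scheme.Modules.pullback ψ).obj G)),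
      KRR.IsLFRes ((Scheme.Modules.pushforward f).obj ((Scheme.Modules.pullback ψ).obj G)) n
        (((Scheme.Modules.pullback φ).mapHomologicalComplex (ComplexShape.down ℕ)).obj L) π' := by
  haveI := hF.1
  haveI := hL.quasiIso
  haveI := Modules.AffineSections.isQCoh_of_isFinLocFree hG
  let N := (Scheme.Modules.pushforward F).obj G
  let K := ((Scheme.Modules.pullback φ).mapHomologicalComplex (ComplexShape.down ℕ)).obj L
  haveI := ZarCoh.AffineBC.isIso_bc hsq.flip G
  let e : (Scheme.Modules.pullback φ).obj N ≅ (Scheme.Modules.pushforward f).obj ((Scheme.Modules.pullback ψ).obj G) :=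
    asIso (ZarCoh.AffineBC.bc hsq.flip G)
  have h0 : L.d 1 0 ≫ π.f 0 = 0 := (π.comm 1 0).symm.trans comp_zero
  haveI : PreservesColimitsOfSize.{u, u} (Scheme.Modules.pullback φ) :=
    (Scheme.Modules.pullbackPushforwardAdjunction φ).leftAdjoint_preservesColimits
  haveI : PreservesFiniteColimits (Scheme.Modules.pullback φ) :=
    PreservesColimitsOfSize.preservesFiniteColimits _
  have hq0 : (ShortComplex.mk (L.d 1 0) (π.f 0) h0).Exact ∧ Epi (π.f 0) := by
    have h := (ShortComplex.quasiIso_iff_of_zeros' _ (L.shape 0 0 (by simp)) rfl rfl).1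
      ((ChainComplex.quasiIsoAt₀_iff π).1 inferInstance)
    refine (ShortComplex.exact_and_epi_g_iff_of_iso ?_).1 h
    exact ShortComplex.isoMk (Iso.refl _) (Iso.refl _) (Iso.refl _)
      ((Category.id_comp _).trans (Category.comp_id _).symm) ((Category.id_comp _).trans (Category.comp_id _).symm)
  haveI := hq0.2
  haveI : Epi ((Scheme.Modules.pullback φ).map (π.f 0)) := inferInstance
  have hex0 := hq0.1.map_of_epi_of_preservesCokernel (Scheme.Modules.pullback φ) hq0.2 inferInstance
  let π₀ := (Scheme.Modules.pullback φ).map (π.f 0) ≫ e.hom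
  have hz : K.d 1 0 ≫ π₀ = 0 := by
    show (Scheme.Modules.pullback φ).map (L.d 1 0) ≫ (Scheme.Modules.pullback φ).map (π.f 0) ≫ e.hom = 0
    rw [← Functor.map_comp_assoc, h0, Functor.map_zero, zero_comp]
  refine ⟨(ChainComplex.toSingle₀Equiv K _).symm ⟨π₀, hz⟩,
    fun k => TensorMod.LocFree.isFinLocFree_pullback φ (hL.finLocFree k),
    fun k hk => Functor.map_isZero _ (hL.isZero k hk), ⟨fun k => ?_⟩⟩
  rcases k with _ | k
  · rw [ChainComplex.quasiIsoAt₀_iff, ShortComplex.quasiIso_iff_of_zeros' _ (K.shape 0 0 (by simp)) rfl rfl]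
    refine (ShortComplex.exact_and_epi_g_iff_of_iso ?_).2
      (show ((ShortComplex.mk (L.d 1 0) (π.f 0) h0).map (Scheme.Modules.pullback φ)).Exact ∧
        Epi ((Scheme.Modules.pullback φ).map (π.f 0)) from ⟨hex0, inferInstance⟩)
    exact ShortComplex.isoMk (Iso.refl _) (Iso.refl _) e.symm
      ((Category.id_comp _).trans (Category.comp_id _).symm)
      ((Category.id_comp _).trans (((Category.assoc _ _ _).trans ((congrArg (_ ≫ ·) e.hom_inv_id).trans (Category.comp_id _))).symm))
  · rw [quasiIsoAt_iff_exactAt']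
    · rw [HomologicalComplex.exactAt_iff_isZero_homology, Modules.Stalk.isZero_iff_stalk_subsingleton]
      intro y
      letI : Algebra (M.presheaf.stalk (φ.base y)) (Y.presheaf.stalk y) := (φ.stalkMap y).hom.toAlgebra
      haveI : PreservesFiniteColimits (stalkModFunctor M (φ.base y)) :=
        PreservesColimitsOfSize.preservesFiniteColimits _
      haveI : PreservesFiniteColimits (stalkModFunctor Y y) :=
        PreservesColimitsOfSize.preservesFiniteColimits _
      let A := M.presheaf.stalk (φ.base y)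
      let R : ProjectiveResolution ((stalkModFunctor M (φ.base y)).obj N) :=
        { complex := ((stalkModFunctor M (φ.base y)).mapHomologicalComplex _).obj L
          projective := fun m => Devissage.LocFreeK0.projective_of_locFree (hL.finLocFree m) (φ.base y)
          π := ((stalkModFunctor M (φ.base y)).mapHomologicalComplex _).map π ≫
            (HomologicalComplex.singleMapHomologicalComplex (stalkModFunctor M (φ.base y)) (ComplexShape.down ℕ) 0).hom.app N
          quasiIso := inferInstance }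
      have htor := (isZero_tor_stalk F φ hsq hF hf hcF hcf hG y k).of_iso
        (Tor.Balance.torFlipIso ((stalkModFunctor M (φ.base y)).obj N) (ModuleCat.of A (Y.presheaf.stalk y)) (k + 1))
      have hright := htor.of_iso (Tor.Balance.torObjIso R (ModuleCat.of A (Y.presheaf.stalk y)) (k + 1)).symm
      haveI := ModuleCat.subsingleton_of_isZero hright
      let C := ((Tor.BaseChange.bc A (Y.presheaf.stalk y)).mapHomologicalComplex (ComplexShape.down ℕ)).obj R.complex
      obtain ⟨θ, hθ⟩ := Tor.BaseChange.exists_semilinear A (Y.presheaf.stalk y) (K := C)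
        ((NatIso.mapHomologicalComplex (Tor.BaseChange.bcRestrictIso A (Y.presheaf.stalk y) ≪≫
          BraidedCategory.tensorLeftIsoTensorRight (ModuleCat.of A (Y.presheaf.stalk y))) _).app R.complex) (k + 1)
      have hC : IsZero (C.homology (k + 1)) := by
        haveI : Subsingleton (C.homology (k + 1)) := hθ.surjective.subsingleton
        exact ModuleCat.isZero_of_subsingleton _
      haveI : IsIso (DerivedOX.PullbackStalk.comparison φ y) := NatIso.isIso_of_isIso_app _
      have hC' : IsZero ((((stalkModFunctor Y y).mapHomologicalComplex _).obj K).homology (k + 1)) :=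
        hC.of_iso ((HomologicalComplex.homologyFunctor _ _ (k + 1)).mapIso
          ((NatIso.mapHomologicalComplex (asIso (DerivedOX.PullbackStalk.comparison φ y)) _).app L)).symm
      exact ModuleCat.subsingleton_of_isZero (hC'.of_iso ((K.sc (k + 1)).mapHomologyIso (stalkModFunctor Y y)).symm)
    · exact HomologicalComplex.exactAt_single_obj _ _ _ _ (by simp)

include hsq hF hf hcF hcf in
/-- `φ^* ∘ F_K = f_K ∘ ψ^*`. -/
theorem pull_push (hMe : KRR.HasEnoughLocFree M) {KX KY KP KM : Type v} [CommRing KX] [CommRing KY] [CommRing KP]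
    [CommRing KM] {φX : SGA6.Kvb X →+ KX} {φY : SGA6.Kvb Y →+ KY} {φP : SGA6.Kvb P →+ KP}
    {φM : SGA6.Kvb M →+ KM} (hφP : Function.Surjective φP)
    {gφ : KM →+ KY} (hgφ : KRR.IsPull φ φM φY gφ) {gψ : KP →+ KX} (hgψ : KRR.IsPull ψ φP φX gψ)
    {gF : KP →+ KM} (hgF : KRR.IsPushCl F φP φM gF) {gf : KX →+ KY} (hgf : KRR.IsPushCl f φX φY gf) (p : KP) :
    gφ (gF p) = gf (gψ p) := by
  obtain ⟨a, rfl⟩ := hφP p
  refine DFunLike.congr_fun (KRes.KSub.hom_ext (P := KRR.vbP P) (φ := gφ.comp (gF.comp φP))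
    (ψ := gf.comp (gψ.comp φP)) fun G hG => ?_) a
  change gφ (gF (φP (KRR.cl P G))) = gf (gψ (φP (KRR.cl P G)))
  obtain ⟨n, L, π, hL⟩ := Devissage.LFResIff.hasLFRes_of_bpd hMe (PushBPD.bpd_push F hF hG)
  obtain ⟨π', hL'⟩ := exists_lfRes_baseChange F φ hsq hF hf hcF hcf hG hL
  rw [hgψ G hG, hgf _ (TensorMod.LocFree.isFinLocFree_pullback ψ hG) n _ π' hL', hgF G hG n L π hL, map_sum]
  refine Finset.sum_congr rfl fun k _ => ?_
  rw [map_zsmul, hgφ _ (hL.finLocFree k)]
  rfl

end

end Groth.Agent.Lib.KVec.TorIndepBC
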